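import Mathlib.GroupTheory.SpecificGroups.Alternating
import Mathlib.GroupTheory.GroupAction.MultipleTransitivity
import Mathlib.GroupTheory.GroupAction.Quotient
import Mathlib.GroupTheory.Sylow
import Mathlib.Tactic.NormNum.Prime

/-!
# A Sylow 2-subgroup of `A₈` has centre of order at most 8
-/

set_option autoImplicit false
set_option linter.style.haveILetI false

namespace Cfsg.Agent.H22.JanType

open Subgroup MulAction

theorem alt_eight_sylow (P : Sylow 2 ↥(alternatingGroup (Fin 8))) :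
    Nat.card ↥(P : Subgroup ↥(alternatingGroup (Fin 8))) = 64 ∧
      Nat.card ↥(center ↥(P : Subgroup ↥(alternatingGroup (Fin 8)))) ≤ 8 := by
  haveI : Fact (Nat.Prime 2) := ⟨Nat.prime_two⟩
  have h8 : Nat.card ↥(alternatingGroup (Fin 8)) = 20160 := by
    rw [nat_card_alternatingGroup, Nat.card_fin]; rfl
  have h7 : Nat.card ↥(stabilizer ↥(alternatingGroup (Fin 8)) (0 : Fin 8)) = 2520 := by
    haveI : IsPretransitive ↥(alternatingGroup (Fin 8)) (Fin 8) :=
      alternatingGroup.isPretransitive_of_three_le_card (Fin 8) (by simp)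
    have h := (stabilizer ↥(alternatingGroup (Fin 8)) (0 : Fin 8)).card_mul_index
    rw [index_stabilizer_of_transitive, Nat.card_fin, h8] at h
    omega
  have hcard : Nat.card ↥(P : Subgroup ↥(alternatingGroup (Fin 8))) = 64 := by
    obtain ⟨n, hn⟩ := IsPGroup.iff_card.1 P.2
    have h1 := (P : Subgroup ↥(alternatingGroup (Fin 8))).card_mul_index
    have h2 := P.not_dvd_index
    have h3 := Subgroup.card_subgroup_dvd_card (P : Subgroup ↥(alternatingGroup (Fin 8)))
    rw [h8, hn] at h3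
    rw [hn, h8] at h1
    have h4 : n ≤ 6 := by
      by_contra h
      have h5 : 2 ^ 7 ∣ 20160 := (Nat.pow_dvd_pow 2 (by omega : 7 ≤ n)).trans h3
      norm_num at h5
    interval_cases n <;> omega
  refine ⟨hcard, ?_⟩
  set Q := (P : Subgroup ↥(alternatingGroup (Fin 8)))
  -- the orbit of `0` has size at least 8
  have hstab : Nat.card ↥(stabilizer ↥Q (0 : Fin 8)) ≤ 8 := by
    obtain ⟨n, hn⟩ := IsPGroup.iff_card.1 (P.2.to_subgroup (stabilizer ↥Q (0 : Fin 8)))
    let ι : ↥(stabilizer ↥Q (0 : Fin 8)) →* ↥(stabilizer ↥(alternatingGroup (Fin 8)) (0 : Fin 8)) :=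
      { toFun := fun x => ⟨((x : ↥Q) : ↥(alternatingGroup (Fin 8))), x.2⟩
        map_one' := rfl
        map_mul' := fun _ _ => rfl }
    have h1 := card_dvd_of_injective ι fun a b e => Subtype.ext (Subtype.ext
      (congrArg (fun z : ↥(stabilizer ↥(alternatingGroup (Fin 8)) (0 : Fin 8)) =>
        (z : ↥(alternatingGroup (Fin 8)))) e))
    rw [hn, h7] at h1
    rw [hn]
    by_contra h
    have h5 : 4 ≤ n := by
      by_contra h6
      exact h (le_trans (Nat.pow_le_pow_right (by norm_num) (by omega : n ≤ 3)) le_rfl)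
    have h7 : 2 ^ 4 ∣ 2520 := (Nat.pow_dvd_pow 2 h5).trans h1
    norm_num at h7
  have htrans : ∀ i : Fin 8, ∃ x : ↥Q, x • (0 : Fin 8) = i := by
    have h1 := (stabilizer ↥Q (0 : Fin 8)).card_mul_index
    rw [hcard, index_stabilizer] at h1
    have h2 : 8 ≤ (orbit ↥Q (0 : Fin 8)).ncard := by nlinarith [hstab, h1]
    intro i
    have h3 : orbit ↥Q (0 : Fin 8) = Set.univ :=
      Set.eq_of_subset_of_ncard_le (Set.subset_univ _) (by rw [Set.ncard_univ, Nat.card_fin]; exact h2)
    exact (h3.symm ▸ Set.mem_univ i : i ∈ orbit ↥Q (0 : Fin 8))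
  refine le_trans (Nat.card_le_card_of_injective (fun z : ↥(center ↥Q) => (z : ↥Q) • (0 : Fin 8)) ?_)
    (by rw [Nat.card_fin])
  intro z w e
  refine Subtype.ext (Subtype.ext (Subtype.ext (Equiv.ext fun i => ?_)))
  obtain ⟨x, rfl⟩ := htrans i
  show (z : ↥Q) • (x • (0 : Fin 8)) = (w : ↥Q) • (x • (0 : Fin 8))
  rw [← mul_smul, ← mul_smul, ← mem_center_iff.1 z.2 x, ← mem_center_iff.1 w.2 x, mul_smul,
    mul_smul]
  exact congrArg (x • ·) e

end Cfsg.Agent.H22.JanType
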