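import Cfsg.Agent.Cores.PCore
import Mathlib.GroupTheory.Sylow

/-!
# Basic facts: Sylow subgroups of normal subgroups, minimal normal subgroups, the odd core
-/

set_option autoImplicit false
set_option linter.style.haveILetI false

namespace Cfsg.Agent.H22.JanType

open Subgroup

universe u

variable {G : Type u} [Group G] {p : ℕ}

/-- the intersection of a Sylow subgroup with a normal subgroup is a Sylow subgroup of it -/
theorem exists_sylow_inf_normal [Finite G] [Fact p.Prime] (S : Sylow p G) (L : Subgroup G) [L.Normal] :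
    ∃ Q : Sylow p L, (Q : Subgroup L).map L.subtype = (S : Subgroup G) ⊓ L := by
  have hQ : IsPGroup p ((S : Subgroup G).subgroupOf L) := S.isPGroup'.comap_subtype
  have hidx : ¬ p ∣ ((S : Subgroup G).subgroupOf L).index := by
    intro hdvd
    refine S.not_dvd_index (hdvd.trans ?_)
    set r := ((S : Subgroup G).subgroupOf L).index
    have h1 : Nat.card ↥((S : Subgroup G).subgroupOf L) * r = Nat.card L := Subgroup.card_mul_index _
    rw [← inf_subgroupOf_right, Nat.card_congr (subgroupOfEquivOfLe (inf_le_right)).toEquiv] at h1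
    have h2 := Cores.card_sup_mul_card_inf (S : Subgroup G) L
    have hpos : 0 < Nat.card ↥((S : Subgroup G) ⊓ L) := Nat.card_pos
    have h3 : Nat.card S * r = Nat.card ↥((S : Subgroup G) ⊔ L) := by
      refine Nat.eq_of_mul_eq_mul_right hpos ?_
      rw [h2, ← h1]; ring
    have h4 : Nat.card S * r ∣ Nat.card S * (S : Subgroup G).index := by
      rw [h3, Subgroup.card_mul_index]; exact card_subgroup_dvd_card _
    exact Nat.dvd_of_mul_dvd_mul_left Nat.card_pos h4
  exact ⟨hQ.toSylow hidx, by rw [IsPGroup.toSylow_coe, subgroupOf_map_subtype]⟩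

/-- A nontrivial finite group has a minimal normal subgroup. -/
theorem exists_minimal [Finite G] [Nontrivial G] :
    ∃ N : Subgroup G, N.Normal ∧ N ≠ ⊥ ∧
      ∀ M : Subgroup G, M.Normal → M ≠ ⊥ → M ≤ N → M = N := by
  have hne : ({N : Subgroup G | N.Normal ∧ N ≠ ⊥}).Nonempty := ⟨⊤, inferInstance, top_ne_bot⟩
  obtain ⟨N, hN, hmin⟩ := Set.Finite.exists_minimal (Set.toFinite _) hne
  exact ⟨N, hN.1, hN.2, fun M hM hM' hle => le_antisymm hle (hmin ⟨hM, hM'⟩ hle)⟩

/-- The odd core of the quotient by the odd core is trivial. -/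
theorem oddCore_quotient [Finite G] : Cfsg.oddCore (G ⧸ Cfsg.oddCore G) = ⊥ := by
  rw [eq_bot_iff]
  intro x hx
  obtain ⟨g, rfl⟩ := QuotientGroup.mk'_surjective _ x
  have h := Cores.comap_pPrimeCore_quotient (p := 2) (Cfsg.oddCore G) Cores.coprime_card_pPrimeCore
  exact (QuotientGroup.eq_one_iff g).mpr ((SetLike.ext_iff.mp h g).mp (mem_comap.mpr hx))

end Cfsg.Agent.H22.JanType
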