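import Cfsg.Agent.H22.JanType.Core
import Cfsg.Agent.S1250

/-!
# Passing to the quotient by the odd core
-/

set_option autoImplicit false
set_option linter.unusedSectionVars false
set_option linter.style.haveILetI false

namespace Cfsg.Agent.H22.JanType

open Subgroup

universe u

variable {G : Type u} [Group G] [Finite G] {A : Subgroup G} {T : Sylow 2 G}

theorem eq_one_of_two_odd {x : G} {H : Subgroup G} (hH : Odd (Nat.card ↥H)) (hx : x ∈ H)
    {T : Subgroup G} (hT : IsPGroup 2 ↥T) (hxT : x ∈ T) : x = 1 := by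
  obtain ⟨k, hk⟩ := hT ⟨x, hxT⟩
  have h1 : orderOf x ∣ 2 ^ k := orderOf_dvd_of_pow_eq_one (congrArg Subtype.val hk)
  exact orderOf_eq_one_iff.1 (Nat.eq_one_of_dvd_coprimes
    (Nat.Coprime.pow_left k (Nat.coprime_two_left.2 hH)) h1 (Subgroup.orderOf_dvd_natCard _ hx))

/-- Involutions with equal images modulo an odd normal subgroup are conjugate. -/
theorem isConj_of_mk_eq {O : Subgroup G} [O.Normal] (hO : Odd (Nat.card ↥O)) {x y : G}
    (hx : x * x = 1) (hy : y * y = 1) (h : x⁻¹ * y ∈ O) : IsConj x y := by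
  refine H26.isConj_of_odd hx hy (Odd.of_dvd_nat hO ?_)
  rw [show x * y = x⁻¹ * y by rw [inv_eq_of_mul_eq_one_left hx]]
  exact Subgroup.orderOf_dvd_natCard _ h

/-- Goldschmidt's theorem gives: `A O(G)` is normal. -/
theorem Frame.sup_oddCore_normal (hGold : GoldschmidtHyp.{u}) (P : Frame A T)
    (hsc : Cfsg.IsStronglyClosed A (T : Subgroup G))
    (hnc : ∃ a ∈ A, ∃ b ∈ A, a ≠ 1 ∧ b ≠ 1 ∧ ¬ IsConj a b) :
    (A ⊔ Cfsg.oddCore G).Normal := by
  classical
  haveI : Fact (Nat.Prime 2) := ⟨Nat.prime_two⟩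
  haveI : (Cfsg.oddCore G).Normal := inferInstance
  have hodd : Odd (Nat.card ↥(Cfsg.oddCore G)) := Cores.odd_card_oddCore
  set O := Cfsg.oddCore G with hOdef
  set f := QuotientGroup.mk' O with hf
  have hfs : Function.Surjective f := QuotientGroup.mk'_surjective O
  have hOA : ∀ {x : G}, x ∈ O → x ∈ (T : Subgroup G) → x = 1 := fun hxO hxT =>
    eq_one_of_two_odd hodd hxO T.2 hxT
  let T' : Sylow 2 (G ⧸ O) := T.mapSurjective hfs
  have hT' : (T' : Subgroup (G ⧸ O)) = (T : Subgroup G).map f := Sylow.coe_mapSurjective hfs T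
  -- the normaliser of the image
  let φ : ↥(normalizer (A : Set G)) →* ↥(normalizer ((A.map f : Subgroup (G ⧸ O)) : Set (G ⧸ O))) :=
    (f.comp (normalizer (A : Set G)).subtype).codRestrict _ fun n =>
      H39.mem_normalizer_of_conj_mem (by
        rintro _ ⟨a, ha, rfl⟩
        exact ⟨(n : G) * a * (n : G)⁻¹, (mem_normalizer_iff.1 n.2 a).1 ha, by simp⟩)
  have hφs : Function.Surjective φ := by
    rintro ⟨q, hq⟩
    obtain ⟨g, rfl⟩ := hfs q
    have hR : IsPGroup 2 ↥(A.map (MulAut.conj g).toMonoidHom) :=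
      (T.2.to_le P.le).map _
    have hRK : A.map (MulAut.conj g).toMonoidHom ≤ (T : Subgroup G) ⊔ O := by
      rintro _ ⟨a, ha, rfl⟩
      have h1 : f (g * a * g⁻¹) ∈ A.map f := by
        rw [map_mul, map_mul, map_inv]
        exact (mem_normalizer_iff.1 hq _).1 ⟨a, ha, rfl⟩
      have h2 : g * a * g⁻¹ ∈ A ⊔ O := by
        have : g * a * g⁻¹ ∈ (A.map f).comap f := h1
        rwa [comap_map_eq, hf, QuotientGroup.ker_mk'] at this
      exact sup_le_sup_right P.le O h2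
    obtain ⟨x, hx, hxT⟩ := H39.exists_conj_mem_le_sylow hR hRK T le_sup_left
    rw [← SetLike.mem_coe, Subgroup.mul_normal] at hx
    obtain ⟨s, hs, o, ho, rfl⟩ := hx
    have hn : o * g ∈ normalizer (A : Set G) := H39.mem_normalizer_of_conj_mem fun a ha => by
      have h3 := hxT _ ⟨a, ha, rfl⟩
      simp only [MulEquiv.coe_toMonoidHom, MulAut.conj_apply] at h3
      have h4 : o * g * a * (o * g)⁻¹ ∈ (T : Subgroup G) := by
        have h5 := mul_mem (mul_mem (inv_mem hs) h3) hs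
        simpa [mul_assoc] using h5
      have h6 : f (o * g * a * (o * g)⁻¹) ∈ A.map f := by
        rw [map_mul, map_mul, map_inv, map_mul, show f o = 1 from (QuotientGroup.eq_one_iff o).2 ho,
          one_mul]
        exact (mem_normalizer_iff.1 hq _).1 ⟨a, ha, rfl⟩
      obtain ⟨a', ha', he⟩ := h6
      have h7 : a'⁻¹ * (o * g * a * (o * g)⁻¹) ∈ O := QuotientGroup.eq.1 he
      have h8 := hOA h7 (mul_mem (inv_mem (P.le ha')) h4)
      rw [inv_mul_eq_one] at h8
      exact h8 ▸ ha'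
    refine ⟨⟨o * g, hn⟩, Subtype.ext ?_⟩
    show f (o * g) = f g
    rw [map_mul, show f o = 1 from (QuotientGroup.eq_one_iff o).2 ho, one_mul]
  -- the odd core centralises `A` where it normalises it
  have hcO : ∀ n : ↥(normalizer (A : Set G)), (n : G) ∈ O → P.ψ n = 1 := by
    intro n hn
    refine (P.ker_iff n).2 fun a ha => ?_
    have h1 : (n : G) * a * (n : G)⁻¹ * a⁻¹ = 1 := by
      refine hOA ?_ (P.le (mul_mem ((mem_normalizer_iff.1 n.2 a).1 ha) (inv_mem ha)))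
      rw [show (n : G) * a * (n : G)⁻¹ * a⁻¹ = (n : G) * (a * (n : G)⁻¹ * a⁻¹) by group]
      exact mul_mem hn ((inferInstance : O.Normal).conj_mem _ (inv_mem hn) a)
    rw [mul_inv_eq_one, mul_inv_eq_iff_eq_mul] at h1
    exact h1
  have hker : φ.ker ≤ P.ψ.ker := fun n hn => by
    rw [MonoidHom.mem_ker] at hn ⊢
    exact hcO n ((QuotientGroup.eq_one_iff (n : G)).1 (congrArg Subtype.val hn))
  let ψ' := φ.liftOfSurjective hφs ⟨P.ψ, hker⟩
  have hψ' : ∀ n, ψ' (φ n) = P.ψ n := fun n => MonoidHom.liftOfRightInverse_comp_apply _ _ _ _ n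
  have hinjA : ∀ a ∈ A, ∀ b ∈ A, f a = f b → a = b := fun a ha b hb e =>
    inv_mul_eq_one.1 (hOA (QuotientGroup.eq.1 e) (mul_mem (inv_mem (P.le ha)) (P.le hb)))
  have hkerA : ∀ n, P.ψ n = 1 ↔ ∀ x ∈ A.map f, f (n : G) * x = x * f (n : G) := by
    intro n
    rw [P.ker_iff]
    constructor
    · rintro h _ ⟨a, ha, rfl⟩
      rw [← map_mul, ← map_mul, h a ha]
    · intro h a ha
      have e := hinjA _ ((mem_normalizer_iff.1 n.2 a).1 ha) a ha (by
        rw [map_mul, map_mul, map_inv, h _ ⟨a, ha, rfl⟩, mul_inv_cancel_right])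
      exact mul_inv_eq_iff_eq_mul.1 e
  let P' : Frame (A.map f) T' :=
    { comm := by rintro _ ⟨a, ha, rfl⟩ _ ⟨b, hb, rfl⟩; rw [← map_mul, ← map_mul, P.comm a ha b hb]
      sq := by rintro _ ⟨a, ha, rfl⟩; rw [← map_mul, P.sq a ha, map_one]
      card := by
        rw [← P.card]
        refine (Nat.card_congr (Equiv.ofBijective
          (fun a : ↥A => (⟨f a, ⟨a, a.2, rfl⟩⟩ : ↥(A.map f))) ⟨?_, ?_⟩)).symm
        · exact fun a b e => Subtype.ext (hinjA a a.2 b b.2 (congrArg Subtype.val e))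
        · rintro ⟨_, a, ha, rfl⟩
          exact ⟨⟨a, ha⟩, rfl⟩
      le := hT' ▸ map_mono P.le
      le_norm := by
        rw [hT']
        rintro _ ⟨t, ht, rfl⟩
        exact (φ ⟨t, P.le_norm ht⟩).2
      cent := by
        rw [hT']
        rintro _ ⟨t, ht, rfl⟩ hc
        exact ⟨t, P.cent t ht ((P.ker_iff ⟨t, P.le_norm ht⟩).1 ((hkerA ⟨t, P.le_norm ht⟩).2 hc)), rfl⟩
      ψ := ψ'
      surj := fun g => by
        obtain ⟨n, rfl⟩ := P.surj g
        exact ⟨φ n, hψ' n⟩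
      ker_iff := fun q => by
        obtain ⟨n, rfl⟩ := hφs q
        rw [hψ']
        exact hkerA n }
  have hsc' : Cfsg.IsStronglyClosed (A.map f) (T' : Subgroup (G ⧸ O)) := hT' ▸ S1250.result T A hsc O
  have hnc' : ∃ a ∈ A.map f, ∃ b ∈ A.map f, a ≠ 1 ∧ b ≠ 1 ∧ ¬ IsConj a b := by
    obtain ⟨a, ha, b, hb, ha1, hb1, hab⟩ := hnc
    refine ⟨_, ⟨a, ha, rfl⟩, _, ⟨b, hb, rfl⟩,
      fun e => ha1 (hinjA a ha 1 A.one_mem (by rw [e, map_one])),
      fun e => hb1 (hinjA b hb 1 A.one_mem (by rw [e, map_one])), fun e => hab ?_⟩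
    obtain ⟨q, hq⟩ := isConj_iff.1 e
    obtain ⟨g, rfl⟩ := hfs q
    rw [← map_inv, ← map_mul, ← map_mul] at hq
    refine (isConj_iff.2 ⟨g, rfl⟩ : IsConj a (g * a * g⁻¹)).trans
      (isConj_of_mk_eq hodd ?_ (P.sq b hb) (QuotientGroup.eq.1 hq))
    rw [show g * a * g⁻¹ * (g * a * g⁻¹) = g * (a * a) * g⁻¹ by group, P.sq a ha]; group
  haveI := P'.normal hGold oddCore_quotient hsc' hnc'
  have hcm : (A.map f).comap f = A ⊔ O := by rw [comap_map_eq, hf, QuotientGroup.ker_mk']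
  exact hcm ▸ inferInstance

end Cfsg.Agent.H22.JanType
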