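import Mathlib.GroupTheory.Transfer
import Mathlib.GroupTheory.Sylow

/-!
# The odd part of a normal subgroup with central Sylow 2-subgroup
-/

set_option autoImplicit false
set_option linter.style.haveILetI false

namespace Cfsg.Agent.H22.JanType

open Subgroup

universe u

/-- A normal subgroup with a central Sylow 2-subgroup has an odd complement normal in the group. -/
theorem exists_odd_part {G : Type u} [Group G] [Finite G] (K P : Subgroup G) [hK : K.Normal] (hPK : P ≤ K)
    (hP : IsPGroup 2 P) (hidx : ¬ 2 ∣ P.relIndex K) (hcen : ∀ k ∈ K, ∀ p ∈ P, k * p = p * k) :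
    ∃ N : Subgroup G, N.Normal ∧ N ≤ K ∧ Odd (Nat.card ↥N) ∧ Nat.card ↥N * Nat.card ↥P = Nat.card ↥K := by
  haveI : Fact (Nat.Prime 2) := ⟨Nat.prime_two⟩
  let PK : Subgroup ↥K := P.subgroupOf K
  have hPK2 : IsPGroup 2 PK := hP.comap_subtype
  let S : Sylow 2 ↥K := hPK2.toSylow hidx
  have hS : (S : Subgroup ↥K) = P.subgroupOf K := IsPGroup.toSylow_coe _ _
  have hle : normalizer ((S : Subgroup ↥K) : Set ↥K) ≤ centralizer ((S : Subgroup ↥K) : Set ↥K) := by
    intro x _
    refine mem_centralizer_iff.2 fun y hy => Subtype.ext ?_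
    rw [hS] at hy
    exact (hcen x x.2 y hy).symm
  let f := MonoidHom.transferSylow S hle
  have hcompl := MonoidHom.ker_transferSylow_isComplement' S hle
  have hcard : Nat.card ↥f.ker * Nat.card ↥P = Nat.card ↥K := by
    have hc2 : Nat.card ↥(S : Subgroup ↥K) = Nat.card ↥P :=
      (congrArg (fun H : Subgroup ↥K => Nat.card ↥H) hS).trans
        (Nat.card_congr (subgroupOfEquivOfLe hPK).toEquiv)
    rw [← hc2]
    exact hcompl.card_mul
  have hodd : ¬ 2 ∣ Nat.card ↥f.ker := by
    intro h2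
    apply hidx
    show 2 ∣ (P.subgroupOf K).index
    rw [← congrArg Subgroup.index hS, hcompl.index_eq_card]
    exact h2
  have hmem : ∀ x : ↥K, Odd (orderOf x) → x ∈ f.ker := by
    intro x hx
    rw [MonoidHom.mem_ker]
    obtain ⟨j, hj⟩ := (hPK2.to_le hS.le : IsPGroup 2 (S : Subgroup ↥K)) (f x)
    have hco : Nat.Coprime (2 ^ j) (orderOf x) :=
      Nat.Coprime.pow_left j ((Nat.prime_two.coprime_iff_not_dvd).2 fun h =>
        Nat.not_even_iff_odd.2 hx (even_iff_two_dvd.2 h))
    exact orderOf_eq_one_iff.1 (Nat.eq_one_of_dvd_one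
      (hco ▸ Nat.dvd_gcd (orderOf_dvd_of_pow_eq_one hj) (orderOf_map_dvd f x)))
  refine ⟨f.ker.map K.subtype, ⟨?_⟩, map_subtype_le _, ?_, ?_⟩
  · rintro _ ⟨x, hx, rfl⟩ g
    refine ⟨⟨g * x * g⁻¹, hK.conj_mem x x.2 g⟩, hmem _ ?_, rfl⟩
    have hox : Odd (orderOf x) := Nat.not_even_iff_odd.1 fun he => hodd
      ((even_iff_two_dvd.1 he).trans (Subgroup.orderOf_dvd_natCard _ hx))
    rw [Subgroup.orderOf_mk, show g * (x : G) * g⁻¹ = MulAut.conj g (x : G) from rfl, MulEquiv.orderOf_eq,
      Subgroup.orderOf_coe]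
    exact hox
  · rw [← Nat.card_congr (f.ker.equivMapOfInjective _ K.subtype_injective).toEquiv]
    exact Nat.not_even_iff_odd.1 fun he => hodd (even_iff_two_dvd.1 he)
  · rw [← Nat.card_congr (f.ker.equivMapOfInjective _ K.subtype_injective).toEquiv]
    exact hcard

end Cfsg.Agent.H22.JanType
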