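import Cfsg.Agent.H22.JanType.SylData

/-!
# The five singular points in the table
-/

set_option autoImplicit false

namespace Cfsg.Agent.H22.JanType.Syl

/-- the five involutions -/
def sp (i : Fin 5) : ℕ := sL.getD i.1 0

/-- the permutations induced by two generators -/
def pa : Equiv.Perm (Fin 5) := Equiv.swap 0 1 * Equiv.swap 2 3

/-- the permutations induced by two generators -/
def pb : Equiv.Perm (Fin 5) := Equiv.swap 0 2 * Equiv.swap 1 3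

theorem k_sp : (∀ i, sp i < 32 ∧ m (sp i) (sp i) = 0 ∧ sp i ≠ 0 ∧ sp i ≠ 16 ∧ m 16 (sp i) ≠ 0) ∧
    (∀ i j, sp i = sp j ∨ sp i = m 16 (sp j) → i = j) ∧
    ((List.range 32).all fun i => !Nat.beq (m i i) 0 || Nat.beq i 0 || Nat.beq i 16 ||
      (List.finRange 5).any fun j => Nat.beq i (sp j) || Nat.beq i (m 16 (sp j))) = true ∧
    (∀ i, m 416 (sp i) = m (sp (pa i)) 416) ∧ (∀ i, m 960 (sp i) = m (sp (pb i)) 960) ∧
    Equiv.Perm.sign pa = 1 ∧ Equiv.Perm.sign pb = 1 ∧ pa ≠ 1 ∧ pb ≠ 1 ∧ pa * pb ≠ 1 ∧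
    sp 0 = 8 ∧ sp 4 = 15 ∧ m 16 15 = 31 ∧ m (m 8 4) (m 8 4) = 16 ∧ m 8 4 < 32 := by decide +kernel

end Cfsg.Agent.H22.JanType.Syl
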