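import Cfsg.Agent.H22.JanType.Closed
import Cfsg.Agent.H22.JanType.PointData
import Cfsg.Agent.H22.JanType.OddPart
import Cfsg.Agent.H22.JanType.Descend

/-!
# The extraspecial subgroup is normal and self-centralising with quotient of order 60
-/

set_option autoImplicit false
set_option linter.style.haveILetI false
set_option linter.unusedSectionVars false

namespace Cfsg.Agent.H22.JanType

open Subgroup Syl

universe u

variable {G : Type u} [Group G] [Finite G] {S : Sylow 2 G} (M : SModel (S : Subgroup G))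

namespace SModel

include M

theorem mem_zpowers_z {x : G} : x ∈ zpowers M.z ↔ x = 1 ∨ x = M.z := by
  constructor
  · intro hx
    obtain ⟨k, rfl⟩ := mem_zpowers_iff.1 hx
    rcases Int.even_or_odd k with ⟨l, rfl⟩ | ⟨l, rfl⟩
    · left; rw [← two_mul, zpow_mul, zpow_two, M.z_mul_z, one_zpow]
    · right; rw [zpow_add, zpow_mul, zpow_two, M.z_mul_z, one_zpow, one_mul, zpow_one]
  · rintro (rfl | rfl)
    exacts [one_mem _, mem_zpowers _]

theorem zpowers_z_normal (hz : ∀ g : G, g * M.z = M.z * g) : (zpowers M.z).Normal :=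
  ⟨fun x hx g => by
    rcases M.mem_zpowers_z.1 hx with rfl | rfl
    · simpa using one_mem _
    · rw [hz, mul_inv_cancel_right]; exact mem_zpowers _⟩

theorem mk_eq_iff [hn : (zpowers M.z).Normal] {a b : G} :
    (QuotientGroup.mk a : G ⧸ zpowers M.z) = QuotientGroup.mk b ↔ b = a ∨ b = a * M.z := by
  rw [QuotientGroup.eq, M.mem_zpowers_z, inv_mul_eq_one, eq_comm, inv_mul_eq_iff_eq_mul]

omit M in
theorem card_a5 : Nat.card ↥(alternatingGroup (Fin 5)) = 60 := by
  rw [Nat.card_eq_fintype_card]; decide +kernel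

omit M in
theorem a5_no_index_three {H : Subgroup ↥(alternatingGroup (Fin 5))} : H.index ≠ 3 := by
  intro h
  haveI : Fintype (↥(alternatingGroup (Fin 5)) ⧸ H) := Fintype.ofFinite _
  let f := MulAction.toPermHom ↥(alternatingGroup (Fin 5)) (↥(alternatingGroup (Fin 5)) ⧸ H)
  have hker : f.ker = ⊥ := by
    rcases (inferInstance : f.ker.Normal).eq_bot_or_eq_top with e | e
    · exact e
    · exfalso
      have hle : f.ker ≤ H := fun g hg => by
        have := Equiv.Perm.congr_fun (MonoidHom.mem_ker.1 hg) (QuotientGroup.mk 1)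
        simpa [f, QuotientGroup.eq] using this
      rw [e, top_le_iff] at hle
      rw [hle, index_top] at h
      omega
  have h2 := card_dvd_of_injective f ((MonoidHom.ker_eq_bot_iff f).1 hker)
  rw [card_a5, Nat.card_perm, ← index_eq_card, h] at h2
  norm_num [Nat.factorial] at h2

variable (hcore : Cfsg.oddCore G = ⊥) (hz : ∀ g : G, g * M.z = M.z * g)
include hcore hz

theorem oddCore_quot_bot [(zpowers M.z).Normal] : Cfsg.oddCore (G ⧸ zpowers M.z) = ⊥ := by
  haveI : Fact (Nat.Prime 2) := ⟨Nat.prime_two⟩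
  set Z := zpowers M.z with hZ
  set O := Cfsg.oddCore (G ⧸ Z)
  let K : Subgroup G := O.comap (QuotientGroup.mk' Z)
  have hOodd : Odd (Nat.card ↥O) := Cores.odd_card_oddCore
  have hZK : Z ≤ K := fun x hx => by
    show QuotientGroup.mk' Z x ∈ O
    rw [show QuotientGroup.mk' Z x = 1 from (QuotientGroup.eq_one_iff x).2 hx]
    exact one_mem _
  have hidx : ¬ 2 ∣ Z.relIndex K := by
    intro h2
    have he : Z.relIndex K = Nat.card ↥O := by
      conv_lhs => rw [← QuotientGroup.ker_mk' Z]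
      rw [← MonoidHom.comap_bot, relIndex_comap, relIndex_bot_left,
        map_comap_eq_self_of_surjective (QuotientGroup.mk'_surjective Z)]
    rw [he] at h2
    exact Nat.not_even_iff_odd.2 hOodd (even_iff_two_dvd.2 h2)
  obtain ⟨N, hN, hNK, hNodd, hcard⟩ := exists_odd_part K Z hZK
    (IsPGroup.of_card (n := 1) (by rw [Nat.card_zpowers, M.orderOf_z]; rfl)) hidx
    (fun k _ p hp => by
      rcases M.mem_zpowers_z.1 hp with rfl | rfl
      · simp
      · exact hz k)
  haveI := hN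
  have hN1 : N = ⊥ := le_bot_iff.1 (hcore ▸ Cores.le_oddCore (N := N) hNodd)
  rw [hN1, Subgroup.card_bot, one_mul] at hcard
  have hKZ : Z = K := eq_of_le_of_card_ge hZK hcard.ge
  rw [eq_bot_iff]
  intro x hx
  obtain ⟨g, rfl⟩ := QuotientGroup.mk'_surjective Z x
  have : g ∈ Z := hKZ ▸ (hx : g ∈ K)
  exact (QuotientGroup.eq_one_iff g).2 this

/-- **The extraspecial subgroup is normal, of index 60, and self-centralising.** -/
theorem centralizer_structure (hGold : GoldschmidtHyp.{u}) {e : G}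
    (he : e * M.φ 8 * e⁻¹ = M.φ 15 ∨ e * M.φ 8 * e⁻¹ = M.φ 31) :
    M.Q.Normal ∧ Nat.card G = 1920 ∧ ∀ c : G, (∀ q ∈ M.Q, q * c = c * q) → c = 1 ∨ c = M.z := by
  classical
  haveI : Fact (Nat.Prime 2) := ⟨Nat.prime_two⟩
  haveI := M.zpowers_z_normal hz
  set Z := zpowers M.z with hZ
  let π := QuotientGroup.mk' Z
  have hπsurj : Function.Surjective π := QuotientGroup.mk'_surjective Z
  have hπeq : ∀ {a b : G}, π a = π b ↔ b = a ∨ b = a * M.z := fun {a b} => M.mk_eq_iff
  have hzl : ∀ a : G, a * M.z * (a * M.z) = a * a := fun a => by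
    rw [show a * M.z * (a * M.z) = a * (M.z * a) * M.z by group, ← hz a,
      show a * (a * M.z) * M.z = a * a * (M.z * M.z) by group, M.z_mul_z, mul_one]
  set T : Sylow 2 (G ⧸ Z) := S.mapSurjective hπsurj with hT
  have hTc : (T : Subgroup (G ⧸ Z)) = (S : Subgroup G).map π := S.coe_mapSurjective hπsurj
  have hmemT : ∀ g : G, π g ∈ (T : Subgroup (G ⧸ Z)) ↔ g ∈ (S : Subgroup G) := by
    intro g
    rw [hTc]
    refine ⟨?_, fun h => ⟨g, h, rfl⟩⟩
    rintro ⟨s, hs, hsg⟩
    rcases hπeq.1 hsg with rfl | rfl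
    · exact hs
    · exact mul_mem hs M.z_mem
  set A : Subgroup (G ⧸ Z) := M.Q.map π with hA
  have hmemA : ∀ g : G, π g ∈ A ↔ g ∈ M.Q := by
    intro g
    refine ⟨?_, fun h => ⟨g, h, rfl⟩⟩
    rintro ⟨s, hs, hsg⟩
    rcases hπeq.1 hsg with rfl | rfl
    · exact hs
    · exact mul_mem hs M.z_mem_Q
  have hAcomm : ∀ a ∈ A, ∀ b ∈ A, a * b = b * a := by
    rintro _ ⟨a, ha, rfl⟩ _ ⟨b, hb, rfl⟩
    rw [← map_mul, ← map_mul, hπeq]
    rcases M.Q_comm hb ha with h | h
    · exact Or.inl h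
    · exact Or.inr (h.trans (hz (a * b)).symm)
  have hAsq : ∀ a ∈ A, a * a = 1 := by
    rintro _ ⟨a, ha, rfl⟩
    rw [← map_mul, ← map_one π, eq_comm, hπeq]
    rcases M.Q_sq ha with h | h <;> rw [h]
    · exact Or.inl rfl
    · exact Or.inr (one_mul _).symm
  have hcardA : Nat.card ↥A = 16 := by
    have h1 := (π.comp M.Q.subtype).ker.card_mul_index
    rw [index_ker, MonoidHom.range_comp, range_subtype, ← hA, M.card_Q] at h1
    have h2 : Nat.card ↥(π.comp M.Q.subtype).ker = 2 := by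
      rw [show (π.comp M.Q.subtype).ker = Z.subgroupOf M.Q by
        rw [← MonoidHom.comap_ker, QuotientGroup.ker_mk']; rfl,
        Nat.card_congr (subgroupOfEquivOfLe (zpowers_le.2 M.z_mem_Q)).toEquiv, Nat.card_zpowers,
        M.orderOf_z]
    rw [h2] at h1
    omega
  have hAT : A ≤ (T : Subgroup (G ⧸ Z)) := by
    rintro _ ⟨a, ha, rfl⟩; exact (hmemT a).2 (M.Q_le ha)
  have hTN : (T : Subgroup (G ⧸ Z)) ≤ normalizer (A : Set (G ⧸ Z)) := by
    rw [hTc]
    rintro _ ⟨s, hs, rfl⟩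
    refine mem_normalizer_iff.2 fun a => ?_
    obtain ⟨a, rfl⟩ := hπsurj a
    rw [← map_inv, ← map_mul, ← map_mul, hmemA, hmemA]
    exact ⟨M.Q_conj hs, fun h => by simpa [mul_assoc] using M.Q_conj (inv_mem hs) h⟩
  have hcent : ∀ t ∈ (T : Subgroup (G ⧸ Z)), (∀ a ∈ A, t * a = a * t) → t ∈ A := by
    rw [hTc]
    rintro _ ⟨s, hs, rfl⟩ h
    refine ⟨s, M.mem_Q_of_commZ hs fun q hq => ?_, rfl⟩
    have := h (π q) ⟨q, hq, rfl⟩
    rw [← map_mul, ← map_mul, eq_comm, hπeq] at this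
    rcases this with h | h
    · exact Or.inl h
    · exact Or.inr (h.trans (hz _))
  -- the five points
  set pt : Fin 5 → G ⧸ Z := fun i => π (M.φ (sp i)) with hpt
  have hspS : ∀ i, sp i ∈ syl := fun i => (qfacts (k_sp.1 i).1).1
  have hptA : ∀ i, pt i ∈ A := fun i => ⟨_, ⟨sp i, (k_sp.1 i).1, rfl⟩, rfl⟩
  have hptinj : Function.Injective pt := by
    intro i j h
    refine k_sp.2.1 i j ?_
    rcases hπeq.1 h.symm with h | h
    · exact Or.inl (M.inj (hspS i) (hspS j) h)
    · refine Or.inr (M.inj (hspS i) (m_mem mem16 (hspS j)) ?_)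
      rw [M.mul mem16 (hspS j), h]; exact hz _
  have hptof : ∀ a ∈ M.Q, a * a = 1 → a ≠ 1 → a ≠ M.z → ∃ j, π a = pt j := by
    intro a ha h2 h1 hne
    obtain ⟨i, hi, rfl⟩ := ha
    have hiS := (qfacts hi).1
    have h := List.all_eq_true.1 k_sp.2.2.1 i (List.mem_range.2 hi)
    rw [(M.sq_eq_one_iff hiS).1 h2] at h
    simp only [Nat.beq_refl, Bool.not_true, Bool.false_or, Bool.or_eq_true, List.any_eq_true] at h
    rcases h with (h | h) | ⟨j, -, h | h⟩
    · exact absurd (by rw [Nat.eq_of_beq_eq_true h, M.map_zero]) h1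
    · exact absurd (by rw [Nat.eq_of_beq_eq_true h]; rfl) hne
    · exact ⟨j, by rw [Nat.eq_of_beq_eq_true h]⟩
    · refine ⟨j, ?_⟩
      rw [Nat.eq_of_beq_eq_true h, M.mul mem16 (hspS j)]
      exact hπeq.2 (Or.inr (by
        show M.φ (sp j) = M.φ 16 * M.φ (sp j) * M.z
        rw [mul_assoc, hz, ← mul_assoc, show M.φ 16 = M.z from rfl, M.z_mul_z, one_mul]))
  have hptsq : ∀ i, M.φ (sp i) * M.φ (sp i) = 1 ∧ M.φ (sp i) ≠ 1 ∧ M.φ (sp i) ≠ M.z := fun i =>
    ⟨(M.sq_eq_one_iff (hspS i)).2 (k_sp.1 i).2.1, fun h => (k_sp.1 i).2.2.1 ((M.eq_one_iff (hspS i)).1 h),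
      fun h => (k_sp.1 i).2.2.2.1 (M.inj (hspS i) mem16 h)⟩
  have hperm : ∀ (n : ↥(normalizer (A : Set (G ⧸ Z)))) (i : Fin 5),
      ∃ j, (n : G ⧸ Z) * pt i * (n : G ⧸ Z)⁻¹ = pt j := by
    rintro ⟨x, hx⟩ i
    obtain ⟨g, rfl⟩ := hπsurj x
    obtain ⟨hs, hs1, hsz⟩ := hptsq i
    have hq : g * M.φ (sp i) * g⁻¹ ∈ M.Q := (hmemA _).1 (by
      rw [map_mul, map_mul, map_inv]; exact (mem_normalizer_iff.1 hx _).1 (hptA i))
    obtain ⟨j, hj⟩ := hptof _ hq (by
        rw [show g * M.φ (sp i) * g⁻¹ * (g * M.φ (sp i) * g⁻¹) = g * (M.φ (sp i) * M.φ (sp i)) * g⁻¹ by group,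
          hs]; group)
      (fun h => hs1 (conj_eq_one_iff.1 h))
      (fun h => hsz (by
        rw [mul_inv_eq_iff_eq_mul, ← hz g] at h
        exact mul_left_cancel h))
    exact ⟨j, by rw [← hj, map_mul, map_mul, map_inv]⟩
  choose σ hσ using hperm
  have hσinj : ∀ n, Function.Injective (σ n) := fun n i j h => by
    have := hσ n i
    rw [h, ← hσ n j] at this
    exact hptinj (mul_left_cancel (mul_right_cancel this))
  let ψ₀ : ↥(normalizer (A : Set (G ⧸ Z))) →* Equiv.Perm (Fin 5) :=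
    { toFun := fun n => Equiv.ofBijective (σ n) (Finite.injective_iff_bijective.1 (hσinj n))
      map_one' := Equiv.ext fun i => hptinj (by
        rw [Equiv.ofBijective_apply, ← hσ]; simp)
      map_mul' := fun n m => Equiv.ext fun i => hptinj (by
        rw [Equiv.ofBijective_apply, Equiv.Perm.mul_apply, Equiv.ofBijective_apply, Equiv.ofBijective_apply,
          ← hσ, ← hσ, ← hσ, Subgroup.coe_mul]
        group) }
  have hψ₀ : ∀ (n : ↥(normalizer (A : Set (G ⧸ Z)))) (i : Fin 5), (n : G ⧸ Z) * pt i * (n : G ⧸ Z)⁻¹ = pt (ψ₀ n i) := fun n i => hσ n i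
  -- the five points generate
  have hker₀ : ∀ n : ↥(normalizer (A : Set (G ⧸ Z))), ψ₀ n = 1 ↔ ∀ a ∈ A, (n : G ⧸ Z) * a = a * n := by
    intro n
    constructor
    · intro h
      have hfix : ∀ i, pt i ∈ centralizer ({(n : G ⧸ Z)} : Set (G ⧸ Z)) := fun i => by
        refine mem_centralizer_singleton_iff.2 ?_
        have := hψ₀ n i
        rw [h, Equiv.Perm.one_apply, mul_inv_eq_iff_eq_mul] at this
        exact this.symm
      let C := (centralizer ({(n : G ⧸ Z)} : Set (G ⧸ Z))).comap π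
      have hs : ∀ i, M.φ (sp i) ∈ C := hfix
      have hz16 : M.φ 16 ∈ C := mem_comap.2 (by
        rw [show π (M.φ 16) = 1 from (QuotientGroup.eq_one_iff _).2 (mem_zpowers _)]
        exact one_mem _)
      have hscale : ∀ b < 2, ∀ c, M.φ c ∈ C → M.φ (Nat.mul b c) ∈ C := by
        intro b hb c hc
        rcases (show b = 0 ∨ b = 1 by omega) with rfl | rfl
        · simp only [Nat.mul_eq, zero_mul]; rw [M.map_zero]; exact one_mem _
        · simpa using hc
      rintro _ ⟨q, ⟨i, hi, rfl⟩, rfl⟩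
      have hmul : ∀ a b, a < 32 → b < 32 → M.φ a ∈ C → M.φ b ∈ C → M.φ (m a b) ∈ C ∧ m a b < 32 :=
        fun a b ha hb hca hcb => ⟨by rw [M.mul (qfacts ha).1 (qfacts hb).1]; exact mul_mem hca hcb,
          ((qfacts ha).2.2.2 b hb).1⟩
      have hd := Nat.eq_of_beq_eq_true (List.all_eq_true.1 k_decomp i (List.mem_range.2 hi))
      have h4 : M.φ (i % 2) ∈ C := by simpa using hscale (i % 2) (by omega) 1 (hs 3)
      have h3 : M.φ (Nat.mul 2 (i / 2 % 2)) ∈ C := by
        simpa [Nat.mul_comm] using hscale (i / 2 % 2) (by omega) 2 (hs 2)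
      have h2 : M.φ (Nat.mul 4 (i / 4 % 2)) ∈ C := by
        simpa [Nat.mul_comm] using hscale (i / 4 % 2) (by omega) 4 (hs 1)
      have h1 : M.φ (Nat.mul 8 (i / 8 % 2)) ∈ C := by
        simpa [Nat.mul_comm] using hscale (i / 8 % 2) (by omega) 8 (hs 0)
      have h0 : M.φ (Nat.mul 16 (i / 16)) ∈ C := by
        simpa [Nat.mul_comm] using hscale (i / 16) (by omega) 16 hz16
      obtain ⟨a3, b3⟩ := hmul _ _ (by simp; omega) (by omega) h3 h4
      obtain ⟨a2, b2⟩ := hmul _ _ (by simp; omega) b3 h2 a3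
      obtain ⟨a1, b1⟩ := hmul _ _ (by simp; omega) b2 h1 a2
      obtain ⟨a0, -⟩ := hmul _ _ (by simp; omega) b1 h0 a1
      rw [← hd] at a0
      exact (mem_centralizer_singleton_iff.1 (mem_comap.1 a0)).symm
    · intro h
      refine Equiv.ext fun i => hptinj ?_
      rw [← hψ₀, h _ (hptA i), mul_inv_cancel_right]; rfl
  -- the image is the alternating group
  have hgenperm : ∀ (c : ℕ) (p : Equiv.Perm (Fin 5)), c ∈ syl → (∀ i, m c (sp i) = m (sp (p i)) c) →
      p ∈ ψ₀.range := by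
    intro c p hc hp
    refine ⟨⟨π (M.φ c), hTN ((hmemT _).2 (M.mem hc))⟩, Equiv.ext fun i => hptinj ?_⟩
    rw [← hψ₀]
    show π (M.φ c) * π (M.φ (sp i)) * (π (M.φ c))⁻¹ = π (M.φ (sp (p i)))
    rw [← M.conj_of_eq hc (hspS i) (hspS (p i)) (hp i), map_mul, map_mul, map_inv]
  have hpa := hgenperm 416 pa (has_iff.1 k_mem.2.2.2.2.2.1) k_sp.2.2.2.1
  have hpb := hgenperm 960 pb (has_iff.1 k_mem.2.2.2.2.2.2.1) k_sp.2.2.2.2.1
  -- an element moving the fifth point
  obtain ⟨n₀, hn₀⟩ : ∃ n, ψ₀ n 0 = 4 := by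
    set a := pt 0 with ha
    set x := π e with hx
    have hxa : x * a * x⁻¹ = pt 4 := by
      rw [hx, ha, hpt]
      dsimp only
      rw [← map_inv, ← map_mul, ← map_mul, k_sp.2.2.2.2.2.2.2.2.2.2.1, k_sp.2.2.2.2.2.2.2.2.2.2.2.1]
      rcases he with h | h <;> rw [h]
      refine hπeq.2 (Or.inr ?_)
      conv_rhs => rw [← k_sp.2.2.2.2.2.2.2.2.2.2.2.2.1, M.mul mem16 mem15]
      rw [show M.φ 16 = M.z from rfl, mul_assoc, hz, ← mul_assoc, M.z_mul_z, one_mul]
    let C : Subgroup (G ⧸ Z) := centralizer ({a} : Set (G ⧸ Z))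
    have hA2 : IsPGroup 2 A := IsPGroup.of_card (n := 4) (by rw [hcardA]; norm_num)
    let A' : Subgroup (G ⧸ Z) := A.map (MulAut.conj x⁻¹).toMonoidHom
    have hAC : A ≤ C := fun b hb => mem_centralizer_singleton_iff.2 (hAcomm _ hb _ (hptA 0))
    have hA'C : A' ≤ C := by
      rintro _ ⟨b, hb, rfl⟩
      refine mem_centralizer_singleton_iff.2 ?_
      simp only [MulEquiv.coe_toMonoidHom, MulAut.conj_apply, inv_inv]
      calc x⁻¹ * b * x * a = x⁻¹ * (b * (x * a * x⁻¹)) * x := by group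
        _ = x⁻¹ * ((x * a * x⁻¹) * b) * x := by rw [hxa, hAcomm _ hb _ (hptA 4)]
        _ = _ := by group
    obtain ⟨T1, hT1⟩ := (hA2.comap_subtype (K := C)).exists_le_sylow
    obtain ⟨T2, hT2⟩ := ((hA2.map (MulAut.conj x⁻¹).toMonoidHom).comap_subtype (K := C)).exists_le_sylow
    obtain ⟨c, hc⟩ := MulAction.exists_smul_eq C T2 T1
    obtain ⟨T', hT'⟩ := (T1.isPGroup'.map C.subtype).exists_le_sylow
    obtain ⟨h, hh⟩ := MulAction.exists_smul_eq (G ⧸ Z) T' T
    -- a commutative exponent two group of order 16 in `T` is `A`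
    have huniq : ∀ F : Subgroup (G ⧸ Z), F ≤ (T : Subgroup (G ⧸ Z)) → (∀ a ∈ F, ∀ b ∈ F, a * b = b * a) →
        (∀ a ∈ F, a * a = 1) → Nat.card ↥F = 16 → F = A := by
      intro F hF hc hs hcard
      have hle : F.comap π ≤ (S : Subgroup G) := fun g hg => (hmemT g).1 (hF hg)
      have e := M.eq_Q_of_card (F := F.comap π) hle (fun g hg => by
          have := hs (π g) hg
          rw [← map_mul, ← map_one π, eq_comm, hπeq] at this
          simpa using this)
        (fun g hg k hk => by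
          have := hc (π g) hg (π k) hk
          rw [← map_mul, ← map_mul, eq_comm, hπeq] at this
          rcases this with h | h
          · exact Or.inl h
          · exact Or.inr (h.trans (hz _)))
        (by
          have hZF : Z ≤ F.comap π := fun g hg => by
            show π g ∈ F
            rw [show π g = 1 from (QuotientGroup.eq_one_iff g).2 hg]; exact one_mem _
          have h1 := (Z.subgroupOf (F.comap π)).card_mul_index
          rw [Nat.card_congr (subgroupOfEquivOfLe hZF).toEquiv, Nat.card_zpowers, M.orderOf_z] at h1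
          rw [show (Z.subgroupOf (F.comap π)).index = 16 from ?_] at h1
          · omega
          show Z.relIndex (F.comap π) = 16
          rw [show Z.relIndex (F.comap π) = π.ker.relIndex (F.comap π) from
            congrArg (fun K : Subgroup G => K.relIndex (F.comap π)) (QuotientGroup.ker_mk' Z).symm,
            ← MonoidHom.comap_bot, relIndex_comap, relIndex_bot_left,
            map_comap_eq_self_of_surjective hπsurj, hcard])
      rw [hA, ← e, map_comap_eq_self_of_surjective hπsurj]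
    have hval : ∀ F : Subgroup (G ⧸ Z), (∀ b ∈ F, h * b * h⁻¹ ∈ (T : Subgroup (G ⧸ Z))) →
        (∀ a ∈ F, ∀ b ∈ F, a * b = b * a) → (∀ a ∈ F, a * a = 1) → Nat.card ↥F = 16 →
        F.map (MulAut.conj h).toMonoidHom = A := by
      intro F hF hc hs hcard
      refine huniq _ (by rintro _ ⟨b, hb, rfl⟩; exact hF b hb) ?_ ?_ ?_
      · rintro _ ⟨b, hb, rfl⟩ _ ⟨d, hd, rfl⟩; rw [← map_mul, ← map_mul, hc b hb d hd]
      · rintro _ ⟨b, hb, rfl⟩; rw [← map_mul, hs b hb, map_one]
      · rw [← Nat.card_congr (F.equivMapOfInjective _ (MulAut.conj h).injective).toEquiv, hcard]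
    have hinT : ∀ b : G ⧸ Z, ∀ hb : b ∈ C, (⟨b, hb⟩ : C) ∈ (T1 : Subgroup C) →
        h * b * h⁻¹ ∈ (T : Subgroup (G ⧸ Z)) := by
      intro b hb hbT
      rw [← hh, Sylow.coe_subgroup_smul]
      exact ⟨b, hT' ⟨_, hbT, rfl⟩, rfl⟩
    have e1 := hval A (fun b hb => hinT b (hAC hb) (hT1 hb)) hAcomm hAsq hcardA
    let B : Subgroup (G ⧸ Z) := A.map (MulAut.conj ((c : G ⧸ Z) * x⁻¹)).toMonoidHom
    have e2 := hval B (by
        rintro _ ⟨b, hb, rfl⟩
        have hb' : x⁻¹ * b * x ∈ C := hA'C ⟨b, hb, by simp⟩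
        have h1 : c * ⟨_, hb'⟩ * c⁻¹ ∈ (T1 : Subgroup C) := by
          rw [← hc, Sylow.coe_subgroup_smul]
          exact ⟨_, hT2 (show x⁻¹ * b * x ∈ A' from ⟨b, hb, by simp⟩), rfl⟩
        have := hinT _ (mul_mem (mul_mem c.2 hb') (inv_mem c.2)) h1
        simpa [mul_assoc] using this)
      (by rintro _ ⟨b, hb, rfl⟩ _ ⟨d, hd, rfl⟩; rw [← map_mul, ← map_mul, hAcomm b hb d hd])
      (by rintro _ ⟨b, hb, rfl⟩; rw [← map_mul, hAsq b hb, map_one])
      (by rw [← Nat.card_congr (A.equivMapOfInjective _ (MulAut.conj _).injective).toEquiv, hcardA])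
    have hBA : B = A := map_injective (MulAut.conj h).injective (e2.trans e1.symm)
    set y := (c : G ⧸ Z) * x⁻¹ with hy
    have hyA : y ∈ normalizer (A : Set (G ⧸ Z)) := by
      refine mem_normalizer_iff.2 fun b => ?_
      constructor
      · intro hb
        have : y * b * y⁻¹ ∈ B := ⟨b, hb, rfl⟩
        exact hBA ▸ this
      · intro hb
        obtain ⟨d, hd, hde⟩ := (hBA.symm ▸ hb : y * b * y⁻¹ ∈ B)
        rwa [← (MulAut.conj y).injective hde]
    refine ⟨⟨y, hyA⟩⁻¹, hptinj ?_⟩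
    rw [← hψ₀, ← hxa]
    show y⁻¹ * a * y⁻¹⁻¹ = x * a * x⁻¹
    rw [hy, inv_inv, show ((c : G ⧸ Z) * x⁻¹)⁻¹ * a * ((c : G ⧸ Z) * x⁻¹) = x * ((c : G ⧸ Z)⁻¹ * a * c) * x⁻¹ by group,
      show (c : G ⧸ Z)⁻¹ * a * c = a by
        rw [mul_assoc, ← mem_centralizer_singleton_iff.1 c.2, inv_mul_cancel_left]]
  -- orders
  have hT64 : Nat.card ↥(T : Subgroup (G ⧸ Z)) = 64 := by
    have h1 := (π.comp (S : Subgroup G).subtype).ker.card_mul_index
    rw [index_ker, MonoidHom.range_comp, range_subtype, ← hTc, M.card] at h1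
    have h2 : Nat.card ↥(π.comp (S : Subgroup G).subtype).ker = 2 := by
      rw [show (π.comp (S : Subgroup G).subtype).ker = Z.subgroupOf (S : Subgroup G) by
        rw [← MonoidHom.comap_ker, QuotientGroup.ker_mk']; rfl,
        Nat.card_congr (subgroupOfEquivOfLe (zpowers_le.2 M.z_mem)).toEquiv, Nat.card_zpowers,
        M.orderOf_z]
    rw [h2] at h1
    omega
  set R₀ := ψ₀.range with hR₀
  have h8 : ¬ 8 ∣ Nat.card ↥R₀ := by
    intro h8
    let K := ψ₀.ker
    have h16 : 16 ∣ Nat.card ↥K := by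
      rw [← hcardA]
      let ι : ↥A →* ↥K :=
        { toFun := fun a => ⟨⟨a, le_normalizer a.2⟩, (hker₀ _).2 fun b hb => hAcomm a a.2 b hb⟩
          map_one' := rfl
          map_mul' := fun _ _ => rfl }
      exact card_dvd_of_injective ι fun a b h => Subtype.ext
        (congrArg (fun w : ↥K => ((w : ↥(normalizer (A : Set (G ⧸ Z)))) : G ⧸ Z)) h)
    have h128 : 16 * 8 ∣ Nat.card (G ⧸ Z) := by
      refine (mul_dvd_mul h16 h8).trans ?_
      rw [hR₀, ← index_ker, card_mul_index]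
      exact card_subgroup_dvd_card _
    have h128' : 2 ^ 7 ∣ Nat.card ↥(T : Subgroup (G ⧸ Z)) :=
      (pow_dvd_pow 2 ((Nat.prime_two.pow_dvd_iff_le_factorization Nat.card_pos.ne').1
        (by simpa using h128))).trans T.card_eq_multiplicity.symm.dvd
    rw [hT64] at h128'
    norm_num at h128'
  have hrange : R₀ = alternatingGroup (Fin 5) := by
    have h5 : 5 ∣ Nat.card ↥R₀ := by
      have horb : MulAction.orbit ↥R₀ (4 : Fin 5) = Set.univ := by
        have h40 : (4 : Fin 5) ∈ MulAction.orbit ↥R₀ (4 : Fin 5) := MulAction.mem_orbit_self _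
        have h0 : (0 : Fin 5) ∈ MulAction.orbit ↥R₀ (4 : Fin 5) :=
          ⟨⟨ψ₀ n₀, n₀, rfl⟩⁻¹, by
            show (ψ₀ n₀)⁻¹ 4 = 0
            rw [Equiv.Perm.inv_eq_iff_eq, hn₀]⟩
        refine Set.eq_univ_of_forall fun i => ?_
        have hv : i = 4 ∨ i = 0 ∨ i = pa 0 ∨ i = pb 0 ∨ i = pb (pa 0) := by revert i; decide +kernel
        rcases hv with rfl | rfl | rfl | rfl | rfl
        · exact h40
        · exact h0
        all_goals obtain ⟨g, hg⟩ := h0
        · exact ⟨⟨pa, hpa⟩ * g, by show (⟨pa, hpa⟩ * g) • (4 : Fin 5) = _; simp only [mul_smul]; exact congrArg _ hg⟩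
        · exact ⟨⟨pb, hpb⟩ * g, by show (⟨pb, hpb⟩ * g) • (4 : Fin 5) = _; simp only [mul_smul]; exact congrArg _ hg⟩
        · exact ⟨⟨pb, hpb⟩ * (⟨pa, hpa⟩ * g), by
            show (⟨pb, hpb⟩ * (⟨pa, hpa⟩ * g)) • (4 : Fin 5) = _
            simp only [mul_smul]
            exact congrArg (fun w => pb (pa w)) hg⟩
      have h := MulAction.card_orbit_mul_card_stabilizer_eq_card_group ↥R₀ (4 : Fin 5)
      simp only [horb, ← Nat.card_eq_fintype_card] at h
      rw [← h]
      exact ⟨_, by rw [show Nat.card ↥(Set.univ : Set (Fin 5)) = 5 by simp]⟩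
    let E := R₀.subgroupOf (alternatingGroup (Fin 5))
    have h4 : 4 ∣ Nat.card ↥E := by
      let V : Subgroup (Equiv.Perm (Fin 5)) :=
        { carrier := {1, pa, pb, pa * pb}
          one_mem' := by simp
          mul_mem' := by
            have : ∀ a ∈ ({1, pa, pb, pa * pb} : Finset (Equiv.Perm (Fin 5))), ∀ b ∈ ({1, pa, pb, pa * pb} : Finset (Equiv.Perm (Fin 5))),
                a * b ∈ ({1, pa, pb, pa * pb} : Finset (Equiv.Perm (Fin 5))) := by decide +kernel
            intro a b ha hb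
            simpa using this a (by simpa using ha) b (by simpa using hb)
          inv_mem' := by
            have : ∀ a ∈ ({1, pa, pb, pa * pb} : Finset (Equiv.Perm (Fin 5))),
                a⁻¹ ∈ ({1, pa, pb, pa * pb} : Finset (Equiv.Perm (Fin 5))) := by decide +kernel
            intro a ha
            simpa using this a (by simpa using ha) }
      have hV4 : Nat.card ↥V = 4 := by
        show Nat.card (({1, pa, pb, pa * pb} : Set (Equiv.Perm (Fin 5)))) = 4
        rw [Nat.card_coe_set_eq, show ({1, pa, pb, pa * pb} : Set (Equiv.Perm (Fin 5))) =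
          ↑({1, pa, pb, pa * pb} : Finset (Equiv.Perm (Fin 5))) by simp, Set.ncard_coe_finset]
        decide +kernel
      have hVA : V ≤ alternatingGroup (Fin 5) := by
        rintro v (rfl | rfl | rfl | rfl) <;>
          simp [Equiv.Perm.mem_alternatingGroup, k_sp.2.2.2.2.2.1, k_sp.2.2.2.2.2.2.1]
      have hVR : V ≤ R₀ := by
        rintro v (rfl | rfl | rfl | rfl)
        exacts [one_mem _, hpa, hpb, mul_mem hpa hpb]
      rw [← hV4, ← Nat.card_congr (subgroupOfEquivOfLe hVA).toEquiv]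
      exact card_dvd_of_le fun v hv => hVR hv
    have h5E : 5 ∣ Nat.card ↥E := by
      haveI : Fact (Nat.Prime 5) := ⟨Nat.prime_five⟩
      obtain ⟨r, hr⟩ := exists_prime_orderOf_dvd_card' (G := ↥R₀) 5 h5
      have hs : Equiv.Perm.sign (r : Equiv.Perm (Fin 5)) = 1 := by
        have h1 := orderOf_map_dvd Equiv.Perm.sign (r : Equiv.Perm (Fin 5))
        rw [Subgroup.orderOf_coe, hr] at h1
        have h2 := orderOf_dvd_natCard (Equiv.Perm.sign (r : Equiv.Perm (Fin 5)))
        rw [Nat.card_eq_fintype_card, Fintype.card_units_int] at h2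
        exact orderOf_eq_one_iff.1 (Nat.eq_one_of_dvd_one (Nat.dvd_gcd h1 h2))
      refine (Eq.dvd ?_).trans (Subgroup.orderOf_dvd_natCard E
        (show (⟨(r : Equiv.Perm (Fin 5)), Equiv.Perm.mem_alternatingGroup.2 hs⟩ :
          ↥(alternatingGroup (Fin 5))) ∈ E from r.2))
      rw [Subgroup.orderOf_mk, Subgroup.orderOf_coe, hr]
    have hEtop : E = ⊤ := by
      have h20 : 20 ∣ Nat.card ↥E := (show Nat.Coprime 4 5 by norm_num).mul_dvd_of_dvd_of_dvd h4 h5E
      have hm := E.card_mul_index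
      rw [card_a5] at hm
      obtain ⟨k, hk⟩ := h20
      rw [hk] at hm
      have h3 : k * E.index = 3 := by
        rw [mul_assoc] at hm; omega
      rw [← index_eq_one]
      rcases (Nat.dvd_prime Nat.prime_three).1 ⟨k, by rw [mul_comm, h3]⟩ with h | h
      · exact h
      · exact absurd h a5_no_index_three
    have hle : alternatingGroup (Fin 5) ≤ R₀ := subgroupOf_eq_top.1 hEtop
    refine le_antisymm ?_ hle
    by_contra hne
    obtain ⟨r, hr, hr'⟩ := SetLike.not_le_iff_exists.1 hne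
    have hRtop : R₀ = ⊤ := by
      refine eq_top_iff.2 fun p _ => ?_
      by_cases hp : p ∈ alternatingGroup (Fin 5)
      · exact hle hp
      · rw [Equiv.Perm.mem_alternatingGroup] at hp hr'
        have hp' := (Int.units_eq_one_or (Equiv.Perm.sign p)).resolve_left hp
        have hr'' := (Int.units_eq_one_or (Equiv.Perm.sign r)).resolve_left hr'
        have : p * r⁻¹ ∈ R₀ := hle (by
          rw [Equiv.Perm.mem_alternatingGroup, map_mul, map_inv, hp', hr'']; rfl)
        simpa using mul_mem this hr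
    apply h8
    rw [hRtop, Subgroup.card_top, Nat.card_perm, Nat.card_fin]
    norm_num [Nat.factorial]
  let ψ : ↥(normalizer (A : Set (G ⧸ Z))) →* ↥(alternatingGroup (Fin 5)) :=
    ψ₀.codRestrict _ fun n => hrange ▸ ⟨n, rfl⟩
  let P : Frame A T :=
    { comm := hAcomm
      sq := hAsq
      card := hcardA
      le := hAT
      le_norm := hTN
      cent := hcent
      ψ := ψ
      surj := fun w => by
        obtain ⟨n, hn⟩ := (hrange.symm ▸ w.2 : (w : Equiv.Perm (Fin 5)) ∈ R₀)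
        exact ⟨n, Subtype.ext hn⟩
      ker_iff := fun n => by
        rw [← hker₀]
        exact ⟨fun h => congrArg Subtype.val h, fun h => Subtype.ext h⟩ }
  have hscl : Cfsg.IsStronglyClosed A (T : Subgroup (G ⧸ Z)) := by
    refine ⟨hAT, ?_⟩
    rintro _ ⟨q, hq, rfl⟩ x hx
    obtain ⟨g, rfl⟩ := hπsurj x
    rw [← map_inv, ← map_mul, ← map_mul] at hx ⊢
    exact (hmemA _).2 (M.Q_closed hz he hq ((hmemT _).1 hx))
  have hnc : ∃ a ∈ A, ∃ b ∈ A, a ≠ 1 ∧ b ≠ 1 ∧ ¬ IsConj a b := by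
    obtain ⟨h84, h84lt⟩ := k_sp.2.2.2.2.2.2.2.2.2.2.2.2.2
    set q := M.φ (m 8 4) with hq
    have hqS := (qfacts h84lt).1
    have hqq : q * q = M.z := by rw [hq, ← M.mul hqS hqS, h84]; rfl
    refine ⟨π q, ⟨q, ⟨_, h84lt, rfl⟩, rfl⟩, pt 0, hptA 0, fun h => ?_, fun h => ?_, fun h => ?_⟩
    · rw [← map_one π, eq_comm, hπeq, one_mul] at h
      rcases h with h | h
      · rw [h, one_mul] at hqq; exact M.z_ne_one hqq.symm
      · rw [h, M.z_mul_z] at hqq; exact M.z_ne_one hqq.symm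
    · rw [hpt] at h
      dsimp only at h
      rw [← map_one π, eq_comm, hπeq, one_mul] at h
      exact h.elim (hptsq 0).2.1 (hptsq 0).2.2
    · obtain ⟨x, hx⟩ := isConj_iff.1 h
      obtain ⟨g, rfl⟩ := hπsurj x
      rw [hpt] at hx
      dsimp only at hx
      rw [← map_inv, ← map_mul, ← map_mul, hπeq] at hx
      apply M.z_ne_one
      have hsq : g * q * g⁻¹ * (g * q * g⁻¹) = M.z := by
        rw [show g * q * g⁻¹ * (g * q * g⁻¹) = g * (q * q) * g⁻¹ by group, hqq, hz, mul_inv_cancel_right]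
      rw [← hsq, ← (hptsq 0).1]
      rcases hx with hx | hx <;> rw [hx]
      exact (hzl _).symm
  have hAn : A.Normal := P.normal hGold (M.oddCore_quot_bot hcore hz) hscl hnc
  have hQn : M.Q.Normal := ⟨fun q hq g => (hmemA _).1 (by
    rw [map_mul, map_mul, map_inv]
    exact hAn.conj_mem _ ((hmemA q).2 hq) _)⟩
  have hNtop : normalizer (A : Set (G ⧸ Z)) = ⊤ := normalizer_eq_top_iff.2 hAn
  -- the kernel
  let K : Subgroup (G ⧸ Z) := ψ.ker.map (normalizer (A : Set (G ⧸ Z))).subtype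
  have hKmem : ∀ x, x ∈ K ↔ ∀ a ∈ A, x * a = a * x := by
    intro x
    constructor
    · rintro ⟨n, hn, rfl⟩
      exact (P.ker_iff n).1 hn
    · intro h
      exact ⟨⟨x, hNtop ▸ mem_top x⟩, (P.ker_iff ⟨x, _⟩).2 h, rfl⟩
  haveI hKn : K.Normal := ⟨fun x hx g => (hKmem _).2 fun a ha => by
    have h := (hKmem x).1 hx (g⁻¹ * a * g) (by simpa using hAn.conj_mem a ha g⁻¹)
    calc g * x * g⁻¹ * a = g * (x * (g⁻¹ * a * g)) * g⁻¹ := by group
      _ = g * ((g⁻¹ * a * g) * x) * g⁻¹ := by rw [h]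
      _ = _ := by group⟩
  have hAK : A ≤ K := fun a ha => (hKmem a).2 fun b hb => hAcomm a ha b hb
  obtain ⟨QK, hQK⟩ := exists_sylow_inf_normal T K
  have hTK : (T : Subgroup (G ⧸ Z)) ⊓ K = A :=
    le_antisymm (fun t ht => hcent t ht.1 ((hKmem t).1 ht.2)) (le_inf hAT hAK)
  have hQKA : (QK : Subgroup ↥K) = A.subgroupOf K := by
    rw [← hTK, ← hQK]
    exact (comap_map_eq_self_of_injective K.subtype_injective _).symm
  obtain ⟨N, hN, -, hNodd, hNcard⟩ := exists_odd_part K A hAK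
    (IsPGroup.of_card (n := 4) (by rw [hcardA]; norm_num))
    (by
      show ¬ 2 ∣ (A.subgroupOf K).index
      rw [← hQKA]; exact QK.not_dvd_index)
    (fun k hk a ha => (hKmem k).1 hk a ha)
  haveI := hN
  have hN1 : N = ⊥ := le_bot_iff.1 (M.oddCore_quot_bot hcore hz ▸ Cores.le_oddCore (N := N) hNodd)
  rw [hN1, Subgroup.card_bot, one_mul, hcardA] at hNcard
  have hKA : A = K := eq_of_le_of_card_ge hAK (by rw [← hNcard, hcardA])
  have hcardX : Nat.card (G ⧸ Z) = 960 := by
    rw [← Subgroup.card_top, ← hNtop, ← ψ.ker.card_mul_index, index_ker,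
      Nat.card_congr (ψ.ker.equivMapOfInjective _ (normalizer (A : Set (G ⧸ Z))).subtype_injective).toEquiv,
      MonoidHom.range_eq_top.2 P.surj, Subgroup.card_top, card_a5, ← hNcard]
  refine ⟨hQn, ?_, fun c hc => ?_⟩
  · rw [card_eq_card_quotient_mul_card_subgroup Z, hcardX, Nat.card_zpowers, M.orderOf_z]
  · have hcA : π c ∈ A := hKA ▸ (hKmem _).2 (by
      rintro _ ⟨q, hq, rfl⟩
      rw [← map_mul, ← map_mul, hc q hq])
    exact M.Q_center ((hmemA c).1 hcA) hc

end SModel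

end Cfsg.Agent.H22.JanType
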