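import Cfsg.Agent.H22.JanType.FusedTwo

/-!
# The extraspecial subgroup is strongly closed in the centraliser
-/

set_option autoImplicit false
set_option linter.style.haveILetI false

namespace Cfsg.Agent.H22.JanType

open Subgroup Syl

universe u

variable {G : Type u} [Group G]

namespace SModel

variable {S : Subgroup G} (M : SModel S)
include M

omit M in
theorem qfacts {i : ℕ} (hi : i < 32) : i ∈ syl ∧ comm i 16 = true ∧ sqZ i = true ∧
    ∀ j < 32, m i j < 32 ∧ commZ i j = true := by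
  have h := List.all_eq_true.1 k_invQ.2.1 i (List.mem_range.2 hi)
  simp only [Bool.and_eq_true, has_iff] at h
  refine ⟨h.1.1.1, h.1.1.2, h.1.2, fun j hj => ?_⟩
  have h' := List.all_eq_true.1 h.2 j (List.mem_range.2 hj)
  rwa [Bool.and_eq_true, Nat.blt_eq] at h'

theorem eq_or_z_of_eqZ {i j : ℕ} (hj : j ∈ syl) (h : eqZ i j = true) :
    M.φ i = M.φ j ∨ M.φ i = M.z * M.φ j := by
  simp only [eqZ, Bool.or_eq_true] at h
  rcases h with h | h <;> rw [Nat.eq_of_beq_eq_true h]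
  · exact Or.inl rfl
  · exact Or.inr (M.mul mem16 hj)

theorem sq_of_sqZ {i : ℕ} (hi : i ∈ syl) (h : sqZ i = true) :
    M.φ i * M.φ i = 1 ∨ M.φ i * M.φ i = M.z := by
  simp only [sqZ, Bool.or_eq_true] at h
  rw [← M.mul hi hi]
  rcases h with h | h <;> rw [Nat.eq_of_beq_eq_true h]
  exacts [Or.inl M.map_zero, Or.inr rfl]

theorem sqZ_of_sq {i : ℕ} (hi : i ∈ syl) (h : M.φ i * M.φ i = 1 ∨ M.φ i * M.φ i = M.z) :
    sqZ i = true := by
  simp only [sqZ, Bool.or_eq_true]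
  rcases h with h | h
  · exact Or.inl (by rw [(M.sq_eq_one_iff hi).1 h]; rfl)
  · rw [← M.mul hi hi] at h
    exact Or.inr (by rw [M.inj (m_mem hi hi) mem16 h]; rfl)

/-- The extraspecial subgroup. -/
def Q : Subgroup G where
  carrier := {g | ∃ i < 32, M.φ i = g}
  one_mem' := ⟨0, by omega, M.map_zero⟩
  mul_mem' := by
    rintro _ _ ⟨i, hi, rfl⟩ ⟨j, hj, rfl⟩
    exact ⟨m i j, ((qfacts hi).2.2.2 j hj).1, M.mul (qfacts hi).1 (qfacts hj).1⟩
  inv_mem' := by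
    rintro _ ⟨i, hi, rfl⟩
    rcases M.sq_of_sqZ (qfacts hi).1 (qfacts hi).2.2.1 with h | h
    · exact ⟨i, hi, eq_inv_of_mul_eq_one_left h⟩
    · refine ⟨m 16 i, ((qfacts (show (16 : ℕ) < 32 by omega)).2.2.2 i hi).1, ?_⟩
      rw [M.mul mem16 (qfacts hi).1]
      refine eq_inv_of_mul_eq_one_left ?_
      rw [show M.φ 16 = M.z from rfl, mul_assoc, h, M.z_mul_z]

theorem mem_Q_iff {g : G} : g ∈ M.Q ↔ ∃ i < 32, M.φ i = g := Iff.rfl

theorem Q_le : M.Q ≤ S := by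
  rintro _ ⟨i, hi, rfl⟩; exact M.mem (qfacts hi).1

theorem z_mem_Q : M.z ∈ M.Q := ⟨16, by omega, rfl⟩

theorem card_Q : Nat.card ↥M.Q = 32 := by
  show Nat.card (M.Q : Set G) = 32
  rw [Nat.card_coe_set_eq, show (M.Q : Set G) = M.φ '' {i | i ∈ List.range 32} from ?_,
    M.ncard_image (l := List.range 32) (fun i hi => (qfacts (List.mem_range.1 hi)).1) List.nodup_range,
    List.length_range]
  ext g
  simp [M.mem_Q_iff, Set.mem_image]

theorem Q_sq {q : G} (hq : q ∈ M.Q) : q * q = 1 ∨ q * q = M.z := by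
  obtain ⟨i, hi, rfl⟩ := hq
  exact M.sq_of_sqZ (qfacts hi).1 (qfacts hi).2.2.1

theorem Q_comm {q r : G} (hq : q ∈ M.Q) (hr : r ∈ M.Q) : q * r = r * q ∨ q * r = M.z * (r * q) := by
  obtain ⟨i, hi, rfl⟩ := hq
  obtain ⟨j, hj, rfl⟩ := hr
  rw [← M.mul (qfacts hi).1 (qfacts hj).1, ← M.mul (qfacts hj).1 (qfacts hi).1]
  exact M.eq_or_z_of_eqZ (m_mem (qfacts hj).1 (qfacts hi).1) ((qfacts hi).2.2.2 j hj).2

/-- `Q` is centralised in `Q` only by `⟨z⟩`. -/
theorem Q_center {q : G} (hq : q ∈ M.Q) (h : ∀ r ∈ M.Q, r * q = q * r) : q = 1 ∨ q = M.z := by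
  obtain ⟨i, hi, rfl⟩ := hq
  have h' := List.all_eq_true.1 k_invQ.2.2 i (List.mem_range.2 hi)
  simp only [Bool.or_eq_true, Bool.not_eq_true'] at h'
  rcases h' with (h' | h') | h'
  · exact Or.inl (by rw [Nat.eq_of_beq_eq_true h', M.map_zero])
  · exact Or.inr (by rw [Nat.eq_of_beq_eq_true h']; rfl)
  · obtain ⟨j, hj, hc⟩ := List.all_eq_false.1 h'
    exact absurd ((M.comm_iff (qfacts hi).1 (qfacts (List.mem_range.1 hj)).1).1
      (h _ ⟨j, List.mem_range.1 hj, rfl⟩).symm) hc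

/-- An element of `S` centralising `Q` modulo `⟨z⟩` lies in `Q`. -/
theorem mem_Q_of_commZ {g : G} (hg : g ∈ S)
    (h : ∀ q ∈ M.Q, g * q = q * g ∨ g * q = M.z * (q * g)) : g ∈ M.Q := by
  obtain ⟨i, hi, rfl⟩ := (M.mem_iff g).1 hg
  have h' := List.all_eq_true.1 k_quot.2 i hi
  simp only [Bool.or_eq_true, Nat.blt_eq, List.any_eq_true, Bool.not_eq_true', List.mem_range] at h'
  rcases h' with h' | ⟨j, hj, hc⟩
  · exact ⟨i, h', rfl⟩
  · exfalso
    have hjS := (qfacts hj).1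
    have : commZ i j = true := by
      simp only [commZ, eqZ, Bool.or_eq_true]
      rcases h _ ⟨j, hj, rfl⟩ with e | e <;> rw [← M.mul hi hjS, ← M.mul hjS hi] at e
      · exact Or.inl (by rw [M.inj (m_mem hi hjS) (m_mem hjS hi) e]; exact Nat.beq_refl _)
      · rw [show M.z = M.φ 16 from rfl, ← M.mul mem16 (m_mem hjS hi)] at e
        exact Or.inr (by rw [M.inj (m_mem hi hjS) (m_mem mem16 (m_mem hjS hi)) e]; exact Nat.beq_refl _)
    rw [this] at hc
    cases hc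

/-- An element of `S` outside `Q` with square in `⟨z⟩` is an involution. -/
theorem out_sq {g : G} (hg : g ∈ S) (hgQ : g ∉ M.Q) (h : g * g = 1 ∨ g * g = M.z) :
    g * g = 1 ∧ ∃ i ∈ syl, M.φ i = g ∧ 32 ≤ i ∧ m i i = 0 := by
  obtain ⟨i, hi, rfl⟩ := (M.mem_iff g).1 hg
  have h32 : 32 ≤ i := Nat.le_of_not_lt fun hlt => hgQ ⟨i, hlt, rfl⟩
  have h' := List.all_eq_true.1 k_outsq i hi
  have hb : Nat.blt i 32 = false := Bool.eq_false_iff.2 fun hc => by rw [Nat.blt_eq] at hc; omega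
  simp only [hb, M.sqZ_of_sq hi h, Bool.not_true, Bool.false_or] at h'
  have h0 := Nat.eq_of_beq_eq_true h'
  exact ⟨(M.sq_eq_one_iff hi).2 h0, i, hi, rfl, h32, h0⟩

/-- An involution of `Q` other than `z` is central in `R` or conjugate to `φ 8` in `S`. -/
theorem Q_invol {q : G} (hq : q ∈ M.Q) (hq2 : q * q = 1) :
    q = 1 ∨ q = M.z ∨ q = M.φ 15 ∨ q = M.φ 31 ∨ ∃ s ∈ S, s * q * s⁻¹ = M.φ 8 := by
  obtain ⟨i, hi, rfl⟩ := hq
  have hiS := (qfacts hi).1
  have h := List.all_eq_true.1 k_invQ.1 i (List.mem_range.2 hi)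
  rw [(M.sq_eq_one_iff hiS).1 hq2] at h
  simp only [Nat.beq_refl, Bool.not_true, Bool.false_or, Bool.or_eq_true, has_iff, List.any_eq_true] at h
  rcases h with hz | ⟨g, hg, he⟩
  · simp only [zR, List.mem_cons, List.not_mem_nil, or_false] at hz
    rcases hz with rfl | rfl | rfl | rfl
    exacts [Or.inl M.map_zero, Or.inr (Or.inl rfl), Or.inr (Or.inr (Or.inl rfl)),
      Or.inr (Or.inr (Or.inr (Or.inl rfl)))]
  · exact Or.inr (Or.inr (Or.inr (Or.inr ⟨_, M.mem hg,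
      M.conj_of_eq hg hiS mem8 (Nat.eq_of_beq_eq_true he)⟩)))

/-- `S` has exactly one subgroup of order 32 over `⟨z⟩` with squares and commutators in `⟨z⟩`. -/
theorem eq_Q_of_card [Finite G] {F : Subgroup G} (hF : F ≤ S) (hsq : ∀ a ∈ F, a * a = 1 ∨ a * a = M.z)
    (hcomm : ∀ a ∈ F, ∀ b ∈ F, a * b = b * a ∨ a * b = M.z * (b * a)) (hcard : Nat.card ↥F = 32) :
    F = M.Q := by
  classical
  refine eq_of_le_of_card_ge (fun x hx => ?_) (by rw [M.card_Q, hcard])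
  by_contra hxQ
  obtain ⟨i, hi, rfl⟩ := (M.mem_iff x).1 (hF hx)
  have h32 : 32 ≤ i := Nat.le_of_not_lt fun hlt => hxQ ⟨i, hlt, rfl⟩
  have h' := List.all_eq_true.1 k_quot.1 i hi
  have hb : Nat.blt i 32 = false := Bool.eq_false_iff.2 fun hc => by rw [Nat.blt_eq] at hc; omega
  simp only [hb, M.sqZ_of_sq hi (hsq _ hx), Bool.not_true, Bool.false_or, Nat.blt_eq] at h'
  have hsub : (F : Set G) ⊆ M.φ '' {j | j ∈ syl.filter fun j => sqZ j && commZ i j} := by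
    intro b hb'
    obtain ⟨j, hj, rfl⟩ := (M.mem_iff b).1 (hF hb')
    refine ⟨j, List.mem_filter.2 ⟨hj, ?_⟩, rfl⟩
    rw [Bool.and_eq_true]
    refine ⟨M.sqZ_of_sq hj (hsq _ hb'), ?_⟩
    simp only [commZ, eqZ, Bool.or_eq_true]
    rcases hcomm _ hx _ hb' with e | e <;> rw [← M.mul hi hj, ← M.mul hj hi] at e
    · exact Or.inl (by rw [M.inj (m_mem hi hj) (m_mem hj hi) e]; exact Nat.beq_refl _)
    · rw [show M.z = M.φ 16 from rfl, ← M.mul mem16 (m_mem hj hi)] at e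
      exact Or.inr (by rw [M.inj (m_mem hi hj) (m_mem mem16 (m_mem hj hi)) e]; exact Nat.beq_refl _)
  have h1 := Set.ncard_le_ncard hsub (Set.toFinite _)
  rw [show (F : Set G).ncard = 32 from hcard,
    M.ncard_image (fun j hj => (List.mem_filter.1 hj).1) (syl_nodup.1.filter _)] at h1
  omega

theorem Q_conj [Finite G] {s q : G} (hs : s ∈ S) (hq : q ∈ M.Q) : s * q * s⁻¹ ∈ M.Q := by
  have hz : ∀ w : G, s * (M.z * w) * s⁻¹ = M.z * (s * w * s⁻¹) := fun w => by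
    rw [← mul_assoc, M.z_comm hs]; group
  have e := M.eq_Q_of_card (F := M.Q.map (MulAut.conj s).toMonoidHom)
    (by rintro _ ⟨a, ha, rfl⟩; exact mul_mem (mul_mem hs (M.Q_le ha)) (inv_mem hs))
    (by
      rintro _ ⟨a, ha, rfl⟩
      simp only [MulEquiv.coe_toMonoidHom, MulAut.conj_apply]
      rw [show s * a * s⁻¹ * (s * a * s⁻¹) = s * (a * a) * s⁻¹ by group]
      rcases M.Q_sq ha with e | e <;> rw [e]
      · left; group
      · right; rw [M.z_comm hs, mul_inv_cancel_right])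
    (by
      rintro _ ⟨a, ha, rfl⟩ _ ⟨b, hb, rfl⟩
      simp only [MulEquiv.coe_toMonoidHom, MulAut.conj_apply]
      rw [show s * a * s⁻¹ * (s * b * s⁻¹) = s * (a * b) * s⁻¹ by group,
        show s * b * s⁻¹ * (s * a * s⁻¹) = s * (b * a) * s⁻¹ by group]
      rcases M.Q_comm ha hb with e | e <;> rw [e]
      · exact Or.inl rfl
      · exact Or.inr (hz _))
    (by rw [← Nat.card_congr (M.Q.equivMapOfInjective _ (MulAut.conj s).injective).toEquiv, M.card_Q])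
  rw [← e]
  exact ⟨q, hq, rfl⟩

end SModel

variable [Finite G] {S : Sylow 2 G}

/-- All involutions of `Q` other than `z` are conjugate to `φ 15`. -/
theorem SModel.conj15 (M : SModel (S : Subgroup G))
    {e : G} (he : e * M.φ 8 * e⁻¹ = M.φ 15 ∨ e * M.φ 8 * e⁻¹ = M.φ 31)
    {q : G} (hq : q ∈ M.Q) (hq2 : q * q = 1) (h1 : q ≠ 1) (hqz : q ≠ M.z) : IsConj q (M.φ 15) := by
  have h31 : IsConj (M.φ 31) (M.φ 15) := isConj_iff.2 ⟨_, M.s0_swap.2⟩
  have h8 : IsConj (M.φ 8) (M.φ 15) := by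
    rcases he with h | h
    · exact isConj_iff.2 ⟨e, h⟩
    · exact (isConj_iff.2 ⟨e, h⟩ : IsConj (M.φ 8) (M.φ 31)).trans h31
  rcases M.Q_invol hq hq2 with h | h | h | h | ⟨s, -, h⟩
  · exact absurd h h1
  · exact absurd h hqz
  · rw [h]
  · exact h ▸ h31
  · exact (isConj_iff.2 ⟨s, h⟩ : IsConj q (M.φ 8)).trans h8

/-- **`Q` is strongly closed** when `z` is central in the group. -/
theorem SModel.Q_closed (M : SModel (S : Subgroup G)) (hz : ∀ g : G, g * M.z = M.z * g)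
    {e : G} (he : e * M.φ 8 * e⁻¹ = M.φ 15 ∨ e * M.φ 8 * e⁻¹ = M.φ 31)
    {q g : G} (hq : q ∈ M.Q) (hg : g * q * g⁻¹ ∈ (S : Subgroup G)) : g * q * g⁻¹ ∈ M.Q := by
  by_cases hqZ : q = 1 ∨ q = M.z
  · rcases hqZ with rfl | rfl
    · simpa using one_mem M.Q
    · rw [hz, mul_inv_cancel_right]; exact M.z_mem_Q
  push Not at hqZ
  by_contra hnot
  have hsq : g * q * g⁻¹ * (g * q * g⁻¹) = q * q := by
    rw [show g * q * g⁻¹ * (g * q * g⁻¹) = g * (q * q) * g⁻¹ by group]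
    rcases M.Q_sq hq with e | e <;> rw [e]
    · group
    · rw [hz, mul_inv_cancel_right]
  obtain ⟨h2, i, hi, hie, h32, hii⟩ := M.out_sq hg hnot (by rw [hsq]; exact M.Q_sq hq)
  rw [hsq] at h2
  refine M.not_fused hz hi h32 hii ?_
  rw [hie]
  exact (isConj_iff.2 ⟨g, rfl⟩ : IsConj q _).symm.trans (M.conj15 he hq h2 hqZ.1 hqZ.2)

end Cfsg.Agent.H22.JanType
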