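import Mathlib.GroupTheory.Subgroup.Simple
import Mathlib.GroupTheory.Sylow
import Cfsg.Agent.H39.Basic

/-!
# The factors of a nonabelian minimal normal subgroup
-/

set_option autoImplicit false
set_option linter.style.haveILetI false

namespace Cfsg.Agent.H22.JanType

open Subgroup

variable {X : Type*} [Group X] [Finite X]

/-- Membership in a normaliser by one inclusion. -/
theorem mem_normalizer_of_conj {D : Subgroup X} {g : X} (h : ∀ x ∈ D, g * x * g⁻¹ ∈ D) :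
    g ∈ normalizer (D : Set X) := H39.mem_normalizer_of_conj_mem h

/-- A minimal normal subgroup `M` contains a simple normal subgroup `L` of
itself; different conjugates of `L` meet trivially and commute, and they generate `M`. -/
theorem exists_factor {M : Subgroup X} (hMn : M.Normal) (hM : M ≠ ⊥)
    (hmin : ∀ D : Subgroup X, D.Normal → D ≠ ⊥ → D ≤ M → D = M) :
    ∃ L : Subgroup X, L ≠ ⊥ ∧ L ≤ M ∧ (∀ m ∈ M, ∀ l ∈ L, m * l * m⁻¹ ∈ L) ∧ IsSimpleGroup ↥L ∧
      (∀ g : X, L.map (MulAut.conj g).toMonoidHom ≠ L →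
        L ⊓ L.map (MulAut.conj g).toMonoidHom = ⊥ ∧
          ∀ a ∈ L, ∀ b ∈ L.map (MulAut.conj g).toMonoidHom, a * b = b * a) := by
  have hfin := Set.toFinite {D : Subgroup X | D ≤ M ∧ D ≠ ⊥ ∧ ∀ m ∈ M, ∀ l ∈ D, m * l * m⁻¹ ∈ D}
  obtain ⟨L, ⟨hLM, hL0, hLn⟩, hLmin⟩ := hfin.exists_minimal
    ⟨M, le_rfl, hM, fun m hm l hl => hMn.conj_mem l hl m⟩
  -- conjugates of `L` are again normal in `M`
  have hconjM : ∀ g : X, L.map (MulAut.conj g).toMonoidHom ≤ M ∧
      ∀ m ∈ M, ∀ l ∈ L.map (MulAut.conj g).toMonoidHom,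
        m * l * m⁻¹ ∈ L.map (MulAut.conj g).toMonoidHom := by
    intro g
    refine ⟨?_, ?_⟩
    · rintro _ ⟨l, hl, rfl⟩
      exact hMn.conj_mem l (hLM hl) g
    · rintro m hm _ ⟨l, hl, rfl⟩
      refine ⟨(g⁻¹ * m * g) * l * (g⁻¹ * m * g)⁻¹,
        hLn _ (by simpa using hMn.conj_mem m hm g⁻¹) l hl, ?_⟩
      simp only [MulEquiv.coe_toMonoidHom, MulAut.conj_apply]
      group
  have hdis : ∀ g : X, L.map (MulAut.conj g).toMonoidHom ≠ L →
      L ⊓ L.map (MulAut.conj g).toMonoidHom = ⊥ ∧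
        ∀ a ∈ L, ∀ b ∈ L.map (MulAut.conj g).toMonoidHom, a * b = b * a := by
    intro g hg
    obtain ⟨hle, hn⟩ := hconjM g
    have h0 : L ⊓ L.map (MulAut.conj g).toMonoidHom = ⊥ := by
      by_contra hc
      have h1 : L ≤ L ⊓ L.map (MulAut.conj g).toMonoidHom := hLmin
        ⟨inf_le_left.trans hLM, hc, fun m hm l hl => ⟨hLn m hm l hl.1, hn m hm l hl.2⟩⟩ inf_le_left
      refine hg (Subgroup.eq_of_le_of_card_ge (h1.trans inf_le_right) ?_).symm
      rw [Subgroup.card_map_of_injective (MulEquiv.injective _)]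
    refine ⟨h0, fun a ha b hb => ?_⟩
    have : a * b * a⁻¹ * b⁻¹ ∈ L ⊓ L.map (MulAut.conj g).toMonoidHom := by
      refine ⟨?_, mul_mem (hn a (hLM ha) b hb) (Subgroup.inv_mem _ hb)⟩
      rw [show a * b * a⁻¹ * b⁻¹ = a * (b * a⁻¹ * b⁻¹) by group]
      exact mul_mem ha (hLn b (hle hb) _ (inv_mem ha))
    rw [h0, mem_bot, mul_inv_eq_one, mul_inv_eq_iff_eq_mul] at this
    exact this
  refine ⟨L, hL0, hLM, hLn, ?_, hdis⟩
  -- the conjugates generate `M`
  let J : Subgroup X := normalClosure (L : Set X)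
  have hJ : J = M := hmin J normalClosure_normal
    (fun h => hL0 (eq_bot_iff.2 (h ▸ le_normalClosure))) (normalClosure_le_normal hLM)
  haveI : Nontrivial ↥L := (Subgroup.nontrivial_iff_ne_bot L).2 hL0
  refine IsSimpleGroup.mk fun D hD => ?_
  by_cases hD0 : D = ⊥
  · exact Or.inl hD0
  refine Or.inr ?_
  let D' := D.map L.subtype
  have hD'L : D' ≤ L := map_subtype_le D
  have hgen : M ≤ normalizer (D' : Set X) := by
    rw [← hJ]
    refine (closure_le _).2 fun w hw => ?_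
    obtain ⟨l, hl, hw⟩ := Group.mem_conjugatesOfSet_iff.1 hw
    obtain ⟨g, rfl⟩ := isConj_iff.1 hw
    by_cases hg : L.map (MulAut.conj g).toMonoidHom = L
    · have hmem : g * l * g⁻¹ ∈ L := hg ▸ ⟨l, hl, rfl⟩
      refine mem_normalizer_of_conj ?_
      rintro _ ⟨d, hd, rfl⟩
      exact ⟨⟨_, hmem⟩ * d * ⟨_, hmem⟩⁻¹, hD.conj_mem d hd _, rfl⟩
    · have hc := (hdis g hg).2
      refine mem_normalizer_of_conj ?_
      rintro _ ⟨d, hd, rfl⟩
      have e := hc d d.2 (g * l * g⁻¹) ⟨l, hl, rfl⟩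
      rw [show g * l * g⁻¹ * (L.subtype d) * (g * l * g⁻¹)⁻¹ = d by
        rw [Subgroup.coe_subtype, ← e, mul_inv_cancel_right]]
      exact ⟨d, hd, rfl⟩
  have h1 : L ≤ D' := hLmin ⟨hD'L.trans hLM,
    fun h => hD0 ((Subgroup.map_eq_bot_iff_of_injective _ L.subtype_injective).1 h),
    fun m hm d hd => (mem_normalizer_iff.1 (hgen hm) d).1 hd⟩ hD'L
  refine eq_top_iff.2 fun x _ => ?_
  obtain ⟨d, hd, e⟩ := h1 x.2
  exact (L.subtype_injective e) ▸ hd

end Cfsg.Agent.H22.JanType
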