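import Mathlib.GroupTheory.SpecificGroups.Alternating
import Mathlib.GroupTheory.GroupAction.Quotient
import Mathlib.GroupTheory.PGroup
import Mathlib.Tactic.NormNum.Prime

/-!
# `A₅` acting faithfully on an elementary abelian group of order 16

Fixed points of elements of order 2, 3, 5; irreducibility; at most three orbits.
-/

set_option autoImplicit false
set_option linter.style.haveILetI false

namespace Cfsg.Agent.H22.JanType

universe u

local notation "A5" => Subtype fun x : Equiv.Perm (Fin 5) => x ∈ alternatingGroup (Fin 5)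

theorem a5_orders : ∀ σ : A5, σ = 1 ∨ σ ^ 2 = 1 ∨ σ ^ 3 = 1 ∨ σ ^ 5 = 1 := by decide +kernel

theorem a5_five : ∃ r : A5, r ^ 5 = 1 ∧ r ≠ 1 := by decide +kernel

theorem a5_pair : ∀ σ : A5, σ ^ 2 = 1 → σ ≠ 1 →
    ∃ h : A5, (σ * (h * σ * h⁻¹)) ^ 5 = 1 ∧ σ * (h * σ * h⁻¹) ≠ 1 := by decide +kernel

theorem a5_count :
    (Finset.univ.filter fun σ : A5 => σ ^ 2 = 1 ∧ σ ≠ 1).card = 15 ∧
    (Finset.univ.filter fun σ : A5 => σ ^ 3 = 1 ∧ σ ≠ 1).card = 20 ∧
    (Finset.univ.filter fun σ : A5 => σ ^ 5 = 1 ∧ σ ≠ 1).card = 24 := by decide +kernel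

theorem a5_isConj : ∀ σ τ : A5, σ ^ 2 = 1 → σ ≠ 1 → τ ^ 2 = 1 → τ ≠ 1 →
    ∃ h : A5, h * σ * h⁻¹ = τ := by decide +kernel

variable {V : Type u} [Group V] [Finite V] (ρ : A5 →* MulAut V)

/-- The fixed points of `g`. -/
def fixSub (g : A5) : Subgroup V where
  carrier := {v | ρ g v = v}
  mul_mem' {a b} ha hb := by simp only [Set.mem_ofPred_eq] at ha hb ⊢; rw [map_mul, ha, hb]
  one_mem' := map_one _
  inv_mem' {a} ha := by simp only [Set.mem_ofPred_eq] at ha ⊢; rw [map_inv, ha]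

omit [Finite V] in
@[simp] theorem mem_fixSub {g : A5} {v : V} : v ∈ fixSub ρ g ↔ ρ g v = v := Iff.rfl

/-- The fixed points of a power of `g` contain those of `g`. -/
theorem card_fix_modEq {p : ℕ} [Fact p.Prime] {g : A5} (hg : g ^ p = 1) (B : Subgroup V)
    (hB : ∀ v ∈ B, ρ g v ∈ B) :
    Nat.card ↥B ≡ Nat.card ↥(B ⊓ fixSub ρ g) [MOD p] := by
  let σ : Equiv.Perm ↥B := Equiv.ofBijective (fun v => ⟨ρ g v, hB v v.2⟩)
    (Finite.injective_iff_bijective.1 fun a b h =>
      Subtype.ext ((ρ g).injective (congrArg Subtype.val h)))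
  have hval : ∀ (i : ℕ) (v : ↥B), (((σ ^ i) v : ↥B) : V) = ρ (g ^ i) v := by
    intro i
    induction i with
    | zero => intro v; simp
    | succ j ih =>
      intro v
      rw [pow_succ', Equiv.Perm.mul_apply]
      show ρ g ((σ ^ j) v : ↥B) = _
      rw [ih, pow_succ', map_mul]
      rfl
  have hσ : σ ^ p ^ 1 = 1 := Equiv.ext fun v => Subtype.ext <| by
    rw [pow_one, hval, hg, map_one]; rfl
  classical
  cases nonempty_fintype ↥B
  have h := σ.card_compl_support_modEq hσ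
  rw [← Nat.card_eq_fintype_card] at h
  refine h.symm.trans (congrArg (· % p) ?_)
  rw [← Nat.card_coe_set_eq (↑σ.supportᶜ : Set ↥B) |>.trans (Set.ncard_coe_finset _)]
  refine Nat.card_congr
    { toFun := fun v => ⟨v.1.1, v.1.2, ?_⟩
      invFun := fun v => ⟨⟨v.1, v.2.1⟩, ?_⟩
      left_inv := fun v => rfl
      right_inv := fun v => rfl }
  · have h1 := v.2
    simp only [Finset.coe_compl, Set.mem_compl_iff, Finset.mem_coe, Equiv.Perm.mem_support,
      not_not] at h1
    exact congrArg Subtype.val h1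
  · simp only [Finset.coe_compl, Set.mem_compl_iff, Finset.mem_coe, Equiv.Perm.mem_support,
      not_not]
    exact Subtype.ext v.2.2

variable (hinj : Function.Injective ρ) (h16 : Nat.card V = 16)

include hinj h16 in
theorem fix_ne_full {g : A5} (hg : g ≠ 1) : Nat.card ↥(fixSub ρ g) ≠ 16 := by
  intro h
  have htop : fixSub ρ g = ⊤ := Subgroup.eq_top_of_card_eq _ (by rw [h, h16])
  refine hg (hinj (MulEquiv.ext fun v => ?_))
  rw [map_one, MulAut.one_apply]
  exact (mem_fixSub ρ).1 (htop ▸ Subgroup.mem_top v)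

include h16 in
omit [Finite V] in
theorem dvd_sixteen (B : Subgroup V) :
    Nat.card ↥B = 1 ∨ Nat.card ↥B = 2 ∨ Nat.card ↥B = 4 ∨ Nat.card ↥B = 8 ∨ Nat.card ↥B = 16 := by
  have h := Subgroup.card_subgroup_dvd_card B
  rw [h16] at h
  have h2 : Nat.card ↥B ≤ 16 := Nat.le_of_dvd (by norm_num) h
  interval_cases Nat.card ↥B <;> omega

include hinj h16 in
/-- An element of order five fixes only `1`. -/
theorem fix_five {g : A5} (hg : g ^ 5 = 1) (hg1 : g ≠ 1) : fixSub ρ g = ⊥ := by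
  haveI : Fact (Nat.Prime 5) := ⟨by norm_num⟩
  have h := card_fix_modEq ρ hg ⊤ fun v _ => Subgroup.mem_top _
  rw [Subgroup.card_top, h16, top_inf_eq] at h
  have h2 := fix_ne_full ρ hinj h16 hg1
  rcases dvd_sixteen h16 (fixSub ρ g) with e | e | e | e | e <;>
    rw [e] at h h2 <;> first | exact Subgroup.card_eq_one.1 e | exact absurd h (by decide) | exact absurd rfl h2

include hinj h16 in
/-- An element of order three fixes at most four points. -/
theorem fix_three {g : A5} (hg : g ^ 3 = 1) (hg1 : g ≠ 1) : Nat.card ↥(fixSub ρ g) ≤ 4 := by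
  haveI : Fact (Nat.Prime 3) := ⟨Nat.prime_three⟩
  have h := card_fix_modEq ρ hg ⊤ fun v _ => Subgroup.mem_top _
  rw [Subgroup.card_top, h16, top_inf_eq] at h
  have h2 := fix_ne_full ρ hinj h16 hg1
  rcases dvd_sixteen h16 (fixSub ρ g) with e | e | e | e | e <;>
    rw [e] at h h2 ⊢ <;> first | decide | exact absurd h (by decide) | exact absurd rfl h2

variable (hcomm : ∀ a b : V, a * b = b * a) (hsq : ∀ a : V, a * a = 1)

include hinj h16 hcomm hsq in
/-- An involution fixes four points, which are the products `b * g b`. -/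
theorem fix_two {g : A5} (hg : g ^ 2 = 1) (hg1 : g ≠ 1) :
    Nat.card ↥(fixSub ρ g) = 4 ∧ ∀ v ∈ fixSub ρ g, ∃ b, v = b * ρ g b := by
  let d : V →* V :=
    { toFun := fun v => v * ρ g v
      map_one' := by simp
      map_mul' := fun a b => by
        rw [map_mul, ← mul_assoc, ← mul_assoc, mul_assoc a b, hcomm b (ρ g a), ← mul_assoc] }
  have hgg : ∀ v, ρ g (ρ g v) = v := fun v => by
    rw [← MulAut.mul_apply, ← map_mul, ← pow_two, hg, map_one, MulAut.one_apply]
  have hker : d.ker = fixSub ρ g := by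
    ext v
    rw [MonoidHom.mem_ker, mem_fixSub]
    exact ⟨fun h => (mul_left_cancel (h.trans (hsq v).symm)), fun h => by
      show v * ρ g v = 1
      rw [h, hsq]⟩
  have hrange : d.range ≤ fixSub ρ g := by
    rintro _ ⟨v, rfl⟩
    show ρ g (v * ρ g v) = v * ρ g v
    rw [map_mul, hgg, hcomm]
  have hmul : Nat.card ↥(fixSub ρ g) * Nat.card ↥d.range = 16 := by
    rw [← hker, ← Subgroup.index_ker d, Subgroup.card_mul_index, h16]
  have hle := Subgroup.card_le_of_le hrange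
  -- a conjugate with product of order five
  obtain ⟨h, h5, h51⟩ := a5_pair g hg hg1
  have hprod : Nat.card ↥(fixSub ρ g) * Nat.card ↥(fixSub ρ (h * g * h⁻¹)) ≤ 16 := by
    rw [← h16, ← Nat.card_prod]
    refine Nat.card_le_card_of_injective (fun x => (x.1 : V) * (x.2 : V)) ?_
    rintro ⟨a, b⟩ ⟨a', b'⟩ e
    simp only at e
    have e1 : (a' : V)⁻¹ * a = b' * (b : V)⁻¹ := by
      rw [eq_mul_inv_iff_mul_eq, mul_assoc, e, inv_mul_cancel_left]
    have hm : (a' : V)⁻¹ * a ∈ fixSub ρ (g * (h * g * h⁻¹)) := by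
      rw [mem_fixSub, map_mul ρ, MulAut.mul_apply]
      conv_lhs => rw [e1, (mem_fixSub ρ).1 (mul_mem b'.2 (inv_mem b.2)), ← e1]
      exact (mem_fixSub ρ).1 (mul_mem (inv_mem a'.2) a.2)
    rw [fix_five ρ hinj h16 h5 h51, Subgroup.mem_bot, inv_mul_eq_one] at hm
    obtain rfl : a' = a := Subtype.ext hm
    obtain rfl : b = b' := Subtype.ext (mul_left_cancel e)
    rfl
  have hsame : Nat.card ↥(fixSub ρ (h * g * h⁻¹)) = Nat.card ↥(fixSub ρ g) := by
    have hh : ∀ v, ρ h (ρ h⁻¹ v) = v := fun v => by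
      rw [← MulAut.mul_apply, ← map_mul, mul_inv_cancel, map_one, MulAut.one_apply]
    refine (Nat.card_congr ((ρ h).toEquiv.subtypeEquiv fun v => ?_)).symm
    show _ ↔ ρ h v ∈ fixSub ρ (h * g * h⁻¹)
    rw [mem_fixSub, mem_fixSub, map_mul, map_mul, MulAut.mul_apply, MulAut.mul_apply]
    have hh' : ρ h⁻¹ (ρ h v) = v := by
      rw [← MulAut.mul_apply, ← map_mul, inv_mul_cancel, map_one, MulAut.one_apply]
    rw [hh']
    exact (ρ h).injective.eq_iff.symm
  have hne := fix_ne_full ρ hinj h16 hg1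
  have h4 : Nat.card ↥(fixSub ρ g) = 4 := by
    rw [hsame] at hprod
    rcases dvd_sixteen h16 (fixSub ρ g) with e | e | e | e | e <;>
      rw [e] at hprod hmul hle hne ⊢ <;> omega
  refine ⟨h4, fun v hv => ?_⟩
  rw [h4] at hmul
  have heq : d.range = fixSub ρ g :=
    Subgroup.eq_of_le_of_card_ge hrange (by rw [h4]; omega)
  rw [← heq] at hv
  obtain ⟨b, rfl⟩ := hv
  exact ⟨b, rfl⟩

include hinj h16 in
/-- The action is irreducible. -/
theorem irreducible (B : Subgroup V) (hB : ∀ g, ∀ v ∈ B, ρ g v ∈ B) : B = ⊥ ∨ B = ⊤ := by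
  obtain ⟨r, hr, hr1⟩ := a5_five
  haveI : Fact (Nat.Prime 5) := ⟨by norm_num⟩
  have h := card_fix_modEq ρ hr B (hB r)
  rw [fix_five ρ hinj h16 hr hr1, inf_bot_eq, Subgroup.card_bot] at h
  rcases dvd_sixteen h16 B with e | e | e | e | e <;> rw [e] at h <;>
    first
      | exact Or.inl (Subgroup.card_eq_one.1 e)
      | exact absurd h (by decide)
      | exact Or.inr (Subgroup.eq_top_of_card_eq _ (by rw [e, h16]))

include hinj h16 hcomm hsq in
/-- Two points besides `1` represent all orbits. -/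
theorem two_orbits : ∃ a b : V, a ≠ 1 ∧ b ≠ 1 ∧
    ∀ v : V, v ≠ 1 → ∃ g : A5, ρ g v = a ∨ ρ g v = b := by
  classical
  letI : MulAction A5 V :=
    { smul := fun g v => ρ g v
      one_smul := fun v => by show ρ 1 v = v; rw [map_one]; rfl
      mul_smul := fun g k v => by show ρ (g * k) v = ρ g (ρ k v); rw [map_mul]; rfl }
  cases nonempty_fintype V
  have hb := MulAction.sum_card_fixedBy_eq_card_orbits_mul_card_group A5 V
  have hc60 : Fintype.card A5 = 60 := by decide +kernel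
  have hfix : ∀ g : A5, Fintype.card (MulAction.fixedBy V g) = Nat.card ↥(fixSub ρ g) := by
    intro g
    rw [← Nat.card_eq_fintype_card]
    rfl
  simp only [hfix, hc60] at hb
  obtain ⟨c2, c3, c5⟩ := a5_count
  have hsum : ∑ g : A5, Nat.card ↥(fixSub ρ g) ≤
      ∑ g : A5, ((if g = 1 then 16 else 0) + (if g ^ 2 = 1 ∧ g ≠ 1 then 4 else 0) +
        (if g ^ 3 = 1 ∧ g ≠ 1 then 4 else 0) + (if g ^ 5 = 1 ∧ g ≠ 1 then 1 else 0)) := by
    refine Finset.sum_le_sum fun g _ => ?_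
    by_cases h1 : g = 1
    · subst h1
      rw [if_pos rfl]
      have : Nat.card ↥(fixSub ρ (1 : A5)) ≤ 16 := h16 ▸ Subgroup.card_le_card_group _
      omega
    rcases a5_orders g with h | h | h | h
    · exact absurd h h1
    · rw [(fix_two ρ hinj h16 hcomm hsq h h1).1, if_pos (show g ^ 2 = 1 ∧ g ≠ 1 from ⟨h, h1⟩)]; omega
    · have := fix_three ρ hinj h16 h h1
      rw [if_pos (show g ^ 3 = 1 ∧ g ≠ 1 from ⟨h, h1⟩)]; omega
    · rw [fix_five ρ hinj h16 h h1, Subgroup.card_bot,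
        if_pos (show g ^ 5 = 1 ∧ g ≠ 1 from ⟨h, h1⟩)]; omega
  simp only [Finset.sum_add_distrib, Finset.sum_ite_eq', Finset.mem_univ, if_true,
    ← Finset.sum_filter, Finset.sum_const, c2, c3, c5, smul_eq_mul] at hsum
  -- at most three orbits, one of which is `{1}`
  set Ω := Quotient (MulAction.orbitRel A5 V) with hΩdef
  have hΩ : Fintype.card Ω ≤ 3 := by
    rw [Fintype.card_eq_nat_card, ← hΩdef] at hb
    rw [Fintype.card_eq_nat_card]
    omega
  let o : Ω := Quotient.mk'' 1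
  have hrest : (Finset.univ.erase o).card ≤ 2 := by
    rw [Finset.card_erase_of_mem (Finset.mem_univ o), Finset.card_univ]; omega
  obtain ⟨v₀, hv₀⟩ : ∃ v : V, v ≠ 1 := by
    haveI : Nontrivial V := Finite.one_lt_card_iff_nontrivial.1 (by omega)
    exact exists_ne 1
  have hno : ∀ v : V, v ≠ 1 → (Quotient.mk'' v : Ω) ≠ o := fun v hv h => by
    obtain ⟨g, hg⟩ := MulAction.orbitRel_apply.1 (Quotient.eq''.1 h)
    exact hv (hg.symm.trans (map_one (ρ g)))
  have hrep : ∀ v w : V, (Quotient.mk'' v : Ω) = Quotient.mk'' w → ∃ g : A5, ρ g v = w := fun v w h => by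
    obtain ⟨g, hg⟩ := MulAction.orbitRel_apply.1 (Quotient.eq''.1 h.symm)
    exact ⟨g, hg⟩
  by_cases hall : ∀ v : V, v ≠ 1 → (Quotient.mk'' v : Ω) = Quotient.mk'' v₀
  · exact ⟨v₀, v₀, hv₀, hv₀, fun v hv => (hrep v v₀ (hall v hv)).imp fun g hg => Or.inl hg⟩
  push Not at hall
  obtain ⟨v₁, hv₁, hne⟩ := hall
  refine ⟨v₀, v₁, hv₀, hv₁, fun v hv => ?_⟩
  have hsub : ({Quotient.mk'' v₀, Quotient.mk'' v₁} : Finset Ω) = Finset.univ.erase o :=
    Finset.eq_of_subset_of_card_le (by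
      intro x hx
      rcases Finset.mem_insert.1 hx with rfl | hx
      · exact Finset.mem_erase.2 ⟨hno v₀ hv₀, Finset.mem_univ _⟩
      · rw [Finset.mem_singleton.1 hx]
        exact Finset.mem_erase.2 ⟨hno v₁ hv₁, Finset.mem_univ _⟩)
      (by rw [Finset.card_pair hne.symm]; exact hrest)
  have hm : (Quotient.mk'' v : Ω) ∈ ({Quotient.mk'' v₀, Quotient.mk'' v₁} : Finset Ω) :=
    hsub ▸ Finset.mem_erase.2 ⟨hno v hv, Finset.mem_univ _⟩
  rcases Finset.mem_insert.1 hm with h | h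
  · exact (hrep v v₀ h).imp fun g hg => Or.inl hg
  · exact (hrep v v₁ (Finset.mem_singleton.1 h)).imp fun g hg => Or.inr hg

end Cfsg.Agent.H22.JanType
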