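import Cfsg.Prelude.Def_Involutions
import Cfsg.Agent.H26.Invol
import Cfsg.Agent.S0223
import Mathlib.GroupTheory.Subgroup.Simple

/-!
# A simple group with a strongly embedded subgroup has one class of involutions
-/

set_option autoImplicit false
set_option linter.style.haveILetI false

namespace Cfsg.Agent.H22.JanType

open Subgroup

/-- In a simple group with a strongly embedded subgroup all involutions are conjugate. -/
theorem isConj_of_stronglyEmbedded {G : Type*} [Group G] [Finite G] [IsSimpleGroup G]
    {H : Subgroup G} (hH : Cfsg.IsStronglyEmbedded H) {x y : G} (hx : orderOf x = 2)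
    (hy : orderOf y = 2) : IsConj x y := by
  obtain ⟨hC, -⟩ := (S0223.result H hH.1 hH.2.1).1 hH
  -- every involution has a conjugate outside `H`
  have hout : ∀ v : G, orderOf v = 2 → ∃ g : G, g * v * g⁻¹ ∉ H := by
    intro v hv
    by_contra hc
    push Not at hc
    have hle : normalClosure ({v} : Set G) ≤ H := (closure_le _).2 fun w hw => by
      obtain ⟨a, ha, hw'⟩ := Group.mem_conjugatesOfSet_iff.1 hw
      obtain ⟨c, rfl⟩ := isConj_iff.1 hw'
      rw [Set.mem_singleton_iff] at ha
      subst ha
      exact hc c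
    rcases Subgroup.Normal.eq_bot_or_eq_top
      (normalClosure_normal (s := ({v} : Set G))) with h | h
    · have h1 : v ∈ normalClosure ({v} : Set G) := subset_normalClosure rfl
      rw [h, mem_bot] at h1
      rw [h1, orderOf_one] at hv
      norm_num at hv
    · exact hH.1 (top_le_iff.1 (h ▸ hle))
  -- an involution in `H` and one outside are conjugate
  have hmix : ∀ a b : G, orderOf a = 2 → orderOf b = 2 → a ∈ H → b ∉ H → IsConj a b := by
    intro a b ha hb haH hbH
    by_contra hn
    have ha' := H26.mul_self_of_orderOf_two ha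
    have hb' := H26.mul_self_of_orderOf_two hb
    obtain ⟨s, hs⟩ := H26.even_orderOf_of_not_isConj ha' hb' hn
    have hpos : 0 < orderOf (a * b) := orderOf_pos _
    let w := (a * b) ^ s
    have hw2 : orderOf w = 2 := by
      rw [orderOf_pow' _ (by omega), hs, Nat.gcd_eq_right ⟨2, by ring⟩,
        show s + s = s * 2 by ring, Nat.mul_div_cancel_left _ (by omega)]
    have hwi : ((a * b) ^ (s : ℤ))⁻¹ = (a * b) ^ (s : ℤ) := by
      rw [zpow_natCast]
      exact H26.inv_eq_self_of_orderOf_two hw2
    have hcomm : ∀ c, c * c = 1 → c * (a * b) ^ (s : ℤ) * c = (a * b) ^ (-(s : ℤ)) →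
        c ∈ centralizer ({w} : Set G) := by
      intro c hc he
      rw [zpow_neg, hwi, zpow_natCast] at he
      refine mem_centralizer_singleton_iff.2 ?_
      calc c * w = c * w * (c * c) := by rw [hc, mul_one]
        _ = c * w * c * c := by group
        _ = w * c := by rw [show c * w * c = w from he]
    have haw : a ∈ centralizer ({w} : Set G) := hcomm a ha' (H26.conj_zpow_mul ha' hb' s)
    have hwH : w ∈ H :=
      hC a haH ha (mem_centralizer_singleton_iff.2 (mem_centralizer_singleton_iff.1 haw).symm)
    have hbw : b ∈ centralizer ({w} : Set G) := by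
      refine hcomm b hb' ?_
      have h1 := H26.conj_zpow_mul hb' ha' (-(s : ℤ))
      rw [neg_neg] at h1
      have e : b * a = (a * b)⁻¹ := by
        rw [mul_inv_rev, H26.inv_eq_self_of_orderOf_two ha, H26.inv_eq_self_of_orderOf_two hb]
      rw [e, inv_zpow', inv_zpow', neg_neg] at h1
      exact h1
    exact hbH (hC w hwH hw2 hbw)
  -- an involution in `H`
  obtain ⟨v, hv⟩ : ∃ v : ↥H, orderOf v = 2 :=
    haveI : Fact (Nat.Prime 2) := ⟨Nat.prime_two⟩
    exists_prime_orderOf_dvd_card' 2 (even_iff_two_dvd.1 hH.2.1)
  rw [← Subgroup.orderOf_coe] at hv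
  obtain ⟨g, hg⟩ := hout v hv
  have hall : ∀ a, orderOf a = 2 → IsConj (v : G) a := by
    intro a ha
    by_cases haH : a ∈ H
    · exact (isConj_iff.2 ⟨g, rfl⟩).trans
        (hmix a _ ha (by rw [H26.orderOf_conj_eq]; exact hv) haH hg).symm
    · exact hmix v a hv ha v.2 haH
  exact (hall x hx).symm.trans (hall y hy)

end Cfsg.Agent.H22.JanType
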