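import Cfsg.Agent.H22.JanType.Hyp
import Cfsg.Agent.H22.JanType.Module
import Cfsg.Agent.H22.JanType.Minimal
import Cfsg.Agent.H22.JanType.OneClass
import Cfsg.Prelude.Def_OddOrder
import Cfsg.Agent.H22.JanType.Basics
import Mathlib.GroupTheory.Transfer

/-!
# A strongly closed `E₁₆` with automiser `A₅` is normal

In a group with trivial odd core, given Goldschmidt's theorem and two non-conjugate involutions
in the subgroup.
-/

set_option autoImplicit false
set_option linter.unusedSectionVars false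
set_option linter.style.haveILetI false

namespace Cfsg.Agent.H22.JanType

open Subgroup

universe u

local notation "A5" => Subtype fun x : Equiv.Perm (Fin 5) => x ∈ alternatingGroup (Fin 5)

/-- An elementary abelian subgroup of order 16 with automiser `A₅` in a Sylow 2-subgroup. -/
structure Frame {X : Type u} [Group X] (A : Subgroup X) (T : Sylow 2 X) where
  comm : ∀ a ∈ A, ∀ b ∈ A, a * b = b * a
  sq : ∀ a ∈ A, a * a = 1
  card : Nat.card ↥A = 16
  le : A ≤ (T : Subgroup X)
  le_norm : (T : Subgroup X) ≤ normalizer (A : Set X)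
  cent : ∀ t ∈ (T : Subgroup X), (∀ a ∈ A, t * a = a * t) → t ∈ A
  /-- the map onto `A₅` -/
  ψ : ↥(normalizer (A : Set X)) →* A5
  surj : Function.Surjective ψ
  ker_iff : ∀ n, ψ n = 1 ↔ ∀ a ∈ A, (n : X) * a = a * n

namespace Frame

variable {X : Type u} [Group X] {A : Subgroup X} {T : Sylow 2 X} (P : Frame A T)
include P

theorem ψ_mem {n : ↥(normalizer (A : Set X))} (hn : (n : X) ∈ A) : P.ψ n = 1 :=
  (P.ker_iff n).2 fun a ha => P.comm _ hn a ha

/-- The action of `A₅` on `A`. -/
noncomputable def rho : A5 →* MulAut ↥A :=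
  P.ψ.liftOfSurjective P.surj ⟨A.normalizerMonoidHom, fun n hn => by
    rw [MonoidHom.mem_ker] at hn ⊢
    ext a
    show (n : X) * a * (n : X)⁻¹ = a
    rw [(P.ker_iff n).1 hn a a.2, mul_inv_cancel_right]⟩

theorem rho_apply (n : ↥(normalizer (A : Set X))) (a : ↥A) :
    ((P.rho (P.ψ n) a : ↥A) : X) = (n : X) * a * (n : X)⁻¹ := by
  rw [rho, MonoidHom.liftOfSurjective, MonoidHom.liftOfRightInverse_comp_apply]
  rfl

theorem rho_injective : Function.Injective P.rho := by
  rw [injective_iff_map_eq_one]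
  intro g hg
  obtain ⟨n, rfl⟩ := P.surj g
  refine (P.ker_iff n).2 fun a ha => ?_
  have h := P.rho_apply n ⟨a, ha⟩
  rw [hg, MulAut.one_apply] at h
  exact (mul_inv_eq_iff_eq_mul.1 h.symm)

variable [Finite X]

/-- A subgroup of `A` invariant under the normaliser is trivial or `A`. -/
theorem irred {B : Subgroup X} (hB : B ≤ A)
    (hinv : ∀ n ∈ normalizer (A : Set X), ∀ b ∈ B, n * b * n⁻¹ ∈ B) : B = ⊥ ∨ B = A := by
  have h := irreducible P.rho P.rho_injective P.card (B.subgroupOf A) fun g v hv => by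
    obtain ⟨n, rfl⟩ := P.surj g
    show ((P.rho (P.ψ n) v : ↥A) : X) ∈ B
    rw [P.rho_apply]
    exact hinv n n.2 _ hv
  rcases h with h | h
  · exact Or.inl (eq_bot_iff.2 fun b hb => by
      have h1 : (⟨b, hB hb⟩ : ↥A) ∈ B.subgroupOf A := hb
      rw [h, mem_bot] at h1
      exact congrArg Subtype.val h1)
  · exact Or.inr (le_antisymm hB (subgroupOf_eq_top.1 h))

/-- The image of a normal subgroup of the normaliser in `A₅` is trivial or everything. -/
theorem image_cases (D : Subgroup ↥(normalizer (A : Set X))) [D.Normal] :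
    D.map P.ψ = ⊥ ∨ D.map P.ψ = ⊤ := by
  haveI : IsSimpleGroup A5 :=
    alternatingGroup.isSimpleGroup (α := Fin 5) (by simp)
  exact Subgroup.Normal.eq_bot_or_eq_top (Subgroup.Normal.map inferInstance _ P.surj)

/-- A normal subgroup meeting `A` trivially meets `T` trivially. -/
theorem inf_ne_bot {L : Subgroup X} (hn : ∀ a ∈ A, ∀ l ∈ L, a * l * a⁻¹ ∈ L)
    (hLA : L ⊓ A = ⊥) {t : X} (ht : t ∈ (T : Subgroup X)) (htL : t ∈ L) : t = 1 := by
  have h : t ∈ A := P.cent t ht fun a ha => by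
    have h1 : t * a * t⁻¹ * a⁻¹ ∈ L ⊓ A := by
      refine ⟨?_, mul_mem ((mem_normalizer_iff.1 (P.le_norm ht) a).1 ha) (Subgroup.inv_mem _ ha)⟩
      rw [show t * a * t⁻¹ * a⁻¹ = t * (a * t⁻¹ * a⁻¹) by group]
      exact mul_mem htL (hn a ha _ (inv_mem htL))
    rw [hLA, mem_bot, mul_inv_eq_one, mul_inv_eq_iff_eq_mul] at h1
    exact h1
  have h2 : t ∈ L ⊓ A := ⟨htL, h⟩
  rwa [hLA, mem_bot] at h2

/-- The Sylow subgroup cuts out a Sylow subgroup of a subnormal subgroup. -/
theorem exists_sylow {M L : Subgroup X} (hMn : M.Normal) (hLM : L ≤ M)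
    (hLn : ∀ m ∈ M, ∀ l ∈ L, m * l * m⁻¹ ∈ L) :
    ∃ S : Sylow 2 ↥L, (S : Subgroup ↥L) = (T : Subgroup X).subgroupOf L := by
  haveI := hMn
  haveI : Fact (Nat.Prime 2) := ⟨Nat.prime_two⟩
  haveI : (L.subgroupOf M).Normal := ⟨fun l hl m => hLn m m.2 l hl⟩
  obtain ⟨Q, hQ⟩ := exists_sylow_inf_normal T M
  obtain ⟨R, hR⟩ := exists_sylow_inf_normal Q (L.subgroupOf M)
  let S : Sylow 2 ↥L := Sylow.mapSurjective (f := (subgroupOfEquivOfLe hLM).toMonoidHom)
    (MulEquiv.surjective _) R
  refine ⟨S, ?_⟩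
  apply map_injective L.subtype_injective
  rw [subgroupOf_map_subtype]
  ext x
  constructor
  · rintro ⟨_, ⟨r, hr, rfl⟩, rfl⟩
    have h1 : (r : ↥M) ∈ (Q : Subgroup ↥M) ⊓ L.subgroupOf M := hR ▸ ⟨r, hr, rfl⟩
    have h2 : ((r : ↥M) : X) ∈ (T : Subgroup X) ⊓ M := hQ ▸ ⟨_, h1.1, rfl⟩
    exact ⟨h2.1, h1.2⟩
  · rintro ⟨hxT, hxL⟩
    have h2 : x ∈ (Q : Subgroup ↥M).map M.subtype := hQ ▸ ⟨hxT, hLM hxL⟩
    obtain ⟨y, hy, rfl⟩ := h2
    have h1 : y ∈ (R : Subgroup _).map (L.subgroupOf M).subtype := hR ▸ ⟨hy, hxL⟩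
    obtain ⟨r, hr, rfl⟩ := h1
    exact ⟨_, ⟨r, hr, rfl⟩, rfl⟩

theorem ne_bot : A ≠ ⊥ := fun h => by
  have := P.card
  rw [h, Subgroup.card_bot] at this
  norm_num at this

/-- A simple subgroup containing `A`, normalised by `N(A)`, is impossible. -/
theorem false_of_simple (hGold : GoldschmidtHyp.{u})
    (hsc : Cfsg.IsStronglyClosed A (T : Subgroup X))
    (hnc : ∃ a ∈ A, ∃ b ∈ A, a ≠ 1 ∧ b ≠ 1 ∧ ¬ IsConj a b)
    {M L : Subgroup X} (hMn : M.Normal) (hLM : L ≤ M) (hLn : ∀ m ∈ M, ∀ l ∈ L, m * l * m⁻¹ ∈ L)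
    [IsSimpleGroup ↥L] (hA : A ≤ L)
    (hnorm : ∀ n ∈ normalizer (A : Set X), ∀ l ∈ L, n * l * n⁻¹ ∈ L) : False := by
  classical
  haveI : Fact (Nat.Prime 2) := ⟨Nat.prime_two⟩
  obtain ⟨S, hS⟩ := P.exists_sylow hMn hLM hLn
  let D : Subgroup ↥(normalizer (A : Set X)) := L.subgroupOf (normalizer (A : Set X))
  haveI hD : D.Normal := ⟨fun d hd n => hnorm n n.2 d hd⟩
  have hAS : A.subgroupOf L ≤ (S : Subgroup ↥L) := hS ▸ fun x hx => P.le hx
  rcases P.image_cases D with h | h
  · -- the normaliser in `L` centralises `A`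
    have hc : ∀ l ∈ L, l ∈ normalizer (A : Set X) → ∀ a ∈ A, l * a = a * l := fun l hl hn =>
      (P.ker_iff ⟨l, hn⟩).1 (by
        have h1 : P.ψ ⟨l, hn⟩ ∈ D.map P.ψ := ⟨_, hl, rfl⟩
        rwa [h, mem_bot] at h1)
    have hSA : (S : Subgroup ↥L) = A.subgroupOf L := by
      refine le_antisymm (fun x hx => ?_) hAS
      rw [hS] at hx
      exact P.cent x hx (hc x x.2 (P.le_norm hx))
    have hSc : normalizer ((S : Subgroup ↥L) : Set ↥L) ≤ centralizer ((S : Subgroup ↥L) : Set ↥L) := by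
      intro x hx
      rw [hSA] at hx ⊢
      refine mem_centralizer_iff.2 fun y hy => Subtype.ext ?_
      refine (hc x x.2 ?_ y hy).symm
      refine mem_normalizer_iff.2 fun a => ?_
      constructor
      · intro ha
        exact (mem_normalizer_iff.1 hx ⟨a, hA ha⟩).1 ha
      · intro ha
        have hh := (mem_normalizer_iff.1 hx (x⁻¹ * ⟨x * a * (x : X)⁻¹, hA ha⟩ * x)).2 (by
          show ((x * (x⁻¹ * ⟨x * a * (x : X)⁻¹, hA ha⟩ * x) * x⁻¹ : ↥L) : X) ∈ A
          simpa [mul_assoc] using ha)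
        simpa [Subgroup.mem_subgroupOf, mul_assoc] using hh
    have hK := MonoidHom.ker_transferSylow_isComplement' S hSc
    rcases Subgroup.Normal.eq_bot_or_eq_top
      (inferInstance : (MonoidHom.transferSylow S hSc).ker.Normal) with e | e
    · -- `L` is abelian of exponent two
      rw [e] at hK
      have htop : (S : Subgroup ↥L) = ⊤ := isComplement'_bot_left.1 hK
      rw [hSA, subgroupOf_eq_top] at htop
      obtain rfl : A = L := le_antisymm hA htop
      letI : CommGroup ↥A :=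
        { (inferInstance : Group ↥A) with
          mul_comm := fun x y => Subtype.ext (P.comm x x.2 y y.2) }
      have hp := IsSimpleGroup.prime_card (α := ↥A)
      rw [P.card] at hp
      norm_num at hp
    · rw [e] at hK
      have hbot : (S : Subgroup ↥L) = ⊥ := isComplement'_top_left.1 hK
      rw [hSA, subgroupOf_eq_bot, disjoint_iff, inf_eq_left.2 hA] at hbot
      exact P.ne_bot hbot
  · -- a Sylow subgroup of `L` is larger than `A`
    have hsc' : Cfsg.IsStronglyClosed (A.subgroupOf L) (S : Subgroup ↥L) :=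
      ⟨hAS, fun x hx g hg => hsc.2 x hx g (by rw [hS] at hg; exact hg)⟩
    haveI : IsMulCommutative ↥(A.subgroupOf L) :=
      ⟨⟨fun x y => Subtype.ext (Subtype.ext (P.comm _ x.2 _ y.2))⟩⟩
    have hne : A.subgroupOf L ≠ ⊥ := fun e => P.ne_bot (by
      rw [subgroupOf_eq_bot, disjoint_iff, inf_eq_left.2 hA] at e; exact e)
    rcases hGold ↥L S (A.subgroupOf L) hne inferInstance hsc' with hcom | ⟨H, hH⟩
    · -- then `S = A`
      have hSA : (S : Subgroup ↥L) = A.subgroupOf L := by
        refine le_antisymm (fun x hx => ?_) hAS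
        have hx' : (x : X) ∈ (T : Subgroup X) := by rw [hS] at hx; exact hx
        exact P.cent x hx' fun a ha => congrArg (fun z : ↥(S : Subgroup ↥L) => ((z : ↥L) : X))
          (hcom.is_comm.comm ⟨x, hx⟩ ⟨⟨a, hA ha⟩, hAS ha⟩)
      -- but `L ∩ N(A)` maps onto `A₅` and contains `A` in the kernel
      have h60 : Nat.card A5 = 60 := by rw [Nat.card_eq_fintype_card]; decide +kernel
      have hdvd : 16 * 60 ∣ Nat.card ↥D := by
        let φ := P.ψ.comp D.subtype
        have hφ : φ.range = ⊤ := by rw [MonoidHom.range_comp, range_subtype, h]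
        rw [← φ.ker.card_mul_index, index_ker, hφ, Subgroup.card_top, h60]
        refine Nat.mul_dvd_mul_right ?_ 60
        rw [← P.card]
        let ι : ↥A →* ↥φ.ker :=
          { toFun := fun a => ⟨⟨⟨a, le_normalizer a.2⟩, hA a.2⟩, P.ψ_mem a.2⟩
            map_one' := rfl
            map_mul' := fun _ _ => rfl }
        exact card_dvd_of_injective ι fun a b e => Subtype.ext
          (congrArg (fun z : ↥φ.ker => (((z : ↥D) : ↥(normalizer (A : Set X))) : X)) e)
      have hL : 16 * 60 ∣ Nat.card ↥L := by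
        refine hdvd.trans ?_
        let ι : ↥D →* ↥L :=
          { toFun := fun d => ⟨((d : ↥(normalizer (A : Set X))) : X), d.2⟩
            map_one' := rfl
            map_mul' := fun _ _ => rfl }
        exact card_dvd_of_injective ι fun a b e => Subtype.ext (Subtype.ext
          (congrArg (fun z : ↥L => (z : X)) e))
      have hS16 : Nat.card ↥(S : Subgroup ↥L) = 16 := by
        rw [hSA, Nat.card_congr (subgroupOfEquivOfLe hA).toEquiv, P.card]
      have hidx := S.not_dvd_index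
      rw [← (S : Subgroup ↥L).card_mul_index, hS16] at hL
      exact hidx (dvd_trans (by norm_num) ((Nat.mul_dvd_mul_iff_left (by norm_num)).1 hL))
    · obtain ⟨a, ha, b, hb, ha1, hb1, hab⟩ := hnc
      have ho : ∀ c : X, ∀ (hc : c ∈ A), c ≠ 1 → orderOf (⟨c, hA hc⟩ : ↥L) = 2 := fun c hc hc1 => by
        rw [Subgroup.orderOf_mk]
        exact H26.orderOf_two_of_mul_self (P.sq c hc) hc1
      have := isConj_of_stronglyEmbedded hH (ho a ha ha1) (ho b hb hb1)
      exact hab (L.subtype.map_isConj this)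

/-- **`A` is normal.** -/
theorem normal (hGold : GoldschmidtHyp.{u}) (hcore : Cfsg.oddCore X = ⊥)
    (hsc : Cfsg.IsStronglyClosed A (T : Subgroup X))
    (hnc : ∃ a ∈ A, ∃ b ∈ A, a ≠ 1 ∧ b ≠ 1 ∧ ¬ IsConj a b) : A.Normal := by
  classical
  haveI : Fact (Nat.Prime 2) := ⟨Nat.prime_two⟩
  haveI : Nontrivial X := by
    by_contra h
    rw [not_nontrivial_iff_subsingleton] at h
    exact P.ne_bot (Subsingleton.elim _ _)
  obtain ⟨M, hMn, hM, hmin⟩ := exists_minimal (G := X)
  have hMT : ¬ Odd (Nat.card ↥M) := fun ho => hM (le_bot_iff.1 (hcore ▸ Cores.le_oddCore (N := M) ho))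
  -- `M` meets `A`
  have hMA : M ⊓ A ≠ ⊥ := by
    intro h
    obtain ⟨S, hS⟩ := P.exists_sylow hMn le_rfl fun m _ l hl => hMn.conj_mem l hl m
    have hS1 : (S : Subgroup ↥M) = ⊥ := eq_bot_iff.2 fun x hx => by
      rw [hS] at hx
      exact mem_bot.2 (Subtype.ext (P.inf_ne_bot (fun a _ l hl => hMn.conj_mem l hl a) h hx x.2))
    refine hMT (Nat.not_even_iff_odd.1 fun he => ?_)
    have h2 := S.dvd_card_of_dvd_card (even_iff_two_dvd.1 he)
    rw [hS1, Subgroup.card_bot] at h2
    norm_num at h2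
  have hAM : A ≤ M := by
    rcases P.irred (B := M ⊓ A) inf_le_right fun n hn b hb =>
      ⟨hMn.conj_mem b hb.1 n, (mem_normalizer_iff.1 hn b).1 hb.2⟩ with h | h
    · exact absurd h hMA
    · exact h ▸ inf_le_left
  obtain ⟨L, hL0, hLM, hLn, hLs, hdis⟩ := exists_factor hMn hM hmin
  haveI := hLs
  let J : X → Subgroup X := fun g => L.map (MulAut.conj g).toMonoidHom
  have hJn : ∀ g, ∀ m ∈ M, ∀ l ∈ J g, m * l * m⁻¹ ∈ J g := by
    rintro g m hm _ ⟨l, hl, rfl⟩
    refine ⟨(g⁻¹ * m * g) * l * (g⁻¹ * m * g)⁻¹,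
      hLn _ (by simpa using hMn.conj_mem m hm g⁻¹) l hl, ?_⟩
    simp only [MulEquiv.coe_toMonoidHom, MulAut.conj_apply]
    group
  have hJM : ∀ g, J g ≤ M := by
    rintro g _ ⟨l, hl, rfl⟩
    exact hMn.conj_mem l (hLM hl) g
  have hgenM : normalClosure (L : Set X) = M := hmin _ normalClosure_normal
    (fun h => hL0 (eq_bot_iff.2 (h ▸ le_normalClosure))) (normalClosure_le_normal hLM)
  by_cases hcomm : ∀ a ∈ L, ∀ b ∈ L, a * b = b * a
  · -- `M` is abelian, hence a 2-group, hence equal to `A`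
    have hMc : ∀ a ∈ M, ∀ b ∈ M, a * b = b * a := by
      have hgen : ∀ a ∈ Group.conjugatesOfSet (L : Set X), ∀ b ∈ Group.conjugatesOfSet (L : Set X),
          a * b = b * a := by
        intro a ha b hb
        obtain ⟨a', ha', h1⟩ := Group.mem_conjugatesOfSet_iff.1 ha
        obtain ⟨b', hb', h2⟩ := Group.mem_conjugatesOfSet_iff.1 hb
        obtain ⟨g, rfl⟩ := isConj_iff.1 h1
        obtain ⟨k, rfl⟩ := isConj_iff.1 h2
        -- move the first to `L`
        obtain ⟨j, hj⟩ : ∃ j, j = g⁻¹ * k := ⟨_, rfl⟩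
        have key : a' * (j * b' * j⁻¹) = (j * b' * j⁻¹) * a' := by
          by_cases hJ : J j = L
          · exact hcomm a' ha' _ (hJ ▸ ⟨b', hb', rfl⟩)
          · exact (hdis j hJ).2 a' ha' _ ⟨b', hb', rfl⟩
        calc g * a' * g⁻¹ * (k * b' * k⁻¹) = g * (a' * (j * b' * j⁻¹)) * g⁻¹ := by rw [hj]; group
          _ = g * ((j * b' * j⁻¹) * a') * g⁻¹ := by rw [key]
          _ = _ := by rw [hj]; group
      intro a ha b hb
      haveI := Subgroup.isMulCommutative_closure hgen
      rw [← hgenM] at ha hb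
      exact congrArg Subtype.val (mul_comm'
        (a := (⟨a, ha⟩ : ↥(closure (Group.conjugatesOfSet (L : Set X))))) (b := ⟨b, hb⟩))
    -- `A ≤ M` and `M` is a 2-group as `L` has prime order
    letI : CommGroup ↥L :=
      { (inferInstance : Group ↥L) with
        mul_comm := fun a b => Subtype.ext (hcomm a a.2 b b.2) }
    have hp := IsSimpleGroup.prime_card (α := ↥L)
    haveI : Fact (Nat.card ↥L).Prime := ⟨hp⟩
    have hMp : IsPGroup (Nat.card ↥L) ↥M := by
      let E : Subgroup X :=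
        { carrier := {x | x ∈ M ∧ x ^ Nat.card ↥L = 1}
          one_mem' := ⟨one_mem _, one_pow _⟩
          mul_mem' := fun {a b} ha hb => ⟨mul_mem ha.1 hb.1, by
            rw [(show Commute a b from hMc a ha.1 b hb.1).mul_pow, ha.2, hb.2, one_mul]⟩
          inv_mem' := fun {a} ha => ⟨inv_mem ha.1, by rw [inv_pow, ha.2, inv_one]⟩ }
      haveI : E.Normal := ⟨fun x hx g => ⟨hMn.conj_mem x hx.1 g, by
        rw [conj_pow, hx.2, mul_one, mul_inv_cancel]⟩⟩
      have hE : E = M := hmin E inferInstance (fun e => hL0 (eq_bot_iff.2 (e ▸ fun l hl =>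
        (⟨hLM hl, orderOf_dvd_iff_pow_eq_one.1 (Subgroup.orderOf_dvd_natCard _ hl)⟩ :
          l ∈ E)))) (fun x hx => hx.1)
      intro x
      refine ⟨1, Subtype.ext ?_⟩
      rw [pow_one, SubmonoidClass.coe_pow]
      exact ((hE.ge) x.2).2
    rcases hp.eq_two_or_odd' with h2 | hodd
    · rw [h2] at hMp
      obtain ⟨S, hS⟩ := hMp.exists_le_sylow
      have hMT' : M ≤ (T : Subgroup X) := by
        obtain ⟨g, hg⟩ := MulAction.exists_smul_eq X S T
        intro x hx
        rw [← hg]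
        exact ⟨g⁻¹ * x * g, hS (by simpa using hMn.conj_mem x hx g⁻¹), by simp [mul_assoc]⟩
      have hMA' : M = A := le_antisymm (fun x hx => P.cent x (hMT' hx) fun a ha =>
        hMc x hx a (hAM ha)) hAM
      exact hMA' ▸ hMn
    · exfalso
      obtain ⟨n, hn⟩ := IsPGroup.iff_card.1 hMp
      exact hMT (hn ▸ hodd.pow)
  exfalso
  -- every factor meets `A`
  have hB : ∀ g, J g ⊓ A ≠ ⊥ := by
    intro g h
    obtain ⟨S, hS⟩ := P.exists_sylow hMn (hJM g) (hJn g)
    have hS1 : (S : Subgroup ↥(J g)) = ⊥ := eq_bot_iff.2 fun x hx => by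
      rw [hS] at hx
      exact mem_bot.2 (Subtype.ext (P.inf_ne_bot (fun a ha l hl => hJn g a (hAM ha) l hl) h hx x.2))
    have hodd : ¬ 2 ∣ Nat.card ↥(J g) := fun h2 => by
      have h3 := S.dvd_card_of_dvd_card h2
      rw [hS1, Subgroup.card_bot] at h3
      norm_num at h3
    rw [Subgroup.card_map_of_injective (MulEquiv.injective _), ← even_iff_two_dvd,
      Nat.not_even_iff_odd] at hodd
    -- then `L` lies in the odd core of `M`, which is trivial
    haveI := hMn
    haveI : (L.subgroupOf M).Normal := ⟨fun l hl m => hLn m m.2 l hl⟩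
    have h1 : L.subgroupOf M ≤ Cfsg.oddCore ↥M := Cores.le_oddCore
      (by rw [Nat.card_congr (subgroupOfEquivOfLe hLM).toEquiv]; exact hodd)
    have h2 : (Cfsg.oddCore ↥M).map M.subtype ≤ ⊥ :=
      (Cores.map_pPrimeCore_le_of_normal M).trans hcore.le
    have h3 := (map_mono (f := M.subtype) h1).trans h2
    rw [subgroupOf_map_subtype, inf_eq_left.2 hLM] at h3
    exact hL0 (le_bot_iff.1 h3)
  -- the factors
  let Ω := {J' : Subgroup X // ∃ g, J' = J g}
  haveI : Finite Ω := inferInstance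
  have hdis' : ∀ g k, J g ≠ J k →
      J g ⊓ J k = ⊥ ∧ ∀ a ∈ J g, ∀ b ∈ J k, a * b = b * a := by
    intro g k hgk
    have hne : J (g⁻¹ * k) ≠ L := fun e => hgk (by
      show L.map (MulAut.conj g).toMonoidHom = L.map (MulAut.conj k).toMonoidHom
      conv_lhs => rw [← e]
      show (L.map (MulAut.conj (g⁻¹ * k)).toMonoidHom).map (MulAut.conj g).toMonoidHom = _
      rw [map_map]
      congr 1
      ext x
      simp [mul_assoc])
    obtain ⟨h1, h2⟩ := hdis _ hne
    refine ⟨eq_bot_iff.2 ?_, ?_⟩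
    · rintro x ⟨⟨a, ha, rfl⟩, ⟨b, hb, e⟩⟩
      have : a ∈ L ⊓ J (g⁻¹ * k) := ⟨ha, ⟨b, hb, by
        simp only [MulEquiv.coe_toMonoidHom, MulAut.conj_apply] at e ⊢
        calc g⁻¹ * k * b * (g⁻¹ * k)⁻¹ = g⁻¹ * (k * b * k⁻¹) * g := by group
          _ = a := by rw [e]; group⟩⟩
      rw [h1, mem_bot] at this
      subst this
      simp
    · rintro _ ⟨a, ha, rfl⟩ _ ⟨b, hb, rfl⟩
      have e := h2 a ha _ ⟨b, hb, rfl⟩
      simp only [MulEquiv.coe_toMonoidHom, MulAut.conj_apply] at e ⊢
      calc g * a * g⁻¹ * (k * b * k⁻¹)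
          = g * (a * (g⁻¹ * k * b * (g⁻¹ * k)⁻¹)) * g⁻¹ := by group
        _ = g * (g⁻¹ * k * b * (g⁻¹ * k)⁻¹ * a) * g⁻¹ := by rw [e]
        _ = _ := by group
  have hJc : ∀ g, ∃ a ∈ J g, ∃ b ∈ J g, a * b ≠ b * a := by
    intro g
    push Not at hcomm
    obtain ⟨a, ha, b, hb, hab⟩ := hcomm
    refine ⟨_, ⟨a, ha, rfl⟩, _, ⟨b, hb, rfl⟩, fun e => hab ?_⟩
    rw [← map_mul, ← map_mul] at e
    exact (MulAut.conj g).injective e
  -- an element of a factor commuting with it is trivial
  have hZ : ∀ g, ∀ z ∈ J g, (∀ a ∈ J g, a * z = z * a) → z = 1 := by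
    intro g z hz hc
    obtain ⟨l, hl, rfl⟩ := hz
    have hl' : (⟨l, hl⟩ : ↥L) ∈ center ↥L := mem_center_iff.2 fun a => by
      apply Subtype.ext
      have e := hc _ ⟨a, a.2, rfl⟩
      rw [← map_mul, ← map_mul] at e
      exact (MulAut.conj g).injective e
    rcases Subgroup.Normal.eq_bot_or_eq_top (inferInstance : (center ↥L).Normal) with e | e
    · rw [e, mem_bot] at hl'
      rw [show l = 1 from congrArg Subtype.val hl', map_one]
    · exfalso
      push Not at hcomm
      obtain ⟨a, ha, b, hb, hab⟩ := hcomm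
      have hb' : (⟨b, hb⟩ : ↥L) ∈ center ↥L := e ▸ mem_top _
      exact hab (congrArg Subtype.val (mem_center_iff.1 hb' ⟨a, ha⟩))
  -- at most four factors
  let B : Ω → Subgroup X := fun o => o.1 ⊓ A
  have hgrow : ∀ s : Finset Ω, 2 ^ s.card ≤ Nat.card ↥(s.sup B) := by
    intro s
    induction s using Finset.induction_on with
    | empty => simp
    | insert o s ho ih =>
      have hle : s.sup B ≤ (insert o s).sup B := Finset.sup_mono (Finset.subset_insert _ _)
      have hne : ¬ B o ≤ s.sup B := by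
        intro hc
        obtain ⟨g, hg⟩ := o.2
        refine hB g (eq_bot_iff.2 fun x hx => ?_)
        have hx' : x ∈ s.sup B := hc (by show x ∈ o.1 ⊓ A; rw [hg]; exact hx)
        have hsC : s.sup B ≤ centralizer (J g : Set X) := Finset.sup_le fun r hr => by
          obtain ⟨k, hk⟩ := r.2
          intro y hy
          refine mem_centralizer_iff.2 fun w hw => ?_
          have hgk : J g ≠ J k := fun e => ho (by
            rwa [show o = r from Subtype.ext (hg.trans (e.trans hk.symm))])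
          exact (hdis' g k hgk).2 w hw y (hk ▸ hy.1)
        exact mem_bot.2 (hZ g x hx.1 fun a ha => mem_centralizer_iff.1 (hsC hx') a ha)
      have hdvd := card_dvd_of_le hle
      obtain ⟨c, hc⟩ := hdvd
      have hpos : 0 < Nat.card ↥((insert o s).sup B) := Nat.card_pos
      rw [Finset.card_insert_of_notMem ho, pow_succ, hc]
      refine Nat.mul_le_mul ih ?_
      by_contra hc2
      have hc1 : c = 1 := by
        rcases Nat.eq_zero_or_pos c with rfl | h0
        · rw [hc, mul_zero] at hpos; exact absurd hpos (lt_irrefl 0)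
        · omega
      rw [hc1, mul_one] at hc
      have heq := Subgroup.eq_of_le_of_card_ge hle hc.le
      exact hne ((Finset.le_sup (Finset.mem_insert_self o s)).trans heq.ge)
  have hΩ : Nat.card Ω ≤ 4 := by
    cases nonempty_fintype Ω
    have h1 := hgrow Finset.univ
    have h2 : Finset.univ.sup B ≤ A := Finset.sup_le fun o _ => inf_le_right
    have h3 := Subgroup.card_le_of_le h2
    rw [P.card] at h3
    rw [Nat.card_eq_fintype_card, ← Finset.card_univ]
    by_contra hc
    have : 2 ^ 5 ≤ 2 ^ (Finset.univ : Finset Ω).card := Nat.pow_le_pow_right (by norm_num) (by omega)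
    omega
  -- the normaliser permutes the factors through a solvable group
  have hperm : ∀ (n : X) (o : Ω), ∃ g, o.1.map (MulAut.conj n).toMonoidHom = J g := by
    intro n o
    obtain ⟨g, hg⟩ := o.2
    refine ⟨n * g, ?_⟩
    rw [hg]
    show (L.map (MulAut.conj g).toMonoidHom).map (MulAut.conj n).toMonoidHom = _
    rw [map_map]
    congr 1
    ext x
    simp [mul_assoc]
  letI : MulAction ↥(normalizer (A : Set X)) Ω :=
    { smul := fun n o => ⟨o.1.map (MulAut.conj (n : X)).toMonoidHom, hperm n o⟩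
      one_smul := fun o => Subtype.ext (by
        show o.1.map (MulAut.conj ((1 : ↥(normalizer (A : Set X))) : X)).toMonoidHom = o.1
        rw [OneMemClass.coe_one, map_one]
        exact Subgroup.map_id _)
      mul_smul := fun n k o => Subtype.ext (by
        show o.1.map (MulAut.conj ((n * k : ↥(normalizer (A : Set X))) : X)).toMonoidHom =
          (o.1.map (MulAut.conj (k : X)).toMonoidHom).map (MulAut.conj (n : X)).toMonoidHom
        rw [map_map, Subgroup.coe_mul, map_mul]
        rfl) }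
  let π := MulAction.toPermHom ↥(normalizer (A : Set X)) Ω
  rcases P.image_cases π.ker with h | h
  · -- the kernel is small: `60` would divide `|Ω|!`
    have hle : π.ker ≤ P.ψ.ker := fun n hn => by
      have : P.ψ n ∈ π.ker.map P.ψ := ⟨n, hn, rfl⟩
      rwa [h, mem_bot] at this
    have h60 : Nat.card A5 = 60 := by rw [Nat.card_eq_fintype_card]; decide +kernel
    have h1 : 60 ∣ π.ker.index := by
      refine dvd_trans ?_ (Subgroup.index_dvd_of_le hle)
      rw [index_ker, MonoidHom.range_eq_top.2 P.surj, Subgroup.card_top, h60]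
    have h2 : π.ker.index ∣ Nat.card (Equiv.Perm Ω) := by
      rw [index_ker]; exact Subgroup.card_subgroup_dvd_card _
    rw [Nat.card_perm] at h2
    have h3 : 60 ∣ Nat.factorial 4 := (h1.trans h2).trans (Nat.factorial_dvd_factorial hΩ)
    norm_num [Nat.factorial] at h3
  · -- the kernel maps onto `A₅`: each factor meets `A` in `A`
    have hinv : ∀ g, A ≤ J g := by
      intro g
      rcases P.irred (B := J g ⊓ A) inf_le_right fun n hn b hb => by
        obtain ⟨d, hd, hdn⟩ : P.ψ ⟨n, hn⟩ ∈ π.ker.map P.ψ := h ▸ mem_top _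
        have hfix : (J g).map (MulAut.conj (d : X)).toMonoidHom = J g :=
          congrArg Subtype.val (Equiv.Perm.ext_iff.1 hd (⟨J g, g, rfl⟩ : Ω))
        have hker : P.ψ (d⁻¹ * ⟨n, hn⟩) = 1 := by rw [map_mul, map_inv, hdn, inv_mul_cancel]
        have he := (P.ker_iff _).1 hker b hb.2
        simp only [Subgroup.coe_mul, InvMemClass.coe_inv] at he
        have e2 : n * b * n⁻¹ = (d : X) * b * (d : X)⁻¹ := by
          calc n * b * n⁻¹ = (d : X) * (((d : X)⁻¹ * n) * b) * n⁻¹ := by group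
            _ = (d : X) * (b * ((d : X)⁻¹ * n)) * n⁻¹ := by rw [he]
            _ = _ := by group
        refine ⟨?_, (mem_normalizer_iff.1 hn b).1 hb.2⟩
        rw [e2, ← hfix]
        exact ⟨b, hb.1, rfl⟩
      with e | e
      · exact absurd e (hB g)
      · exact e ▸ inf_le_left
    have hone : ∀ g k, J g = J k := by
      intro g k
      by_contra hgk
      have : A ≤ J g ⊓ J k := le_inf (hinv g) (hinv k)
      rw [(hdis' g k hgk).1, le_bot_iff] at this
      exact P.ne_bot this
    have hJ1 : J 1 = L := by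
      show L.map (MulAut.conj (1 : X)).toMonoidHom = L
      rw [map_one]; exact Subgroup.map_id _
    refine P.false_of_simple hGold hsc hnc hMn hLM hLn (hJ1 ▸ hinv 1) fun n _ l hl => ?_
    rw [← hJ1, hone 1 n]
    exact ⟨l, hl, rfl⟩

end Frame

end Cfsg.Agent.H22.JanType
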