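import Cfsg.Agent.H22.JanType.SylData

/-!
# Coordinates on one `E₁₆` and a search over its linear maps fixing the centre
-/

set_option autoImplicit false
set_option maxRecDepth 4000

namespace Cfsg.Agent.H22.JanType.Syl

/-- coordinates -/
def elc (i : ℕ) : ℕ :=
  Nat.add (Nat.mul 32 (([0, 13, 30, 39] : List ℕ).getD (i / 4) 0)) (zR.getD (i % 4) 0)

theorem k_elc : ((List.range 16).all fun i => has aL (elc i) && (List.range 16).all fun j =>
    Nat.beq (m (elc i) (elc j)) (elc (Nat.xor i j))) = true ∧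
    (aL.all fun a => (List.range 16).any fun i => Nat.beq (elc i) a) = true ∧
    ((List.range 16).all fun i => Nat.beq i 0 || !Nat.beq (elc i) 0) = true ∧
    elc 0 = 0 ∧ elc 1 = 16 ∧ elc 2 = 15 ∧ elc 3 = 31 := by decide +kernel

/-- the linear map with given images of the basis -/
def lap (a b c x : ℕ) : ℕ :=
  Nat.xor (Nat.mul (x % 2) 1) (Nat.xor (Nat.mul (x / 2 % 2) a)
    (Nat.xor (Nat.mul (x / 4 % 2) b) (Nat.mul (x / 8 % 2) c)))

/-- the action of three elements of the Sylow subgroup -/
def uTab : List (List ℕ) :=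
  [[0, 1, 2, 3, 5, 4, 7, 6, 11, 10, 9, 8, 14, 15, 12, 13],
   [0, 1, 2, 3, 6, 7, 4, 5, 9, 8, 11, 10, 15, 14, 13, 12],
   [0, 1, 2, 3, 7, 6, 5, 4, 10, 11, 8, 9, 13, 12, 15, 14]]

/-- as a map -/
def uap (u : List ℕ) (x : ℕ) : ℕ := u.getD x 0

theorem k_uTab : (uTab.all fun u => rL.any fun r => (List.range 16).all fun i =>
    Nat.blt (uap u i) 16 && Nat.beq (m r (elc i)) (m (elc (uap u i)) r)) = true := by decide +kernel

/-- fourth power the identity, square not -/
def four (f : ℕ → ℕ) : Bool :=
  ([2, 4, 8] : List ℕ).all (fun x => Nat.beq (f (f (f (f x)))) x) &&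
    ([2, 4, 8] : List ℕ).any (fun x => !Nat.beq (f (f x)) x)

/-- the inverse, by search -/
def invBy (f : ℕ → ℕ) (y : ℕ) : ℕ := ((List.range 16).find? fun x => Nat.beq (f x) y).getD 0

/-- the test for one linear map -/
def linOK (a b c : ℕ) : Bool :=
  ((List.range 16).any fun x => Nat.blt 0 x && Nat.beq (lap a b c x) 0) ||
  !((List.range 16).any fun x => Nat.blt 3 x && (Nat.beq (lap a b c x) 2 || Nat.beq (lap a b c x) 3)) ||
  uTab.any fun u => four (fun x => uap u (lap a b c x)) ||
    uTab.any fun v => four (fun x => uap u (lap a b c (uap v (invBy (lap a b c) x))))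

theorem k_lin : ((List.range 16).all fun a => (List.range 16).all fun b => (List.range 16).all fun c =>
    linOK a b c) = true := by decide +kernel

end Cfsg.Agent.H22.JanType.Syl
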