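import Cfsg.Agent.H22.JanType.Transfer
import Cfsg.Agent.H22.JanType.LinData

/-!
# An involution outside the extraspecial group is not fused to the centre of `R`

Here `z` is central in the whole group.  Such a fusion would give an element of the normaliser of an
`E₁₆` which, together with the action of `R`, generates an element of order four of the automiser.
-/

set_option autoImplicit false
set_option linter.style.haveILetI false

namespace Cfsg.Agent.H22.JanType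

open Subgroup Syl

universe u

variable {G : Type u} [Group G]

namespace SModel

variable {S : Subgroup G} (M : SModel S)
include M

omit M in
theorem aL_syl {i : ℕ} (hi : i ∈ aL) : i ∈ syl ∧ i ∈ rL := by
  have h := List.all_eq_true.1 k_mem.2.2.2.2.2.2.2 i hi
  rw [Bool.and_eq_true] at h
  exact ⟨has_iff.1 h.1, List.mem_filter.2 ⟨has_iff.1 h.1, h.2⟩⟩

omit M in
theorem elc_mem {i : ℕ} (hi : i < 16) : elc i ∈ aL := by
  have h := List.all_eq_true.1 k_elc.1 i (List.mem_range.2 hi)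
  rw [Bool.and_eq_true] at h
  exact has_iff.1 h.1

/-- The elementary abelian subgroup. -/
def A1 : Subgroup G where
  carrier := {g | ∃ i < 16, M.φ (elc i) = g}
  one_mem' := ⟨0, by omega, by rw [k_elc.2.2.2.1, M.map_zero]⟩
  mul_mem' := by
    rintro _ _ ⟨i, hi, rfl⟩ ⟨j, hj, rfl⟩
    have h := List.all_eq_true.1 k_elc.1 i (List.mem_range.2 hi)
    rw [Bool.and_eq_true] at h
    have h' := Nat.eq_of_beq_eq_true (List.all_eq_true.1 h.2 j (List.mem_range.2 hj))
    exact ⟨Nat.xor i j, Nat.xor_lt_two_pow (n := 4) hi hj, by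
      rw [← h', M.mul (aL_syl (elc_mem hi)).1 (aL_syl (elc_mem hj)).1]⟩
  inv_mem' := by
    rintro _ ⟨i, hi, rfl⟩
    refine ⟨i, hi, eq_inv_of_mul_eq_one_left ?_⟩
    have h := List.all_eq_true.1 k_A.1 _ (elc_mem hi)
    rw [Bool.and_eq_true] at h
    exact (M.sq_eq_one_iff (aL_syl (elc_mem hi)).1).2 (Nat.eq_of_beq_eq_true h.1)

theorem mem_A1_iff {g : G} : g ∈ M.A1 ↔ ∃ i ∈ aL, M.φ i = g := by
  constructor
  · rintro ⟨i, hi, rfl⟩
    exact ⟨_, elc_mem hi, rfl⟩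
  · rintro ⟨a, ha, rfl⟩
    obtain ⟨i, hi, he⟩ := List.any_eq_true.1 (List.all_eq_true.1 k_elc.2.1 a ha)
    exact ⟨i, List.mem_range.1 hi, by rw [Nat.eq_of_beq_eq_true he]⟩

theorem A1_le_R : M.A1 ≤ M.R := fun g hg => by
  obtain ⟨i, hi, rfl⟩ := M.mem_A1_iff.1 hg
  exact M.mem_R_iff.2 ⟨i, (aL_syl hi).2, rfl⟩

theorem A1_comm {a b : G} (ha : a ∈ M.A1) (hb : b ∈ M.A1) : a * b = b * a := by
  obtain ⟨i, hi, rfl⟩ := M.mem_A1_iff.1 ha
  obtain ⟨j, hj, rfl⟩ := M.mem_A1_iff.1 hb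
  have h := List.all_eq_true.1 k_A.1 i hi
  rw [Bool.and_eq_true] at h
  exact (M.comm_iff (aL_syl hi).1 (aL_syl hj).1).2 (List.all_eq_true.1 h.2 j hj)

theorem card_A1 : Nat.card ↥M.A1 = 16 := by
  show Nat.card (M.A1 : Set G) = 16
  rw [Nat.card_coe_set_eq, show (M.A1 : Set G) = M.φ '' {i | i ∈ aL} from ?_,
    M.ncard_image (l := aL) (fun i hi => (aL_syl hi).1) syl_nodup.2.2.2.2.1, syl_nodup.2.2.2.1]
  ext g
  simp [M.mem_A1_iff, Set.mem_image]

theorem zR_mem_A1 {g : G} (h : g = 1 ∨ g = M.z ∨ g = M.φ 15 ∨ g = M.φ 31) : g ∈ M.A1 := by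
  rcases h with rfl | rfl | rfl | rfl
  exacts [one_mem _, ⟨1, by omega, by rw [k_elc.2.2.2.2.1]; rfl⟩,
    ⟨2, by omega, by rw [k_elc.2.2.2.2.2.1]⟩, ⟨3, by omega, by rw [k_elc.2.2.2.2.2.2]⟩]

/-- Conjugation by `φ 8`. -/
theorem conj8_code {i : ℕ} (hi : i ∈ syl) : M.φ 8 * M.φ i * (M.φ 8)⁻¹ = M.φ (m (m 8 i) 8) := by
  rw [inv_eq_of_mul_eq_one_left ((M.sq_eq_one_iff mem8).2 k_s.2.2.1), M.mul (m_mem mem8 hi) mem8,
    M.mul mem8 hi]

/-- An involution outside the extraspecial group lies in `R`, and up to `φ 8` in `A1`. -/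
theorem out_invol {i : ℕ} (hi : i ∈ syl) (h32 : 32 ≤ i) (h2 : m i i = 0) :
    M.φ i ∈ M.R ∧ (M.φ i ∈ M.A1 ∨ M.φ 8 * M.φ i * (M.φ 8)⁻¹ ∈ M.A1) := by
  have h := List.all_eq_true.1 k_outinv.1 i hi
  rw [h2] at h
  have hb : Nat.blt i 32 = false := Bool.eq_false_iff.2 fun hc => by
    rw [Nat.blt_eq] at hc; omega
  simp only [hb, Nat.beq_refl, Bool.not_true, Bool.false_or, Bool.and_eq_true, Bool.or_eq_true,
    has_iff] at h
  refine ⟨M.mem_R_iff.2 ⟨i, List.mem_filter.2 ⟨hi, h.1⟩, rfl⟩, ?_⟩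
  rcases h.2 with h' | h'
  · exact Or.inl (M.mem_A1_iff.2 ⟨i, h', rfl⟩)
  · exact Or.inr (M.mem_A1_iff.2 ⟨_, h', (M.conj8_code hi).symm⟩)

/-- A commutative group of order 16 in `R` of exponent two is `A1` or its conjugate. -/
theorem eq_A1_or [Finite G] {F : Subgroup G} (hF : F ≤ M.R) (hcomm : ∀ a ∈ F, ∀ b ∈ F, a * b = b * a)
    (hsq : ∀ a ∈ F, a * a = 1) (hcard : Nat.card ↥F = 16) :
    F = M.A1 ∨ ∀ a ∈ F, M.φ 8 * a * (M.φ 8)⁻¹ ∈ M.A1 := by
  classical
  obtain ⟨x, hx, hxZ⟩ : ∃ x ∈ F, ¬(x = 1 ∨ x = M.z ∨ x = M.φ 15 ∨ x = M.φ 31) := by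
    by_contra h
    push Not at h
    have hsub : (F : Set G) ⊆ {1, M.z, M.φ 15, M.φ 31} := fun y hy => by
      by_contra hn
      simp only [Set.mem_insert_iff, Set.mem_singleton_iff, not_or] at hn
      rcases h y hy with e | e | e | e
      exacts [hn.1 e, hn.2.1 e, hn.2.2.1 e, hn.2.2.2 e]
    have h4 := Set.ncard_le_ncard hsub (Set.toFinite _)
    rw [show (F : Set G).ncard = 16 from hcard] at h4
    have := Set.ncard_insert_le (1 : G) {M.z, M.φ 15, M.φ 31}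
    have := Set.ncard_insert_le M.z ({M.φ 15, M.φ 31} : Set G)
    have := Set.ncard_insert_le (M.φ 15) ({M.φ 31} : Set G)
    have := Set.ncard_singleton (M.φ 31)
    omega
  obtain ⟨i, hi, rfl⟩ := M.mem_R_iff.1 (hF hx)
  have hiS := (List.mem_filter.1 hi).1
  have hii := (M.sq_eq_one_iff hiS).1 (hsq _ hx)
  have h32 : 32 ≤ i := by
    have h := List.all_eq_true.1 k_outinv.2.1 i hi
    rw [hii] at h
    simp only [Nat.beq_refl, Bool.not_true, Bool.false_or, Bool.or_eq_true, has_iff, Nat.blt_eq] at h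
    rcases h with h | h
    · omega
    · simp only [zR, List.mem_cons, List.not_mem_nil, or_false] at h
      exfalso; apply hxZ
      rcases h with rfl | rfl | rfl | rfl
      exacts [Or.inl M.map_zero, Or.inr (Or.inl rfl), Or.inr (Or.inr (Or.inl rfl)),
        Or.inr (Or.inr (Or.inr rfl))]
  have key : ∀ y : G, y ∈ M.A1 → ¬(y = 1 ∨ y = M.z ∨ y = M.φ 15 ∨ y = M.φ 31) → ∀ b ∈ S,
      b * y = y * b → b ∈ M.A1 := by
    intro y hy hyZ b hb hby
    obtain ⟨j, hj, rfl⟩ := M.mem_A1_iff.1 hy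
    obtain ⟨k, hk, rfl⟩ := (M.mem_iff b).1 hb
    have h := List.all_eq_true.1 k_outinv.2.2 j hj
    simp only [Bool.or_eq_true, has_iff, List.all_eq_true] at h
    rcases h with h | h
    · simp only [zR, List.mem_cons, List.not_mem_nil, or_false] at h
      exfalso; apply hyZ
      rcases h with rfl | rfl | rfl | rfl
      exacts [Or.inl M.map_zero, Or.inr (Or.inl rfl), Or.inr (Or.inr (Or.inl rfl)),
        Or.inr (Or.inr (Or.inr rfl))]
    · exact M.mem_A1_iff.2 ⟨k, h k (List.mem_filter.2 ⟨hk, (M.comm_iff (aL_syl hj).1 hk).1 hby.symm⟩), rfl⟩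
  rcases (M.out_invol hiS h32 hii).2 with h | h
  · left
    refine eq_of_le_of_card_ge (fun b hb => key _ h hxZ b (M.R_le (hF hb)) (hcomm b hb _ hx)) ?_
    rw [hcard, M.card_A1]
  · right
    intro a ha
    refine key _ h (fun e => hxZ ?_) _ (M.R_le (M.conj_mem_R (M.mem mem8) (hF ha))) ?_
    · obtain ⟨e15, e31⟩ := M.s0_swap
      have hz : M.φ 8 * M.z * (M.φ 8)⁻¹ = M.z := by
        rw [M.z_comm (M.mem mem8), mul_inv_cancel_right]
      have inj : ∀ w w' : G, M.φ 8 * w * (M.φ 8)⁻¹ = M.φ 8 * w' * (M.φ 8)⁻¹ → w = w' := fun w w' e =>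
        mul_left_cancel (mul_right_cancel e)
      rcases e with e | e | e | e
      exacts [Or.inl (conj_eq_one_iff.1 e), Or.inr (Or.inl (inj _ _ (e.trans hz.symm))),
        Or.inr (Or.inr (Or.inr (inj _ _ (e.trans e31.symm)))),
        Or.inr (Or.inr (Or.inl (inj _ _ (e.trans e15.symm))))]
    · rw [show M.φ 8 * a * (M.φ 8)⁻¹ * (M.φ 8 * M.φ i * (M.φ 8)⁻¹) = M.φ 8 * (a * M.φ i) * (M.φ 8)⁻¹ by group,
        hcomm a ha _ hx]
      group

theorem R_normalizes_A1 {r a : G} (hr : r ∈ M.R) (ha : a ∈ M.A1) : r * a * r⁻¹ ∈ M.A1 := by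
  obtain ⟨i, hi, rfl⟩ := M.mem_R_iff.1 hr
  obtain ⟨j, hj, rfl⟩ := M.mem_A1_iff.1 ha
  obtain ⟨j', hj', he⟩ := List.any_eq_true.1 (List.all_eq_true.1 (List.all_eq_true.1 k_A.2.1 i hi) j hj)
  exact M.mem_A1_iff.2 ⟨j', hj', (M.conj_of_eq (List.mem_filter.1 hi).1 (aL_syl hj).1 (aL_syl hj').1
    (Nat.eq_of_beq_eq_true he)).symm⟩

theorem A1_not_normal : ∃ a ∈ M.A1, M.φ 8 * a * (M.φ 8)⁻¹ ∉ M.A1 := by
  obtain ⟨a, ha, h⟩ := List.any_eq_true.1 k_A.2.2
  refine ⟨_, M.mem_A1_iff.2 ⟨a, ha, rfl⟩, fun hm => ?_⟩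
  rw [M.conj8_code (aL_syl ha).1] at hm
  obtain ⟨b, hb, e⟩ := M.mem_A1_iff.1 hm
  rw [M.inj (aL_syl hb).1 (m_mem (m_mem mem8 (aL_syl ha).1) mem8) e] at hb
  simp [has_iff.2 hb] at h

/-- `S` has no normal elementary abelian subgroup of order 16. -/
theorem not_normal_E16 [Finite G] {F : Subgroup G} (hF : F ≤ S) (hcomm : ∀ a ∈ F, ∀ b ∈ F, a * b = b * a)
    (hsq : ∀ a ∈ F, a * a = 1) (hcard : Nat.card ↥F = 16)
    (hn : ∀ s ∈ S, ∀ a ∈ F, s * a * s⁻¹ ∈ F) : False := by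
  classical
  -- it has an element outside the extraspecial group
  obtain ⟨x, hx, i, hi, rfl, h32⟩ : ∃ x ∈ F, ∃ i ∈ syl, M.φ i = x ∧ 32 ≤ i := by
    by_contra h
    push Not at h
    let L : Finset ℕ := syl.toFinset.filter fun i => M.φ i ∈ F
    have hLF : (F : Set G) = ↑(L.image M.φ) := by
      ext g
      simp only [L, SetLike.mem_coe, Finset.coe_image, Finset.coe_filter, List.mem_toFinset, Set.mem_image,
        Set.mem_setOf_eq]
      constructor
      · intro hg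
        obtain ⟨i, hi, rfl⟩ := (M.mem_iff g).1 (hF hg)
        exact ⟨i, ⟨hi, hg⟩, rfl⟩
      · rintro ⟨i, ⟨-, hi⟩, rfl⟩; exact hi
    have hL : L.card = 16 := by
      rw [← Finset.card_image_of_injOn (f := M.φ) fun i hi j hj e =>
        M.inj (List.mem_toFinset.1 (Finset.mem_filter.1 hi).1) (List.mem_toFinset.1 (Finset.mem_filter.1 hj).1) e,
        ← Set.ncard_coe_finset, ← hLF]
      exact hcard
    have hmemL : ∀ j ∈ L, j ∈ syl ∧ M.φ j ∈ F ∧ j < 32 ∧ m j j = 0 := fun j hj => by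
      obtain ⟨hj, hjF⟩ := Finset.mem_filter.1 hj
      rw [List.mem_toFinset] at hj
      exact ⟨hj, hjF, h _ hjF j hj rfl, (M.sq_eq_one_iff hj).1 (hsq _ hjF)⟩
    by_cases hbig : ∃ i ∈ L, i ≠ 0 ∧ i ≠ 16
    · obtain ⟨i, hi, h0, h16⟩ := hbig
      obtain ⟨hiS, hiF, hi32, hii⟩ := hmemL i hi
      have h' := List.all_eq_true.1 k_elem.1 i (List.mem_range.2 hi32)
      rw [hii] at h'
      have b0 : Nat.beq i 0 = false := Bool.eq_false_iff.2 fun hc => h0 (Nat.eq_of_beq_eq_true hc)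
      have b16 : Nat.beq i 16 = false := Bool.eq_false_iff.2 fun hc => h16 (Nat.eq_of_beq_eq_true hc)
      simp only [Nat.beq_refl, Bool.not_true, b0, b16, Bool.false_or, Nat.ble_eq] at h'
      have hsub : L ⊆ ((List.range 32).filter fun j => Nat.beq (m j j) 0 && comm i j).toFinset := by
        intro j hj
        obtain ⟨hjS, hjF, hj32, hjj⟩ := hmemL j hj
        simp only [List.mem_toFinset, List.mem_filter, List.mem_range, Bool.and_eq_true]
        exact ⟨hj32, by rw [hjj]; rfl, (M.comm_iff hiS hjS).1 (hcomm _ hiF _ hjF)⟩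
      have := (Finset.card_le_card hsub).trans (List.toFinset_card_le _)
      omega
    · push Not at hbig
      have hsub : L ⊆ {0, 16} := fun j hj => by
        by_cases e : j = 0
        · simp [e]
        · simp [hbig j hj e]
      have := Finset.card_le_card hsub
      rw [show ({0, 16} : Finset ℕ).card = 2 by decide] at this
      omega
  have hii := (M.sq_eq_one_iff hi).1 (hsq _ hx)
  obtain ⟨hR, hA⟩ := M.out_invol hi h32 hii
  have hxZ : ∀ j ∈ zR, j < 32 := by decide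
  -- the subgroup lies in `R`
  have hFR : F ≤ M.R := by
    rcases hA with h | h
    · exact le_trans (fun b hb => by
        obtain ⟨k, hk, rfl⟩ := (M.mem_iff b).1 (hF hb)
        obtain ⟨j, hj, e⟩ := M.mem_A1_iff.1 h
        rw [M.inj (aL_syl hj).1 hi e] at hj
        have h' := List.all_eq_true.1 k_outinv.2.2 i hj
        simp only [Bool.or_eq_true, has_iff, List.all_eq_true] at h'
        refine M.mem_A1_iff.2 ⟨k, ?_, rfl⟩
        exact (h'.resolve_left fun hz => absurd (hxZ i hz) (by omega)) k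
          (List.mem_filter.2 ⟨hk, (M.comm_iff hi hk).1 (hcomm _ hx _ hb)⟩)) M.A1_le_R
    · intro b hb
      have hb' := hn _ (M.mem mem8) b hb
      have hx' := hn _ (M.mem mem8) _ hx
      obtain ⟨k, hk, hke⟩ := (M.mem_iff _).1 (hF hb')
      obtain ⟨j, hj, e⟩ := M.mem_A1_iff.1 h
      have h' := List.all_eq_true.1 k_outinv.2.2 j hj
      simp only [Bool.or_eq_true, has_iff, List.all_eq_true] at h'
      have hj32 : j ∉ zR := fun hz => by
        have hh : M.φ i ∈ M.R ∧ (M.φ i = 1 ∨ M.φ i = M.z ∨ M.φ i = M.φ 15 ∨ M.φ i = M.φ 31) := by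
          refine ⟨hR, (M.central_R hR).1 fun r hr => ?_⟩
          have hr' := M.conj_mem_R (M.mem mem8) hr
          have hjz : M.φ j = 1 ∨ M.φ j = M.z ∨ M.φ j = M.φ 15 ∨ M.φ j = M.φ 31 := by
            simp only [zR, List.mem_cons, List.not_mem_nil, or_false] at hz
            rcases hz with rfl | rfl | rfl | rfl
            exacts [Or.inl M.map_zero, Or.inr (Or.inl rfl), Or.inr (Or.inr (Or.inl rfl)),
              Or.inr (Or.inr (Or.inr rfl))]
          have hc := (M.central_R (M.mem_R_iff.2 ⟨j, (aL_syl hj).2, rfl⟩)).2 hjz _ hr'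
          rw [e] at hc
          calc r * M.φ i = (M.φ 8)⁻¹ * ((M.φ 8 * r * (M.φ 8)⁻¹) * (M.φ 8 * M.φ i * (M.φ 8)⁻¹)) * M.φ 8 := by group
            _ = (M.φ 8)⁻¹ * ((M.φ 8 * M.φ i * (M.φ 8)⁻¹) * (M.φ 8 * r * (M.φ 8)⁻¹)) * M.φ 8 := by rw [hc]
            _ = _ := by group
        rcases hh.2 with hh | hh | hh | hh
        · have := M.inj hi mem0 (hh.trans M.map_zero.symm); omega
        · have := M.inj hi mem16 hh; omega
        · have := M.inj hi mem15 hh; omega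
        · have := M.inj hi mem31 hh; omega
      have hk' := h'.resolve_left hj32 k (List.mem_filter.2 ⟨hk, (M.comm_iff (aL_syl hj).1 hk).1
        (by rw [e, hke]; exact hcomm _ hx' _ hb')⟩)
      have hbR : M.φ 8 * b * (M.φ 8)⁻¹ ∈ M.R := M.A1_le_R (M.mem_A1_iff.2 ⟨k, hk', hke⟩)
      have := M.conj_mem_R (inv_mem (M.mem mem8)) hbR
      simpa [mul_assoc] using this
  rcases M.eq_A1_or hFR hcomm hsq hcard with h | h
  · obtain ⟨a, ha, hna⟩ := M.A1_not_normal
    exact hna (h ▸ hn _ (M.mem mem8) a (h ▸ ha))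
  · obtain ⟨a, ha, hna⟩ := M.A1_not_normal
    have hle : F ≤ M.A1 := fun b hb => by
      have := h _ (hn _ (inv_mem (M.mem mem8)) b hb)
      simpa [mul_assoc] using this
    have hFA : F = M.A1 := eq_of_le_of_card_ge hle (by rw [hcard, M.card_A1])
    exact hna (hFA ▸ hn _ (M.mem mem8) a (hFA ▸ ha))

end SModel

end Cfsg.Agent.H22.JanType
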