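import Cfsg.Agent.H22.JanType.Fused

/-!
# No fusion of outside involutions into the centre of `R`, when `z` is central in the group
-/

set_option autoImplicit false
set_option linter.style.haveILetI false

namespace Cfsg.Agent.H22.JanType

open Subgroup Syl

universe u

variable {G : Type u} [Group G] [Finite G]

namespace SModel

theorem lap_eq {L : ℕ → ℕ} (hL : ∀ i < 16, ∀ j < 16, L (Nat.xor i j) = Nat.xor (L i) (L j))
    (h1 : L 1 = 1) : ∀ x < 16, L x = lap (L 2) (L 4) (L 8) x := by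
  have h0 : L 0 = 0 := by
    have := hL 0 (by omega) 0 (by omega)
    exact this.trans (Nat.xor_self _)
  have hbit : ∀ x < 16, x = Nat.xor (Nat.mul (x % 2) 1) (Nat.xor (Nat.mul (x / 2 % 2) 2)
      (Nat.xor (Nat.mul (x / 4 % 2) 4) (Nat.mul (x / 8 % 2) 8))) := by decide +kernel
  intro x hx
  have hm : ∀ b < 2, ∀ c < 16, L (Nat.mul b c) = Nat.mul b (L c) := by
    intro b hb c _
    rcases (show b = 0 ∨ b = 1 by omega) with rfl | rfl
    · simp [h0]
    · simp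
  have hlt : ∀ b < 2, ∀ c, (c = 1 ∨ c = 2 ∨ c = 4 ∨ c = 8) → Nat.mul b c < 16 := by
    intro b hb c hc
    rcases (show b = 0 ∨ b = 1 by omega) with rfl | rfl <;> rcases hc with rfl | rfl | rfl | rfl <;> simp
  conv_lhs => rw [hbit x hx]
  have a1 := hlt (x % 2) (by omega) 1 (by omega)
  have a2 := hlt (x / 2 % 2) (by omega) 2 (by omega)
  have a4 := hlt (x / 4 % 2) (by omega) 4 (by omega)
  have a8 := hlt (x / 8 % 2) (by omega) 8 (by omega)
  have a48 := Nat.xor_lt_two_pow (n := 4) a4 a8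
  have a248 := Nat.xor_lt_two_pow (n := 4) a2 a48
  refine (hL _ a1 _ a248).trans (congrArg₂ Nat.xor ?_ ((hL _ a2 _ a48).trans (congrArg₂ Nat.xor ?_
    ((hL _ a4 _ a8).trans (congrArg₂ Nat.xor ?_ ?_)))))
  · rw [hm _ (by omega) 1 (by omega), h1]
  · exact hm _ (by omega) 2 (by omega)
  · exact hm _ (by omega) 4 (by omega)
  · exact hm _ (by omega) 8 (by omega)

theorem lap_lt {a b c x : ℕ} (ha : a < 16) (hb : b < 16) (hc : c < 16) : lap a b c x < 16 := by
  have h : ∀ d < 2, ∀ v < 16, Nat.mul d v < 16 := by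
    intro d hd v hv
    rcases (show d = 0 ∨ d = 1 by omega) with rfl | rfl <;> simp <;> omega
  exact Nat.xor_lt_two_pow (n := 4) (h _ (by omega) 1 (by omega))
    (Nat.xor_lt_two_pow (n := 4) (h _ (by omega) a ha)
      (Nat.xor_lt_two_pow (n := 4) (h _ (by omega) b hb) (h _ (by omega) c hc)))

variable {S : Sylow 2 G} (M : SModel (S : Subgroup G))
include M

/-- a 2-group over `R` centralising `φ 15` equals `R` -/
theorem eq_R_of_centralizing (hz : ∀ g : G, g * M.z = M.z * g) {T : Subgroup G} (hT : IsPGroup 2 T)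
    (hR : M.R ≤ T) (hc : ∀ t ∈ T, t * M.φ 15 = M.φ 15 * t) : T = M.R := by
  haveI : Fact (Nat.Prime 2) := ⟨Nat.prime_two⟩
  by_contra hne
  obtain ⟨T', hT'⟩ := hT.exists_le_sylow
  have h128 : Nat.card ↥(T' : Subgroup G) = 128 := by
    rw [T'.card_eq_multiplicity, ← S.card_eq_multiplicity, M.card]
  obtain ⟨k, hk⟩ := IsPGroup.iff_card.1 hT
  have h1 : 64 ≤ Nat.card ↥T := M.card_R ▸ Subgroup.card_le_of_le hR
  have h2 : Nat.card ↥T ≤ 128 := h128 ▸ Subgroup.card_le_of_le hT'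
  have h3 : Nat.card ↥T ≠ 64 := fun e => hne (eq_of_le_of_card_ge hR (by rw [e, M.card_R])).symm
  have hTeq : T = (T' : Subgroup G) := by
    refine eq_of_le_of_card_ge hT' ?_
    rw [h128, hk]
    rcases lt_or_ge k 7 with h | h
    · have := Nat.pow_le_pow_right (show 1 ≤ 2 by omega) (show k ≤ 6 by omega)
      omega
    · exact (show 128 = 2 ^ 7 by norm_num) ▸ Nat.pow_le_pow_right (by omega) h
  obtain ⟨h, -, huniq⟩ := M.sylow_central T'
  have e := huniq (M.φ 15) (hTeq ▸ hR (M.zR_mem (Or.inr (Or.inr (Or.inl rfl))))) M.z_ne15.2.2.1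
    (hTeq ▸ hc)
  rw [hz h, mul_inv_cancel_right] at e
  exact M.z_ne15.1 e.symm

/-- A fusion of an outside involution gives an element of `N(A1)` moving into the centre of `R`. -/
theorem exists_mover (hz : ∀ g : G, g * M.z = M.z * g) {i : ℕ} (hi : i ∈ syl) (h32 : 32 ≤ i)
    (h2 : m i i = 0) (hconj : IsConj (M.φ i) (M.φ 15)) :
    ∃ n : G, (∀ a, a ∈ M.A1 ↔ n * a * n⁻¹ ∈ M.A1) ∧
      ∃ x ∈ M.A1, ¬(x = 1 ∨ x = M.z ∨ x = M.φ 15 ∨ x = M.φ 31) ∧
        (n * x * n⁻¹ = M.φ 15 ∨ n * x * n⁻¹ = M.φ 31) := by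
  classical
  haveI : Fact (Nat.Prime 2) := ⟨Nat.prime_two⟩
  obtain ⟨g₀, hg₀⟩ := isConj_iff.1 hconj
  -- move the involution into `A1`
  obtain ⟨x, g, hxA, hxz, hgx⟩ : ∃ x g : G, x ∈ M.A1 ∧
      ¬(x = 1 ∨ x = M.z ∨ x = M.φ 15 ∨ x = M.φ 31) ∧ g * x * g⁻¹ = M.φ 15 := by
    have hnot : ¬(M.φ i = 1 ∨ M.φ i = M.z ∨ M.φ i = M.φ 15 ∨ M.φ i = M.φ 31) := by
      rintro (e | e | e | e)
      · have := (M.eq_one_iff hi).1 e; omega
      · have := M.inj hi mem16 e; omega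
      · have := M.inj hi mem15 e; omega
      · have := M.inj hi mem31 e; omega
    rcases (M.out_invol hi h32 h2).2 with h | h
    · exact ⟨_, g₀, h, hnot, hg₀⟩
    · refine ⟨_, g₀ * (M.φ 8)⁻¹, h, fun e => hnot ?_, by rw [← hg₀]; group⟩
      obtain ⟨e15, e31⟩ := M.s0_swap
      have hz8 : M.φ 8 * M.z * (M.φ 8)⁻¹ = M.z := by rw [hz, mul_inv_cancel_right]
      have inj : ∀ w w' : G, M.φ 8 * w * (M.φ 8)⁻¹ = M.φ 8 * w' * (M.φ 8)⁻¹ → w = w' := fun w w' e =>
        mul_left_cancel (mul_right_cancel e)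
      rcases e with e | e | e | e
      exacts [Or.inl (conj_eq_one_iff.1 e), Or.inr (Or.inl (inj _ _ (e.trans hz8.symm))),
        Or.inr (Or.inr (Or.inr (inj _ _ (e.trans e31.symm)))),
        Or.inr (Or.inr (Or.inl (inj _ _ (e.trans e15.symm))))]
  -- conjugate the image of `A1` into `R`
  set C := centralizer ({M.φ 15} : Set G) with hC
  have hRC : M.R ≤ C := inf_le_right
  have hR2 : IsPGroup 2 M.R := S.isPGroup'.to_le M.R_le
  have hmax : ∀ T : Sylow 2 C, M.R.subgroupOf C ≤ (T : Subgroup C) → (T : Subgroup C) = M.R.subgroupOf C := by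
    intro T hT
    have h := M.eq_R_of_centralizing hz (T.isPGroup'.map C.subtype)
      (fun r hr => ⟨⟨r, hRC hr⟩, hT hr, rfl⟩)
      (fun t ht => by
        obtain ⟨t', -, rfl⟩ := ht
        exact mem_centralizer_singleton_iff.1 t'.2)
    rw [← h]; exact (comap_map_eq_self_of_injective C.subtype_injective _).symm
  obtain ⟨T, hT⟩ := (hR2.comap_subtype (K := C)).exists_le_sylow
  have hTR := hmax T hT
  let F₀ : Subgroup G := M.A1.map (MulAut.conj g).toMonoidHom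
  have hF₀C : F₀ ≤ C := by
    rintro _ ⟨a, ha, rfl⟩
    refine mem_centralizer_singleton_iff.2 ?_
    simp only [MulEquiv.coe_toMonoidHom, MulAut.conj_apply]
    rw [← hgx, show g * a * g⁻¹ * (g * x * g⁻¹) = g * (a * x) * g⁻¹ by group, M.A1_comm ha hxA]
    group
  have hA2 : IsPGroup 2 M.A1 := hR2.to_le M.A1_le_R
  obtain ⟨T₁, hT₁⟩ := ((hA2.map (MulAut.conj g).toMonoidHom).comap_subtype (K := C)).exists_le_sylow
  obtain ⟨c, hc⟩ := MulAction.exists_smul_eq C T₁ T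
  set n₁ := (c : G) * g with hn₁
  have hn₁R : ∀ a ∈ M.A1, n₁ * a * n₁⁻¹ ∈ M.R := by
    intro a ha
    have h1 : (⟨g * a * g⁻¹, hF₀C ⟨a, ha, rfl⟩⟩ : C) ∈ (T₁ : Subgroup C) := hT₁ ⟨a, ha, rfl⟩
    have h2' : c * ⟨g * a * g⁻¹, hF₀C ⟨a, ha, rfl⟩⟩ * c⁻¹ ∈ (T : Subgroup C) := by
      rw [← hc, Sylow.coe_subgroup_smul]
      exact ⟨_, h1, rfl⟩
    rw [hTR] at h2'
    have h3 : (c : G) * (g * a * g⁻¹) * (c : G)⁻¹ ∈ M.R := h2'
    simpa [hn₁, mul_assoc] using h3
  have hn₁x : n₁ * x * n₁⁻¹ = M.φ 15 := by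
    rw [hn₁, show (c : G) * g * x * ((c : G) * g)⁻¹ = (c : G) * (g * x * g⁻¹) * (c : G)⁻¹ by group, hgx,
      mem_centralizer_singleton_iff.1 c.2, mul_inv_cancel_right]
  let F : Subgroup G := M.A1.map (MulAut.conj n₁).toMonoidHom
  have hFmem : ∀ b ∈ F, ∃ a ∈ M.A1, n₁ * a * n₁⁻¹ = b := by
    rintro _ ⟨a, ha, rfl⟩; exact ⟨a, ha, rfl⟩
  have hFcard : Nat.card ↥F = 16 := by
    rw [← Nat.card_congr (M.A1.equivMapOfInjective _ (MulAut.conj n₁).injective).toEquiv, M.card_A1]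
  have hcases := M.eq_A1_or (F := F) (fun b hb => by
    obtain ⟨a, ha, rfl⟩ := hFmem b hb; exact hn₁R a ha)
    (fun b hb d hd => by
      obtain ⟨a, ha, rfl⟩ := hFmem b hb
      obtain ⟨e, he, rfl⟩ := hFmem d hd
      rw [show n₁ * a * n₁⁻¹ * (n₁ * e * n₁⁻¹) = n₁ * (a * e) * n₁⁻¹ by group, M.A1_comm ha he]
      group)
    (fun b hb => by
      obtain ⟨a, ⟨j, hj, rfl⟩, rfl⟩ := hFmem b hb
      have h := List.all_eq_true.1 k_A.1 _ (elc_mem hj)
      rw [Bool.and_eq_true] at h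
      rw [show ∀ w : G, n₁ * w * n₁⁻¹ * (n₁ * w * n₁⁻¹) = n₁ * (w * w) * n₁⁻¹ from fun w => by group,
        (M.sq_eq_one_iff (aL_syl (elc_mem hj)).1).2 (Nat.eq_of_beq_eq_true h.1)]
      group) hFcard
  have mkiff : ∀ n : G, (∀ a ∈ M.A1, n * a * n⁻¹ ∈ M.A1) → ∀ a, a ∈ M.A1 ↔ n * a * n⁻¹ ∈ M.A1 := by
    intro n hn a
    refine ⟨hn a, fun ha => ?_⟩
    have heq : M.A1.map (MulAut.conj n).toMonoidHom = M.A1 := eq_of_le_of_card_ge
      (by rintro _ ⟨b, hb, rfl⟩; exact hn b hb)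
      (by rw [← Nat.card_congr (M.A1.equivMapOfInjective _ (MulAut.conj n).injective).toEquiv])
    obtain ⟨b, hb, e⟩ := (heq.symm ▸ ha : n * a * n⁻¹ ∈ M.A1.map (MulAut.conj n).toMonoidHom)
    rwa [(MulAut.conj n).injective (show MulAut.conj n a = MulAut.conj n b from e.symm)]
  rcases hcases with h | h
  · exact ⟨n₁, mkiff n₁ fun a ha => h ▸ ⟨a, ha, rfl⟩, x, hxA, hxz, Or.inl hn₁x⟩
  · refine ⟨M.φ 8 * n₁, mkiff _ fun a ha => ?_, x, hxA, hxz, Or.inr ?_⟩
    · simpa [mul_assoc] using h _ ⟨a, ha, rfl⟩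
    · rw [show M.φ 8 * n₁ * x * (M.φ 8 * n₁)⁻¹ = M.φ 8 * (n₁ * x * n₁⁻¹) * (M.φ 8)⁻¹ by group, hn₁x]
      exact M.s0_swap.1

/-- The automiser of `A1` has no element of order four. -/
theorem no_four {n : G} (hn : ∀ a, a ∈ M.A1 ↔ n * a * n⁻¹ ∈ M.A1)
    (h4 : ∀ a ∈ M.A1, n ^ 4 * a * (n ^ 4)⁻¹ = a) : ∀ a ∈ M.A1, n ^ 2 * a * (n ^ 2)⁻¹ = a := by
  classical
  haveI : Fact (Nat.Prime 2) := ⟨Nat.prime_two⟩
  set N := normalizer (M.A1 : Set G) with hN
  have hnN : n ∈ N := mem_normalizer_iff.2 hn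
  obtain ⟨j, k, hk, hkj⟩ := Nat.exists_eq_two_pow_mul_odd (orderOf_pos n).ne'
  -- the 2-part
  set p := n ^ k with hp
  have hp2 : IsPGroup 2 (zpowers p) := by
    refine IsPGroup.of_card (n := j) ?_
    rw [Nat.card_zpowers, hp, orderOf_pow, hkj, Nat.gcd_eq_right (dvd_mul_left _ _),
      Nat.mul_div_cancel _ hk.pos]
  have hRN : M.R ≤ N := fun r hr => mem_normalizer_iff.2 fun a =>
    ⟨M.R_normalizes_A1 hr, fun ha => by
      simpa [mul_assoc] using M.R_normalizes_A1 (inv_mem hr) ha⟩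
  have hR2 : IsPGroup 2 M.R := S.isPGroup'.to_le M.R_le
  obtain ⟨T, hT⟩ := (hR2.comap_subtype (K := N)).exists_le_sylow
  have hTR : (T : Subgroup N) = M.R.subgroupOf N := by
    refine le_antisymm ?_ hT
    by_contra hne
    obtain ⟨T', hT'⟩ := (T.isPGroup'.map N.subtype).exists_le_sylow
    have hRT : M.R ≤ (T : Subgroup N).map N.subtype := fun r hr => ⟨⟨r, hRN hr⟩, hT hr, rfl⟩
    have h128 : Nat.card ↥(T' : Subgroup G) = 128 := by
      rw [T'.card_eq_multiplicity, ← S.card_eq_multiplicity, M.card]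
    obtain ⟨k', hk'⟩ := IsPGroup.iff_card.1 (T.isPGroup'.map N.subtype)
    have h1 := M.card_R ▸ Subgroup.card_le_of_le hRT
    have h3 : Nat.card ↥((T : Subgroup N).map N.subtype) ≠ 64 := fun e => hne (by
      rw [eq_of_le_of_card_ge hRT (by rw [e, M.card_R])]
      exact (comap_map_eq_self_of_injective N.subtype_injective _).ge)
    have hTeq : (T : Subgroup N).map N.subtype = (T' : Subgroup G) := by
      refine eq_of_le_of_card_ge hT' ?_
      rw [h128, hk']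
      rcases lt_or_ge k' 7 with h | h
      · have := Nat.pow_le_pow_right (show 1 ≤ 2 by omega) (show k' ≤ 6 by omega)
        omega
      · exact (show 128 = 2 ^ 7 by norm_num) ▸ Nat.pow_le_pow_right (by omega) h
    obtain ⟨h, hh, -⟩ := M.sylow_central T'
    let F : Subgroup G := M.A1.map (MulAut.conj h⁻¹).toMonoidHom
    have hmem : ∀ b, b ∈ F ↔ h * b * h⁻¹ ∈ M.A1 := fun b => by
      constructor
      · rintro ⟨a, ha, rfl⟩
        simpa [mul_assoc] using ha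
      · intro hb
        exact ⟨_, hb, by simp [mul_assoc]⟩
    refine M.not_normal_E16 (F := F) ?_ ?_ ?_ ?_ ?_
    · intro b hb
      have := (hh (h * b * h⁻¹)).1 (hTeq ▸ hRT (M.A1_le_R ((hmem b).1 hb)))
      simpa [mul_assoc] using this
    · intro a ha b hb
      have := M.A1_comm ((hmem a).1 ha) ((hmem b).1 hb)
      rw [show h * a * h⁻¹ * (h * b * h⁻¹) = h * (a * b) * h⁻¹ by group,
        show h * b * h⁻¹ * (h * a * h⁻¹) = h * (b * a) * h⁻¹ by group] at this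
      exact mul_left_cancel (mul_right_cancel this)
    · intro a ha
      obtain ⟨j, hj, e⟩ := (hmem a).1 ha
      have h' := List.all_eq_true.1 k_A.1 _ (elc_mem hj)
      rw [Bool.and_eq_true] at h'
      have := (M.sq_eq_one_iff (aL_syl (elc_mem hj)).1).2 (Nat.eq_of_beq_eq_true h'.1)
      rw [e, show h * a * h⁻¹ * (h * a * h⁻¹) = h * (a * a) * h⁻¹ by group] at this
      exact conj_eq_one_iff.1 this
    · rw [← Nat.card_congr (M.A1.equivMapOfInjective _ (MulAut.conj h⁻¹).injective).toEquiv, M.card_A1]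
    · intro s hs b hb
      rw [hmem]
      have hsT : h * s * h⁻¹ ∈ (T' : Subgroup G) := (hh _).2 (by simpa [mul_assoc] using hs)
      rw [← hTeq] at hsT
      obtain ⟨t, -, et⟩ := hsT
      have := (mem_normalizer_iff.1 t.2 _).1 ((hmem b).1 hb)
      rw [show N.subtype t = (t : G) from rfl] at et
      rw [et] at this
      simpa [mul_assoc] using this
  obtain ⟨T₁, hT₁⟩ := (hp2.comap_subtype (K := N)).exists_le_sylow
  obtain ⟨c, hc⟩ := MulAction.exists_smul_eq N T₁ T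
  have hpN : p ∈ N := pow_mem hnN k
  have hcR : (c : G) * p * (c : G)⁻¹ ∈ M.R := by
    have h' : c * ⟨p, hpN⟩ * c⁻¹ ∈ (T : Subgroup N) := by
      rw [← hc, Sylow.coe_subgroup_smul]
      exact ⟨_, hT₁ (mem_zpowers p), rfl⟩
    rw [hTR] at h'
    exact h'
  have hsq : (c : G) * p * (c : G)⁻¹ * ((c : G) * p * (c : G)⁻¹) ∈ M.A1 := by
    obtain ⟨r, hr, e⟩ := M.mem_R_iff.1 hcR
    rw [← e]
    have hrS := (List.mem_filter.1 hr).1
    rw [← M.mul hrS hrS]
    have hz' := has_iff.1 (List.all_eq_true.1 k_sq.2 r hr)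
    refine M.zR_mem_A1 ?_
    simp only [zR, List.mem_cons, List.not_mem_nil, or_false] at hz'
    rcases hz' with h | h | h | h <;> rw [h]
    exacts [Or.inl M.map_zero, Or.inr (Or.inl rfl), Or.inr (Or.inr (Or.inl rfl)),
      Or.inr (Or.inr (Or.inr rfl))]
  -- so `p²` centralises `A1`
  have hp2c : ∀ a ∈ M.A1, p ^ 2 * a * (p ^ 2)⁻¹ = a := by
    intro a ha
    have ha' := (mem_normalizer_iff.1 c.2 a).1 ha
    have := M.A1_comm hsq ha'
    rw [mul_inv_eq_iff_eq_mul, pow_two]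
    calc p * p * a = (c : G)⁻¹ * ((c : G) * p * (c : G)⁻¹ * ((c : G) * p * (c : G)⁻¹) *
          ((c : G) * a * (c : G)⁻¹)) * c := by group
      _ = (c : G)⁻¹ * ((c : G) * a * (c : G)⁻¹ *
          ((c : G) * p * (c : G)⁻¹ * ((c : G) * p * (c : G)⁻¹))) * c := by rw [this]
      _ = _ := by group
  -- `n²` is `(p²)` up to fourth powers
  intro a ha
  have h4j : ∀ i : ℕ, (n ^ 4) ^ i * a * ((n ^ 4) ^ i)⁻¹ = a := by
    intro i
    induction i with
    | zero => simp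
    | succ i ih =>
      rw [pow_succ', mul_inv_rev, show n ^ 4 * (n ^ 4) ^ i * a * (((n ^ 4) ^ i)⁻¹ * (n ^ 4)⁻¹) =
        n ^ 4 * ((n ^ 4) ^ i * a * ((n ^ 4) ^ i)⁻¹) * (n ^ 4)⁻¹ by group, ih, h4 a ha]
  obtain ⟨d, rfl⟩ := hk
  have hpe : p ^ 2 = (n ^ 4) ^ d * n ^ 2 := by
    rw [hp, ← pow_mul, ← pow_mul, ← pow_add]; congr 1; ring
  have h2a : n ^ 2 * a * (n ^ 2)⁻¹ = ((n ^ 4) ^ d)⁻¹ * (p ^ 2 * a * (p ^ 2)⁻¹) * (n ^ 4) ^ d := by
    rw [hpe]; group
  rw [h2a, hp2c a ha]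
  conv_lhs => rw [← h4j d]
  group

/-- **No fusion of outside involutions into the centre of `R`.** -/
theorem not_fused (hz : ∀ g : G, g * M.z = M.z * g) {i : ℕ} (hi : i ∈ syl) (h32 : 32 ≤ i)
    (h2 : m i i = 0) : ¬ IsConj (M.φ i) (M.φ 15) := by
  classical
  intro hconj
  obtain ⟨n, hn, x, hxA, hxZ, hnx⟩ := M.exists_mover hz hi h32 h2 hconj
  set η : ℕ → G := fun i => M.φ (elc i) with hη
  have hηmul : ∀ i < 16, ∀ j < 16, η (Nat.xor i j) = η i * η j := by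
    intro i hi j hj
    have h := List.all_eq_true.1 k_elc.1 i (List.mem_range.2 hi)
    rw [Bool.and_eq_true] at h
    rw [hη]; dsimp only
    rw [← Nat.eq_of_beq_eq_true (List.all_eq_true.1 h.2 j (List.mem_range.2 hj)),
      M.mul (aL_syl (elc_mem hi)).1 (aL_syl (elc_mem hj)).1]
  have hηinj : ∀ i < 16, ∀ j < 16, η i = η j → i = j := by
    intro i hi j hj e
    have h0 : η (Nat.xor i j) = 1 := by
      rw [hηmul i hi j hj, e, ← hηmul j hj j hj, show Nat.xor j j = 0 from Nat.xor_self j]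
      show M.φ (elc 0) = 1
      rw [k_elc.2.2.2.1, M.map_zero]
    have hlt := Nat.xor_lt_two_pow (n := 4) hi hj
    have h' := List.all_eq_true.1 k_elc.2.2.1 _ (List.mem_range.2 hlt)
    rw [(M.eq_one_iff (aL_syl (elc_mem hlt)).1).1 h0] at h'
    simp only [Nat.beq_refl, Bool.not_true, Bool.or_false] at h'
    exact Nat.xor_eq_zero_iff.1 (Nat.eq_of_beq_eq_true h')
  have hηA : ∀ i < 16, η i ∈ M.A1 := fun i hi => ⟨i, hi, rfl⟩
  -- the action in coordinates
  have hact : ∀ g : G, (∀ a ∈ M.A1, g * a * g⁻¹ ∈ M.A1) → ∀ i, ∃ j, i < 16 → j < 16 ∧ g * η i * g⁻¹ = η j :=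
    fun g hg i => by
      by_cases hi : i < 16
      · obtain ⟨j, hj, e⟩ := hg _ (hηA i hi); exact ⟨j, fun _ => ⟨hj, e.symm⟩⟩
      · exact ⟨0, fun h => absurd h hi⟩
  choose L hL using hact n fun a ha => (hn a).1 ha
  set Λ := lap (L 2) (L 4) (L 8) with hΛ
  have hLx : ∀ i < 16, ∀ j < 16, L (Nat.xor i j) = Nat.xor (L i) (L j) := by
    intro i hi j hj
    obtain ⟨h1, e1⟩ := hL i hi
    obtain ⟨h2, e2⟩ := hL j hj
    obtain ⟨h3, e3⟩ := hL _ (Nat.xor_lt_two_pow (n := 4) hi hj)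
    refine hηinj _ h3 _ (Nat.xor_lt_two_pow (n := 4) h1 h2) ?_
    refine e3.symm.trans ?_
    rw [hηmul _ h1 _ h2, ← e1, ← e2, show η (i ^^^ j) = η i * η j from hηmul i hi j hj]; group
  have hL1 : L 1 = 1 := by
    obtain ⟨h1, e1⟩ := hL 1 (by omega)
    refine hηinj _ h1 1 (by omega) ?_
    rw [← e1]
    show n * M.φ (elc 1) * n⁻¹ = M.φ (elc 1)
    rw [k_elc.2.2.2.2.1, show M.φ 16 = M.z from rfl, hz, mul_inv_cancel_right]
  have hΛL : ∀ i < 16, Λ i = L i ∧ Λ i < 16 ∧ n * η i * n⁻¹ = η (Λ i) := fun i hi => by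
    rw [hΛ, ← lap_eq hLx hL1 i hi]
    exact ⟨rfl, hL i hi⟩
  have hlin := List.all_eq_true.1 (List.all_eq_true.1 (List.all_eq_true.1 k_lin (L 2)
    (List.mem_range.2 (hL 2 (by omega)).1)) (L 4) (List.mem_range.2 (hL 4 (by omega)).1)) (L 8)
    (List.mem_range.2 (hL 8 (by omega)).1)
  simp only [linOK, Bool.or_eq_true, List.any_eq_true, List.mem_range, Bool.and_eq_true, Nat.blt_eq,
    Bool.not_eq_true', ← hΛ] at hlin
  -- translating a word
  have hword : ∀ (g : G) (f : ℕ → ℕ), (∀ i < 16, f i < 16 ∧ g * η i * g⁻¹ = η (f i)) →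
      four f = true → False := by
    intro g f hf h4
    simp only [four, Bool.and_eq_true, List.all_eq_true, List.any_eq_true, Bool.not_eq_true'] at h4
    obtain ⟨h44, x, hx, hx2⟩ := h4
    have hg : ∀ a, a ∈ M.A1 ↔ g * a * g⁻¹ ∈ M.A1 := by
      intro a
      have hfwd : ∀ b ∈ M.A1, g * b * g⁻¹ ∈ M.A1 := by
        rintro _ ⟨i, hi, rfl⟩
        exact (hf i hi).2 ▸ hηA _ (hf i hi).1
      refine ⟨hfwd a, fun ha => ?_⟩
      have heq : M.A1.map (MulAut.conj g).toMonoidHom = M.A1 := eq_of_le_of_card_ge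
        (by rintro _ ⟨b, hb, rfl⟩; exact hfwd b hb)
        (by rw [← Nat.card_congr (M.A1.equivMapOfInjective _ (MulAut.conj g).injective).toEquiv])
      obtain ⟨b, hb, e⟩ := (heq.symm ▸ ha : g * a * g⁻¹ ∈ M.A1.map (MulAut.conj g).toMonoidHom)
      rwa [(MulAut.conj g).injective (show MulAut.conj g a = MulAut.conj g b from e.symm)]
    have hpow : ∀ i < 16, g ^ 2 * η i * (g ^ 2)⁻¹ = η (f (f i)) ∧
        g ^ 4 * η i * (g ^ 4)⁻¹ = η (f (f (f (f i)))) ∧ f (f i) < 16 ∧ f (f (f (f i))) < 16 := by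
      intro i hi
      obtain ⟨h1, e1⟩ := hf i hi
      obtain ⟨h2, e2⟩ := hf _ h1
      obtain ⟨h3, e3⟩ := hf _ h2
      obtain ⟨h4, e4⟩ := hf _ h3
      refine ⟨?_, ?_, h2, h4⟩
      · rw [← e2, ← e1, pow_two]; group
      · rw [← e4, ← e3, ← e2, ← e1]; simp only [pow_succ, pow_zero, one_mul]; group
    have hbasis : ∀ x ∈ ([2, 4, 8] : List ℕ), x < 16 := by decide
    have hf4 : ∀ i < 16, g ^ 4 * η i * (g ^ 4)⁻¹ = η i := by
      have hb : ∀ x, (x = 0 ∨ x = 1 ∨ x = 2 ∨ x = 4 ∨ x = 8) → g ^ 4 * η x * (g ^ 4)⁻¹ = η x := by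
        rintro x (rfl | rfl | h)
        · show g ^ 4 * M.φ (elc 0) * (g ^ 4)⁻¹ = M.φ (elc 0)
          rw [k_elc.2.2.2.1, M.map_zero]; group
        · show g ^ 4 * M.φ (elc 1) * (g ^ 4)⁻¹ = M.φ (elc 1)
          rw [k_elc.2.2.2.2.1, show M.φ 16 = M.z from rfl, hz, mul_inv_cancel_right]
        · have hm : x ∈ ([2, 4, 8] : List ℕ) := by simpa using h
          rw [(hpow x (hbasis x hm)).2.1, Nat.eq_of_beq_eq_true (h44 x hm)]
      have hmulstep : ∀ i j, i < 16 → j < 16 → g ^ 4 * η i * (g ^ 4)⁻¹ = η i →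
          g ^ 4 * η j * (g ^ 4)⁻¹ = η j → g ^ 4 * η (Nat.xor i j) * (g ^ 4)⁻¹ = η (Nat.xor i j) := by
        intro i j hi hj e e'
        rw [hηmul i hi j hj]
        calc g ^ 4 * (η i * η j) * (g ^ 4)⁻¹
            = (g ^ 4 * η i * (g ^ 4)⁻¹) * (g ^ 4 * η j * (g ^ 4)⁻¹) := by group
          _ = _ := by rw [e, e']
      have hbit : ∀ i < 16, ∃ a ∈ [0, 1], ∃ b ∈ [0, 2], ∃ c ∈ [0, 4], ∃ d ∈ [0, 8],
          i = Nat.xor a (Nat.xor b (Nat.xor c d)) := by decide +kernel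
      intro i hi
      obtain ⟨a, ha, b, hb', c, hc, d, hd, rfl⟩ := hbit i hi
      simp only [List.mem_cons, List.not_mem_nil, or_false] at ha hb' hc hd
      have l1 : a < 16 := by omega
      have l2 : b < 16 := by omega
      have l3 : c < 16 := by omega
      have l4 : d < 16 := by omega
      exact hmulstep _ _ l1 (Nat.xor_lt_two_pow (n := 4) l2 (Nat.xor_lt_two_pow (n := 4) l3 l4))
        (hb _ (by omega)) (hmulstep _ _ l2 (Nat.xor_lt_two_pow (n := 4) l3 l4) (hb _ (by omega))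
          (hmulstep _ _ l3 l4 (hb _ (by omega)) (hb _ (by omega))))
    have h2' := M.no_four hg (by rintro _ ⟨i, hi, rfl⟩; exact hf4 i hi) _ (hηA x (hbasis x hx))
    rw [(hpow x (hbasis x hx)).1] at h2'
    rw [hηinj _ (hpow x (hbasis x hx)).2.2.1 x (hbasis x hx) h2'] at hx2
    simp at hx2
  have hu : ∀ u ∈ uTab, ∃ r : G, ∀ i < 16, uap u i < 16 ∧ r * η i * r⁻¹ = η (uap u i) := by
    intro u hu
    obtain ⟨r, hr, h⟩ := List.any_eq_true.1 (List.all_eq_true.1 k_uTab u hu)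
    refine ⟨M.φ r, fun i hi => ?_⟩
    have h' := List.all_eq_true.1 h i (List.mem_range.2 hi)
    simp only [Bool.and_eq_true, Nat.blt_eq] at h'
    exact ⟨h'.1, M.conj_of_eq (List.mem_filter.1 hr).1 (aL_syl (elc_mem hi)).1 (aL_syl (elc_mem h'.1)).1
      (Nat.eq_of_beq_eq_true h'.2)⟩
  rcases hlin with (⟨y, hy, hy0, hy'⟩ | hmove) | ⟨u, hu', hu2⟩
  · -- `n` is injective
    obtain ⟨-, h2, e⟩ := hΛL y hy
    rw [Nat.eq_of_beq_eq_true hy'] at e
    have : η y = 1 := by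
      rw [← conj_eq_one_iff (a := n), e]
      show M.φ (elc 0) = 1
      rw [k_elc.2.2.2.1, M.map_zero]
    have := hηinj y hy 0 (by omega) (this.trans (by rw [hη]; dsimp only; rw [k_elc.2.2.2.1, M.map_zero]))
    omega
  · -- some element goes into the centre of `R`
    obtain ⟨y, hy, rfl⟩ := hxA
    have h3 : 3 < y := by
      by_contra h
      apply hxZ
      rcases (show y = 0 ∨ y = 1 ∨ y = 2 ∨ y = 3 by omega) with rfl | rfl | rfl | rfl
      · exact Or.inl (by rw [k_elc.2.2.2.1, M.map_zero])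
      · exact Or.inr (Or.inl (by rw [k_elc.2.2.2.2.1]; rfl))
      · exact Or.inr (Or.inr (Or.inl (by rw [k_elc.2.2.2.2.2.1])))
      · exact Or.inr (Or.inr (Or.inr (by rw [k_elc.2.2.2.2.2.2])))
    obtain ⟨-, hlt, e⟩ := hΛL y hy
    have hfalse := List.any_eq_false.1 hmove y (List.mem_range.2 hy)
    simp only [Bool.and_eq_true, Bool.or_eq_true, Nat.blt_eq] at hfalse
    apply hfalse
    refine ⟨h3, ?_⟩
    rcases hnx with h | h
    · left
      rw [hηinj (Λ y) hlt 2 (by omega) (e.symm.trans (h.trans (by rw [hη]; dsimp only; rw [k_elc.2.2.2.2.2.1])))]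
      rfl
    · right
      rw [hηinj (Λ y) hlt 3 (by omega) (e.symm.trans (h.trans (by rw [hη]; dsimp only; rw [k_elc.2.2.2.2.2.2])))]
      rfl
  · obtain ⟨r, hr⟩ := hu u hu'
    rcases hu2 with h | ⟨v, hv, h⟩
    · refine hword (r * n) _ (fun i hi => ?_) h
      obtain ⟨-, h1, e1⟩ := hΛL i hi
      obtain ⟨h2, e2⟩ := hr _ h1
      exact ⟨h2, by rw [← e2, ← e1]; group⟩
    · obtain ⟨r', hr'⟩ := hu v hv
      refine hword (r * n * r' * n⁻¹) _ (fun i hi => ?_) h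
      -- the inverse
      obtain ⟨w, hw, ew⟩ : ∃ w < 16, η w = n⁻¹ * η i * n := by
        obtain ⟨w, hw, e⟩ := (hn (n⁻¹ * η i * n)).2 (by simpa [mul_assoc] using hηA i hi)
        exact ⟨w, hw, e⟩
      obtain ⟨-, hw1, ew1⟩ := hΛL w hw
      have hwi : Λ w = i := hηinj _ hw1 i hi (by rw [← ew1, ew]; group)
      have hinv : invBy Λ i = w := by
        unfold invBy
        cases hf : (List.range 16).find? (fun x => Nat.beq (Λ x) i) with
        | none =>
          have := List.find?_eq_none.1 hf w (List.mem_range.2 hw)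
          simp [hwi] at this
        | some x =>
          have h1 := List.find?_some hf
          have h2 := List.mem_range.1 (List.mem_of_find?_eq_some hf)
          simp only [Option.getD_some]
          obtain ⟨-, hx1, ex⟩ := hΛL x h2
          refine hηinj x h2 w hw ?_
          rw [ew, ← Nat.eq_of_beq_eq_true h1, ← ex]; group
      rw [hinv]
      obtain ⟨h3, e3⟩ := hr' w hw
      obtain ⟨-, h4, e4⟩ := hΛL _ h3
      obtain ⟨h5, e5⟩ := hr _ h4
      exact ⟨h5, by rw [← e5, ← e4, ← e3, ew]; group⟩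

end SModel

end Cfsg.Agent.H22.JanType
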