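import Cfsg.Prelude.Def_Involutions
import Cfsg.Prelude.Def_TwoFusion
import Mathlib.GroupTheory.Subgroup.Simple
import Mathlib.GroupTheory.Sylow

/-!
# Goldschmidt's theorem on strongly closed abelian 2-subgroups, as a hypothesis
-/

set_option autoImplicit false

namespace Cfsg.Agent.H22.JanType

universe u

/-- The statement of Goldschmidt's theorem for simple groups. -/
def GoldschmidtHyp : Prop :=
  ∀ (G : Type u) [Group G] [Finite G] [IsSimpleGroup G] (S : Sylow 2 G) (A : Subgroup G),
    A ≠ ⊥ → IsMulCommutative A → Cfsg.IsStronglyClosed A (S : Subgroup G) →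
      IsMulCommutative (S : Subgroup G) ∨ ∃ H : Subgroup G, Cfsg.IsStronglyEmbedded H

end Cfsg.Agent.H22.JanType
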