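import Cfsg.Agent.Compute.J2.CentDefs

/-!
# Three checks on the centraliser of a reflection in J2
-/

set_option autoImplicit false
set_option maxRecDepth 100000

namespace Cfsg.Agent.H22.JanType

open Cfsg.Agent.Compute Cfsg.Agent.Compute.J2

/-- A generator. -/
noncomputable def cgen (i : ℕ) : (ℕ × ℕ) × (ℕ × ℕ) := nth (cinvOps.one, cinvOps.one) (nextGens cinvChain) i

/-- the involution outside the kernel -/
noncomputable def tcode : ℕ × ℕ := cinvOps.mul (cgen 3).1 (cgen 2).1

theorem jcent_checks :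
    ((nextGens cinvChain).length = 4) ∧
    lall (nextGens cinvChain) (fun g =>
      sameQ (cinvOps.mul g.1 (kerAt cinvZ).1) (cinvOps.mul (kerAt cinvZ).1 g.1)) = true ∧
    sameQ (cinvOps.mul tcode tcode) cinvOps.one = true ∧ Nat.beq tcode.2 fiveOps.one = false ∧
    sameQ (cinvOps.mul (cgen 1).1 (kerAt 1).1) (cinvOps.mul (kerAt 1).1 (cgen 1).1) = false ∧
    sameQ (cinvOps.mul (cgen 1).1 (kerAt 1).1)
      (cinvOps.mul (kerAt cinvZ).1 (cinvOps.mul (kerAt 1).1 (cgen 1).1)) = false ∧
    sameQ (kerAt cinvZ).1 cinvOps.one = false ∧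
    sameQ (cinvOps.mul (kerAt cinvZ).1 (kerAt cinvZ).1) cinvOps.one = true := by
  decide +kernel

end Cfsg.Agent.H22.JanType
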