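import Cfsg.Agent.H52.JThree.Code

/-!
# The Sylow 2-subgroup of the model `2^{1+4}:A₅` as a table
-/

set_option autoImplicit false
set_option maxRecDepth 4000

namespace Cfsg.Agent.H22.JanType.Syl

open Cfsg.Agent.H52.JThree

/-- product of codes -/
abbrev m : ℕ → ℕ → ℕ := Code.mul

/-- the codes -/
def syl : List ℕ := [0, 13, 30, 39].flatMap fun p => (List.range 32).map fun n => Nat.add (Nat.mul 32 p) n

/-- two codes commute -/
def comm (i j : ℕ) : Bool := Nat.beq (m i j) (m j i)

/-- the codes commuting with the central involution pair -/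
def rL : List ℕ := syl.filter fun i => comm i 15

/-- the centre of that subgroup -/
def zR : List ℕ := [0, 16, 15, 31]

/-- one elementary abelian subgroup of order 16 -/
def aL : List ℕ := [0, 13, 30, 39].flatMap fun p => zR.map fun n => Nat.add (Nat.mul 32 p) n

/-- membership -/
def has (l : List ℕ) (i : ℕ) : Bool := l.any fun j => Nat.beq i j

theorem has_iff {l : List ℕ} {i : ℕ} : has l i = true ↔ i ∈ l := by
  simp [has, List.any_eq_true]

/-- congruence modulo the centre -/
def eqZ (i j : ℕ) : Bool := Nat.beq i j || Nat.beq i (m 16 j)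

/-- commutation modulo the centre -/
def commZ (i j : ℕ) : Bool := eqZ (m i j) (m j i)

/-- square in the centre -/
def sqZ (i : ℕ) : Bool := Nat.beq (m i i) 0 || Nat.beq (m i i) 16

theorem syl_lt : ∀ i ∈ syl, i < 1920 := by decide +kernel

theorem syl_nodup : syl.Nodup ∧ syl.length = 128 ∧ rL.length = 64 ∧ aL.length = 16 ∧ aL.Nodup ∧ zR.Nodup := by
  decide +kernel

theorem k_mul : (syl.all fun a => syl.all fun b => has syl (m a b)) = true := by decide +kernel

theorem k_mem : has syl 0 = true ∧ has syl 16 = true ∧ has syl 15 = true ∧ has syl 31 = true ∧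
    has syl 8 = true ∧ has syl 416 = true ∧ has syl 960 = true ∧
    (aL.all fun i => has syl i && comm i 15) = true := by decide +kernel

theorem k_center : (syl.all fun i => comm i 16 &&
    (Nat.beq i 0 || Nat.beq i 16 || syl.any fun j => !comm i j)) = true := by decide +kernel

theorem k_zR : (rL.all fun i => comm i 16 && comm i 31 &&
    (has zR i || rL.any fun j => !comm i j)) = true := by decide +kernel

theorem k_sq : (syl.all fun a => comm (m a a) 15 &&
    (!Nat.beq (m (m a a) (m a a)) 0 || has zR (m a a))) = true ∧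
    (rL.all fun a => has zR (m a a)) = true := by decide +kernel

/-- the centraliser -/
def cen (i : ℕ) : List ℕ := syl.filter fun j => comm i j

theorem k_invR : (rL.all fun i => !Nat.beq (m i i) 0 || has zR i ||
    ((cen i).all fun a => (cen i).all fun b => comm a b)) = true := by decide +kernel

theorem k_s : comm 8 15 = false ∧ comm 8 16 = true ∧ m 8 8 = 0 ∧ m 8 15 = m 31 8 ∧ m 8 31 = m 15 8 ∧
    (cen 8).any (fun a => Nat.beq (m a a) 16 && (cen 8).any fun b => !comm a b) = true := by decide +kernel

theorem k_outsq : (syl.all fun i => Nat.blt i 32 || !sqZ i || Nat.beq (m i i) 0) = true := by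
  decide +kernel

theorem k_invQ : ((List.range 32).all fun i => !Nat.beq (m i i) 0 || has zR i ||
    syl.any fun g => Nat.beq (m g i) (m 8 g)) = true ∧
    ((List.range 32).all fun i => has syl i && comm i 16 && sqZ i &&
      (List.range 32).all fun j => Nat.blt (m i j) 32 && commZ i j) = true ∧
    ((List.range 32).all fun i => Nat.beq i 0 || Nat.beq i 16 ||
      !((List.range 32).all fun j => comm i j)) = true := by decide +kernel

theorem k_elem : ((List.range 32).all fun i => !Nat.beq (m i i) 0 || Nat.beq i 0 || Nat.beq i 16 ||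
    Nat.ble ((List.range 32).filter fun j => Nat.beq (m j j) 0 && comm i j).length 4) = true ∧
    Nat.ble ((List.range 32).filter fun i => Nat.beq (m i i) 0 && (Nat.beq i 0 || Nat.beq i 16)).length 2
      = true := by decide +kernel

theorem k_outinv : (syl.all fun i => Nat.blt i 32 || !Nat.beq (m i i) 0 ||
    (comm i 15 && (has aL i || has aL (m (m 8 i) 8)))) = true ∧
    (rL.all fun i => !Nat.beq (m i i) 0 || Nat.blt 31 i || has zR i) = true ∧
    (aL.all fun i => has zR i || (cen i).all fun j => has aL j) = true := by decide +kernel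

theorem k_A : (aL.all fun a => Nat.beq (m a a) 0 && aL.all fun b => comm a b) = true ∧
    (rL.all fun r => aL.all fun a => aL.any fun a' => Nat.beq (m r a) (m a' r)) = true ∧
    (aL.any fun a => !has aL (m (m 8 a) 8)) = true := by decide +kernel

theorem k_quot : (syl.all fun x => Nat.blt x 32 || !sqZ x ||
    Nat.blt ((syl.filter fun j => sqZ j && commZ x j)).length 32) = true ∧
    (syl.all fun x => Nat.blt x 32 || (List.range 32).any fun j => !commZ x j) = true := by
  decide +kernel

/-- the five involutions -/
def sL : List ℕ := [8, 4, 2, 1, 15]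

theorem k_perm : (m 416 8 = m 4 416 ∧ m 416 4 = m 8 416 ∧ m 416 2 = m 1 416 ∧ m 416 1 = m 2 416 ∧
    m 416 15 = m 15 416) ∧ (m 960 8 = m 2 960 ∧ m 960 4 = m 1 960 ∧ m 960 2 = m 8 960 ∧
    m 960 1 = m 4 960 ∧ m 960 15 = m 15 960) ∧
    (syl.all fun g => ([15, 31] : List ℕ).all fun i => ([15, 31] : List ℕ).any fun j =>
      Nat.beq (m g i) (m j g)) = true := by decide +kernel

/-- the generators decomposition -/
theorem k_decomp : ((List.range 32).all fun i => Nat.beq i
    (m (Nat.mul 16 (i / 16)) (m (Nat.mul 8 (i / 8 % 2)) (m (Nat.mul 4 (i / 4 % 2))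
      (m (Nat.mul 2 (i / 2 % 2)) (i % 2)))))) = true := by decide +kernel

theorem k_sinv : (sL.all fun a => Nat.beq (m a a) 0 && Nat.blt a 32 &&
    sL.all fun b => Nat.beq a b || Nat.beq (m a b) (m 16 (m b a))) = true := by decide +kernel

end Cfsg.Agent.H22.JanType.Syl
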