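import Cfsg.Agent.H22.JanType.SylData
import Mathlib.GroupTheory.Sylow

/-!
# Subgroups coordinatised by the Sylow 2-subgroup of the model
-/

set_option autoImplicit false
set_option maxRecDepth 4000

namespace Cfsg.Agent.H22.JanType

open Subgroup Syl

universe u v

/-- A subgroup with coordinates in the order-128 table. -/
structure SModel {G : Type u} [Group G] (S : Subgroup G) where
  φ : ℕ → G
  mul : ∀ {i j : ℕ}, i ∈ syl → j ∈ syl → φ (m i j) = φ i * φ j
  inj : ∀ {i j : ℕ}, i ∈ syl → j ∈ syl → φ i = φ j → i = j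
  mem_iff : ∀ g : G, g ∈ S ↔ ∃ i ∈ syl, φ i = g

namespace SModel

variable {G : Type u} [Group G] {S : Subgroup G} (M : SModel S)
include M

theorem mem {i : ℕ} (hi : i ∈ syl) : M.φ i ∈ S := (M.mem_iff _).2 ⟨i, hi, rfl⟩

omit M in
theorem m_mem {i j : ℕ} (hi : i ∈ syl) (hj : j ∈ syl) : m i j ∈ syl :=
  has_iff.1 (List.all_eq_true.1 (List.all_eq_true.1 k_mul i hi) j hj)

omit M in
theorem mem0 : 0 ∈ syl := has_iff.1 k_mem.1

omit M in
theorem mem16 : 16 ∈ syl := has_iff.1 k_mem.2.1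

omit M in
theorem mem15 : 15 ∈ syl := has_iff.1 k_mem.2.2.1

omit M in
theorem mem31 : 31 ∈ syl := has_iff.1 k_mem.2.2.2.1

omit M in
theorem mem8 : 8 ∈ syl := has_iff.1 k_mem.2.2.2.2.1

theorem map_zero : M.φ 0 = 1 := by
  have h := M.mul mem0 mem0
  rw [show m 0 0 = 0 by decide +kernel] at h
  exact mul_eq_left.1 h.symm

theorem eq_one_iff {i : ℕ} (hi : i ∈ syl) : M.φ i = 1 ↔ i = 0 :=
  ⟨fun h => M.inj hi mem0 (h.trans M.map_zero.symm), fun h => h ▸ M.map_zero⟩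

theorem sq_eq_one_iff {i : ℕ} (hi : i ∈ syl) : M.φ i * M.φ i = 1 ↔ m i i = 0 := by
  rw [← M.mul hi hi, M.eq_one_iff (m_mem hi hi)]

theorem comm_iff {i j : ℕ} (hi : i ∈ syl) (hj : j ∈ syl) :
    M.φ i * M.φ j = M.φ j * M.φ i ↔ comm i j = true := by
  rw [← M.mul hi hj, ← M.mul hj hi, Syl.comm]
  exact ⟨fun h => by rw [M.inj (m_mem hi hj) (m_mem hj hi) h]; exact Nat.beq_refl _,
    fun h => by rw [Nat.eq_of_beq_eq_true h]⟩

theorem conj_of_eq {g i j : ℕ} (hg : g ∈ syl) (hi : i ∈ syl) (hj : j ∈ syl) (h : m g i = m j g) :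
    M.φ g * M.φ i * (M.φ g)⁻¹ = M.φ j := by
  rw [← M.mul hg hi, h, M.mul hj hg, mul_inv_cancel_right]

/-- the central involution -/
def z : G := M.φ 16

theorem z_def : M.z = M.φ 16 := rfl

theorem z_mem : M.z ∈ S := M.mem mem16

theorem z_comm {g : G} (hg : g ∈ S) : g * M.z = M.z * g := by
  obtain ⟨i, hi, rfl⟩ := (M.mem_iff g).1 hg
  have h := List.all_eq_true.1 k_center i hi
  rw [Bool.and_eq_true] at h
  exact (M.comm_iff hi mem16).2 h.1

theorem z_ne_one : M.z ≠ 1 := fun h => by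
  have := (M.eq_one_iff mem16).1 h
  omega

theorem z_mul_z : M.z * M.z = 1 := (M.sq_eq_one_iff mem16).2 (by decide +kernel)

theorem orderOf_z : orderOf M.z = 2 :=
  orderOf_eq_prime (by rw [pow_two, M.z_mul_z]) M.z_ne_one

/-- `z` is the only central involution. -/
theorem eq_z_of_central {g : G} (hg : g ∈ S) (hc : ∀ s ∈ S, s * g = g * s) (h1 : g ≠ 1) : g = M.z := by
  obtain ⟨i, hi, rfl⟩ := (M.mem_iff g).1 hg
  have h := List.all_eq_true.1 k_center i hi
  simp only [Bool.and_eq_true, Bool.or_eq_true, List.any_eq_true, Bool.not_eq_true'] at h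
  rcases h.2 with (h | h) | ⟨j, hj, h⟩
  · exact absurd ((M.eq_one_iff hi).2 (Nat.eq_of_beq_eq_true h)) h1
  · rw [Nat.eq_of_beq_eq_true h]; rfl
  · rw [(M.comm_iff hi hj).1 (hc _ (M.mem hj)).symm] at h
    cases h

/-- The image under a homomorphism injective on `S`. -/
def map {H : Type u} [Group H] (f : G →* H) (hf : ∀ g ∈ S, f g = 1 → g = 1) : SModel (S.map f) where
  φ i := f (M.φ i)
  mul hi hj := by rw [M.mul hi hj, map_mul]
  inj {i j} hi hj h := by
    refine M.inj hi hj ?_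
    have := hf _ (mul_mem (M.mem hi) (inv_mem (M.mem hj))) (by rw [map_mul, map_inv, h, mul_inv_cancel])
    exact mul_inv_eq_one.1 this
  mem_iff g := by
    rw [mem_map]
    constructor
    · rintro ⟨s, hs, rfl⟩
      obtain ⟨i, hi, rfl⟩ := (M.mem_iff s).1 hs
      exact ⟨i, hi, rfl⟩
    · rintro ⟨i, hi, rfl⟩
      exact ⟨_, M.mem hi, rfl⟩

/-- Transport along an isomorphism. -/
def ofEquiv {H : Type v} [Group H] {T : Subgroup H} (e : ↥S ≃* ↥T) : SModel T where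
  φ i := if h : i ∈ syl then (e ⟨M.φ i, M.mem h⟩ : H) else 1
  mul {i j} hi hj := by
    rw [dif_pos (m_mem hi hj), dif_pos hi, dif_pos hj, ← Subgroup.coe_mul, ← map_mul]
    exact congrArg (fun x => ((e x : ↥T) : H)) (Subtype.ext (M.mul hi hj))
  inj {i j} hi hj h := by
    rw [dif_pos hi, dif_pos hj] at h
    exact M.inj hi hj (congrArg Subtype.val (e.injective (Subtype.ext h)))
  mem_iff g := by
    constructor
    · intro hg
      obtain ⟨i, hi, h⟩ := (M.mem_iff _).1 (e.symm ⟨g, hg⟩).2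
      refine ⟨i, hi, ?_⟩
      rw [dif_pos hi]
      have : (⟨M.φ i, M.mem hi⟩ : ↥S) = e.symm ⟨g, hg⟩ := Subtype.ext h
      rw [this, e.apply_symm_apply]
    · rintro ⟨i, hi, rfl⟩
      rw [dif_pos hi]
      exact SetLike.coe_mem _

/-- Rewriting the subgroup. -/
def congr {T : Subgroup G} (h : S = T) : SModel T where
  φ := M.φ
  mul := M.mul
  inj := M.inj
  mem_iff g := h ▸ M.mem_iff g

theorem card : Nat.card ↥S = 128 := by
  classical
  have e : (S : Set G) = (syl.toFinset.image M.φ : Set G) := by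
    ext g
    simp [M.mem_iff g]
  show Nat.card (S : Set G) = 128
  rw [Nat.card_coe_set_eq, e, Set.ncard_coe_finset, Finset.card_image_of_injOn fun i hi j hj h =>
    M.inj (List.mem_toFinset.1 hi) (List.mem_toFinset.1 hj) h,
    List.toFinset_card_of_nodup syl_nodup.1, syl_nodup.2.1]

/-- A subset given by a list of codes. -/
theorem ncard_image {l : List ℕ} (hl : ∀ i ∈ l, i ∈ syl) (hn : l.Nodup) :
    (M.φ '' {i | i ∈ l}).ncard = l.length := by
  classical
  have hinj : Set.InjOn M.φ {i | i ∈ l} := fun i hi j hj h => M.inj (hl i hi) (hl j hj) h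
  refine hinj.ncard_image.trans ?_
  rw [show {i | i ∈ l} = (l.toFinset : Set ℕ) by ext i; simp, Set.ncard_coe_finset,
    List.toFinset_card_of_nodup hn]

/-- the centraliser in `S` of `φ 15`, of index two -/
def R : Subgroup G := S ⊓ centralizer ({M.φ 15} : Set G)

theorem mem_R_iff {g : G} : g ∈ M.R ↔ ∃ i ∈ rL, M.φ i = g := by
  rw [R, mem_inf, M.mem_iff, mem_centralizer_singleton_iff]
  constructor
  · rintro ⟨⟨i, hi, rfl⟩, h⟩
    exact ⟨i, List.mem_filter.2 ⟨hi, (M.comm_iff hi mem15).1 h⟩, rfl⟩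
  · rintro ⟨i, hi, rfl⟩
    obtain ⟨h1, h2⟩ := List.mem_filter.1 hi
    exact ⟨⟨i, h1, rfl⟩, (M.comm_iff h1 mem15).2 h2⟩

theorem R_le : M.R ≤ S := inf_le_left

theorem card_R : Nat.card ↥M.R = 64 := by
  show Nat.card (M.R : Set G) = 64
  rw [Nat.card_coe_set_eq, show (M.R : Set G) = M.φ '' {i | i ∈ rL} from ?_,
    M.ncard_image (l := rL) (fun i hi => (List.mem_filter.1 hi).1) (syl_nodup.1.filter _),
    syl_nodup.2.2.1]
  ext g
  simp [M.mem_R_iff, Set.mem_image, eq_comm]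

theorem relIndex_R : M.R.relIndex S = 2 := by
  have h := (M.R.subgroupOf S).card_mul_index
  rw [Nat.card_congr (subgroupOfEquivOfLe M.R_le).toEquiv, M.card_R, M.card] at h
  show (M.R.subgroupOf S).index = 2
  omega

theorem conj_mem_R {s x : G} (hs : s ∈ S) (hx : x ∈ M.R) : s * x * s⁻¹ ∈ M.R := by
  have := (normal_of_index_eq_two (M.relIndex_R)).conj_mem (⟨x, M.R_le hx⟩ : ↥S) hx ⟨s, hs⟩
  exact this

/-- The centre of `R`. -/
theorem central_R {g : G} (hg : g ∈ M.R) :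
    (∀ r ∈ M.R, r * g = g * r) ↔ g = 1 ∨ g = M.z ∨ g = M.φ 15 ∨ g = M.φ 31 := by
  obtain ⟨i, hi, rfl⟩ := M.mem_R_iff.1 hg
  have hiS := (List.mem_filter.1 hi).1
  constructor
  · intro h
    have h' := List.all_eq_true.1 k_zR i hi
    simp only [Bool.and_eq_true, Bool.or_eq_true, has_iff, List.any_eq_true, Bool.not_eq_true'] at h'
    rcases h'.2 with hz | ⟨j, hj, hc⟩
    · simp only [zR, List.mem_cons, List.not_mem_nil, or_false] at hz
      rcases hz with rfl | rfl | rfl | rfl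
      exacts [Or.inl M.map_zero, Or.inr (Or.inl rfl), Or.inr (Or.inr (Or.inl rfl)),
        Or.inr (Or.inr (Or.inr rfl))]
    · have hjS := (List.mem_filter.1 hj).1
      rw [(M.comm_iff hiS hjS).1 (h _ (M.mem_R_iff.2 ⟨j, hj, rfl⟩)).symm] at hc
      cases hc
  · intro h r hr
    obtain ⟨j, hj, rfl⟩ := M.mem_R_iff.1 hr
    obtain ⟨hjS, hj15⟩ := List.mem_filter.1 hj
    have h' := List.all_eq_true.1 k_zR j hj
    simp only [Bool.and_eq_true] at h'
    rcases h with e | e | e | e <;> rw [e]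
    · simp
    · exact (M.comm_iff hjS mem16).2 h'.1.1
    · exact (M.comm_iff hjS mem15).2 hj15
    · exact (M.comm_iff hjS mem31).2 h'.1.2

theorem zR_mem {g : G} (h : g = 1 ∨ g = M.z ∨ g = M.φ 15 ∨ g = M.φ 31) : g ∈ M.R := by
  have hm : ∀ i ∈ zR, i ∈ rL := by decide +kernel
  rcases h with rfl | rfl | rfl | rfl
  exacts [one_mem _, M.mem_R_iff.2 ⟨16, hm _ (by decide), rfl⟩,
    M.mem_R_iff.2 ⟨15, hm _ (by decide), rfl⟩, M.mem_R_iff.2 ⟨31, hm _ (by decide), rfl⟩]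

/-- An involution of `R` with non-abelian centraliser in `S` is central in `R`. -/
theorem zR_of_noncomm {g a b : G} (hg : g ∈ M.R) (hg2 : g * g = 1) (ha : a ∈ S) (hb : b ∈ S)
    (hag : a * g = g * a) (hbg : b * g = g * b) (hab : a * b ≠ b * a) :
    g = 1 ∨ g = M.z ∨ g = M.φ 15 ∨ g = M.φ 31 := by
  obtain ⟨i, hi, rfl⟩ := M.mem_R_iff.1 hg
  obtain ⟨j, hj, rfl⟩ := (M.mem_iff a).1 ha
  obtain ⟨k, hk, rfl⟩ := (M.mem_iff b).1 hb
  have hiS := (List.mem_filter.1 hi).1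
  have h' := List.all_eq_true.1 k_invR i hi
  rw [(M.sq_eq_one_iff hiS).1 hg2] at h'
  simp only [Nat.beq_refl, Bool.not_true, Bool.false_or, Bool.or_eq_true, has_iff, List.all_eq_true]
    at h'
  rcases h' with hz | hc
  · simp only [zR, List.mem_cons, List.not_mem_nil, or_false] at hz
    rcases hz with rfl | rfl | rfl | rfl
    exacts [Or.inl M.map_zero, Or.inr (Or.inl rfl), Or.inr (Or.inr (Or.inl rfl)),
      Or.inr (Or.inr (Or.inr rfl))]
  · exact absurd ((M.comm_iff hj hk).2 (hc j (List.mem_filter.2 ⟨hj, (M.comm_iff hiS hj).1 hag.symm⟩) k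
      (List.mem_filter.2 ⟨hk, (M.comm_iff hiS hk).1 hbg.symm⟩))) hab

/-- A square that is an involution. -/
theorem sq_zR {a : G} (ha : a ∈ S) (h : a * a * (a * a) = 1) :
    a * a = 1 ∨ a * a = M.z ∨ a * a = M.φ 15 ∨ a * a = M.φ 31 := by
  obtain ⟨i, hi, rfl⟩ := (M.mem_iff a).1 ha
  rw [← M.mul hi hi] at h ⊢
  have h' := List.all_eq_true.1 k_sq.1 i hi
  rw [(M.sq_eq_one_iff (m_mem hi hi)).1 h] at h'
  simp only [Nat.beq_refl, Bool.not_true, Bool.false_or, Bool.and_eq_true, has_iff] at h'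
  have hz := h'.2
  simp only [zR, List.mem_cons, List.not_mem_nil, or_false] at hz
  rcases hz with e | e | e | e <;> rw [e]
  exacts [Or.inl M.map_zero, Or.inr (Or.inl rfl), Or.inr (Or.inr (Or.inl rfl)),
    Or.inr (Or.inr (Or.inr rfl))]

theorem s0_swap : M.φ 8 * M.φ 15 * (M.φ 8)⁻¹ = M.φ 31 ∧ M.φ 8 * M.φ 31 * (M.φ 8)⁻¹ = M.φ 15 :=
  ⟨M.conj_of_eq mem8 mem15 mem31 k_s.2.2.2.1, M.conj_of_eq mem8 mem31 mem15 k_s.2.2.2.2.1⟩

theorem z_ne15 : M.z ≠ M.φ 15 ∧ M.z ≠ M.φ 31 ∧ M.φ 15 ≠ 1 ∧ M.φ 31 ≠ 1 :=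
  ⟨fun h => absurd (M.inj mem16 mem15 h) (by decide), fun h => absurd (M.inj mem16 mem31 h) (by decide),
    fun h => absurd ((M.eq_one_iff mem15).1 h) (by decide),
    fun h => absurd ((M.eq_one_iff mem31).1 h) (by decide)⟩

end SModel

end Cfsg.Agent.H22.JanType
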