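import Cfsg.Agent.H22.JanType.Descend
import Cfsg.Agent.H22.JanType.AltEight
import Cfsg.Prelude.Def_Transfer

/-!
# `A₈`-type Sylow subgroups, three classes of involutions, `N(A)/A O = A₅` (S3197)
-/

set_option autoImplicit false
set_option linter.unusedSectionVars false
set_option linter.style.haveILetI false

namespace Cfsg.Agent.H22.JanType

open Subgroup

universe u

variable {G : Type u} [Group G] [Finite G] {A : Subgroup G} {T : Sylow 2 G}

/-- The involutions of the normaliser outside the kernel form at most one class. -/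
theorem Frame.isConj_outside (P : Frame A T) {x y : ↥(normalizer (A : Set G))}
    (hx : (x : G) * x = 1) (hy : (y : G) * y = 1)
    (hxk : P.ψ x ≠ 1) (hyk : P.ψ y ≠ 1)
    (hKO : ∀ k, P.ψ k = 1 → ∃ a ∈ A, ∃ o ∈ (Cfsg.oddCore ↥(normalizer (A : Set G))).map
      (normalizer (A : Set G)).subtype, (k : G) = a * o) : IsConj (x : G) (y : G) := by
  set O := (Cfsg.oddCore ↥(normalizer (A : Set G))).map (normalizer (A : Set G)).subtype
  have hOodd : Odd (Nat.card ↥O) := by
    rw [Subgroup.card_map_of_injective (subtype_injective _)]; exact Cores.odd_card_oddCore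
  have hsq : ∀ z : ↥(normalizer (A : Set G)), (z : G) * z = 1 → P.ψ z ^ 2 = 1 := fun z hz => by
    rw [pow_two, ← map_mul, show z * z = 1 from Subtype.ext hz, map_one]
  obtain ⟨g, hg⟩ := a5_isConj _ _ (hsq y hy) hyk (hsq x hx) hxk
  obtain ⟨n, rfl⟩ := P.surj g
  refine IsConj.symm (IsConj.trans (isConj_iff.2 ⟨(n : G), rfl⟩) ?_)
  obtain ⟨a, ha, o, ho, he⟩ := hKO (x⁻¹ * (n * y * n⁻¹))
    (by rw [map_mul, map_inv, map_mul, map_mul, map_inv, hg, inv_mul_cancel])
  set y' := (n : G) * y * (n : G)⁻¹ with hy'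
  have hy'2 : y' * y' = 1 := by
    rw [hy', show (n : G) * y * (n : G)⁻¹ * ((n : G) * y * (n : G)⁻¹) = n * ((y : G) * y) * (n : G)⁻¹ by
      group, hy]
    group
  have hxi : (x : G)⁻¹ = x := inv_eq_of_mul_eq_one_left hx
  have he' : y' = (x : G) * a * o := by
    simp only [Subgroup.coe_mul, InvMemClass.coe_inv] at he
    rw [mul_assoc, ← he, ← mul_assoc, mul_inv_cancel, one_mul]
  have hxa : (x : G) * a * x ∈ A := by
    have := (mem_normalizer_iff.1 x.2 a).1 ha
    rwa [hxi] at this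
  have hxo : (x : G) * o * x ∈ O := by
    obtain ⟨o', ho', rfl⟩ := ho
    have h1 := (inferInstance : (Cfsg.oddCore ↥(normalizer (A : Set G))).Normal).conj_mem o' ho' x
    refine ⟨_, h1, ?_⟩
    simp only [Subgroup.coe_subtype, Subgroup.coe_mul, InvMemClass.coe_inv, hxi]
  have hOA : ∀ o ∈ O, ∀ b ∈ A, o * b = b * o := by
    intro o ho b hb
    obtain ⟨o', ho', rfl⟩ := ho
    have h1 : (o' : G) * b * (o' : G)⁻¹ * b⁻¹ = 1 := by
      refine eq_one_of_two_odd hOodd ?_ T.2
        (P.le (mul_mem ((mem_normalizer_iff.1 o'.2 b).1 hb) (inv_mem hb)))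
      refine ⟨o' * ((⟨b, le_normalizer hb⟩ : ↥(normalizer (A : Set G))) * o'⁻¹ *
        (⟨b, le_normalizer hb⟩ : ↥(normalizer (A : Set G)))⁻¹),
        mul_mem ho' ((inferInstance : (Cfsg.oddCore ↥(normalizer (A : Set G))).Normal).conj_mem _
          (inv_mem ho') _), ?_⟩
      simp only [Subgroup.coe_subtype, Subgroup.coe_mul, InvMemClass.coe_inv]
      group
    rw [mul_inv_eq_one, mul_inv_eq_iff_eq_mul] at h1
    exact h1
  have hsplit : (x : G) * a * x * a = 1 ∧ (x : G) * o * x * o = 1 := by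
    have h1 : (x : G) * a * x * a * ((x : G) * o * x * o) = 1 := by
      rw [← hy'2, he']
      calc (x : G) * a * x * a * ((x : G) * o * x * o)
          = (x : G) * a * x * (a * ((x : G) * o * x)) * o := by group
        _ = (x : G) * a * x * (((x : G) * o * x) * a) * o := by rw [hOA _ hxo a ha]
        _ = (x : G) * a * ((x : G) * x) * o * x * a * o := by group
        _ = _ := by rw [hx, mul_one]; group
    have h2 : (x : G) * a * x * a = 1 :=
      eq_one_of_two_odd hOodd (by rw [eq_inv_of_mul_eq_one_left h1]; exact inv_mem (mul_mem hxo ho))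
        T.2 (P.le (mul_mem hxa ha))
    exact ⟨h2, by rwa [h2, one_mul] at h1⟩
  obtain ⟨hfa, hfo⟩ := hsplit
  -- `x a` is conjugate to `x` under `A`
  have hab : IsConj (x : G) ((x : G) * a) := by
    have hmem : (⟨a, ha⟩ : ↥A) ∈ fixSub P.rho (P.ψ x) := by
      rw [mem_fixSub]
      apply Subtype.ext
      rw [P.rho_apply, hxi]
      rw [eq_inv_of_mul_eq_one_left hfa, inv_eq_of_mul_eq_one_left (P.sq a ha)]
    obtain ⟨b, hb⟩ := (fix_two P.rho P.rho_injective P.card
      (fun u v => Subtype.ext (P.comm u u.2 v v.2)) (fun u => Subtype.ext (P.sq u u.2))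
      (hsq x hx) hxk).2 _ hmem
    have hb' : a = (b : G) * ((x : G) * b * x) := by
      have := congrArg Subtype.val hb
      rw [Subgroup.coe_mul, P.rho_apply, hxi] at this
      exact this
    refine isConj_iff.2 ⟨(b : G), ?_⟩
    have hxbA : (x : G) * b * x ∈ A := by
      have := (mem_normalizer_iff.1 x.2 _).1 b.2
      rwa [hxi] at this
    rw [hb', P.comm _ b.2 _ hxbA, inv_eq_of_mul_eq_one_left (P.sq _ b.2)]
    calc (b : G) * x * b = ((x : G) * x) * b * x * b := by rw [hx, one_mul]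
      _ = _ := by group
  refine (hab.trans ?_).symm
  have hxa2 : (x : G) * a * ((x : G) * a) = 1 := by rw [← mul_assoc]; exact hfa
  refine (H26.isConj_of_odd hxa2 hy'2 ?_)
  refine Odd.of_dvd_nat hOodd ?_
  rw [he', show (x : G) * a * ((x : G) * a * o) = ((x : G) * a * x * a) * o by group, hfa, one_mul]
  exact Subgroup.orderOf_dvd_natCard _ ho

/-- The data of the theorem give a frame with two classes in `A` and `A` strongly closed. -/
theorem frame_of_threeClasses (S : Sylow 2 G) (Q : Sylow 2 ↥(alternatingGroup (Fin 8)))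
    (hS : Nonempty (↥(S : Subgroup G) ≃* ↥(Q : Subgroup ↥(alternatingGroup (Fin 8)))))
    (h3 : Nat.card {c : ConjClasses G // ∃ x ∈ c.carrier, orderOf x = 2} = 3)
    (A : Subgroup G) (hA : Cfsg.IsElementaryAbelian 2 A) (hA16 : Nat.card ↥A = 16)
    (hn : (A.subgroupOf (normalizer (A : Set G)) ⊔ Cfsg.oddCore ↥(normalizer (A : Set G))).Normal)
    (e : ↥(normalizer (A : Set G)) ⧸
        (A.subgroupOf (normalizer (A : Set G)) ⊔ Cfsg.oddCore ↥(normalizer (A : Set G))) ≃*
      ↥(alternatingGroup (Fin 5))) :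
    ∃ (T : Sylow 2 G) (_ : Frame A T), Cfsg.IsStronglyClosed A (T : Subgroup G) ∧
      ∃ a ∈ A, ∃ b ∈ A, a ≠ 1 ∧ b ≠ 1 ∧ ¬ IsConj a b := by
  classical
  haveI : Fact (Nat.Prime 2) := ⟨Nat.prime_two⟩
  obtain ⟨hQ, hQZ⟩ := alt_eight_sylow Q
  obtain ⟨eS⟩ := hS
  have hcomm : ∀ a ∈ A, ∀ b ∈ A, a * b = b * a := fun a ha b hb =>
    congrArg Subtype.val (hA.1.is_comm.comm (⟨a, ha⟩ : ↥A) ⟨b, hb⟩)
  have hsq : ∀ a ∈ A, a * a = 1 := fun a ha => by rw [← pow_two]; exact hA.2 a ha
  have hA2 : IsPGroup 2 ↥A := IsPGroup.of_card (n := 4) (by rw [hA16]; norm_num)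
  set N := normalizer (A : Set G) with hNdef
  set O := Cfsg.oddCore ↥N with hOdef
  haveI hAn : (A.subgroupOf N).Normal := normal_in_normalizer
  haveI := hn
  let ψ : ↥N →* ↥(alternatingGroup (Fin 5)) := e.toMonoidHom.comp (QuotientGroup.mk' _)
  have hψs : Function.Surjective ψ := e.surjective.comp (QuotientGroup.mk'_surjective _)
  have hψk : ψ.ker = A.subgroupOf N ⊔ O := by
    ext x
    rw [MonoidHom.mem_ker]
    show e (QuotientGroup.mk' _ x) = 1 ↔ _
    rw [map_eq_one_iff e e.injective, QuotientGroup.mk'_apply, QuotientGroup.eq_one_iff]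
  have hOodd : Odd (Nat.card ↥O) := Cores.odd_card_oddCore
  have hOA : ∀ o ∈ O, ∀ a ∈ A, (o : G) * a = a * o := by
    intro o ho a ha
    have h1 : o * (⟨a, le_normalizer ha⟩ : ↥N) * o⁻¹ * (⟨a, le_normalizer ha⟩ : ↥N)⁻¹ = 1 := by
      refine eq_one_of_two_odd hOodd ?_ (hA2.comap_subtype (K := N)) ?_
      · rw [show o * (⟨a, le_normalizer ha⟩ : ↥N) * o⁻¹ * (⟨a, le_normalizer ha⟩ : ↥N)⁻¹ =
          o * ((⟨a, le_normalizer ha⟩ : ↥N) * o⁻¹ * (⟨a, le_normalizer ha⟩ : ↥N)⁻¹) by group]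
        exact mul_mem ho ((inferInstance : O.Normal).conj_mem _ (inv_mem ho) _)
      · exact mul_mem (hAn.conj_mem _ ha o) (inv_mem (show (⟨a, le_normalizer ha⟩ : ↥N) ∈ A.subgroupOf N from ha))
    rw [mul_inv_eq_one, mul_inv_eq_iff_eq_mul] at h1
    exact congrArg Subtype.val h1
  have hkercent : ∀ n, ψ n = 1 → ∀ a ∈ A, (n : G) * a = a * n := by
    intro n hn1 a ha
    have h1 : n ∈ A.subgroupOf N ⊔ O := hψk ▸ hn1
    rw [← SetLike.mem_coe, Subgroup.normal_mul] at h1
    obtain ⟨b, hb, o, ho, rfl⟩ := h1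
    have hb' : (b : G) * a = a * b := hcomm _ hb a ha
    rw [Subgroup.coe_mul, mul_assoc, hOA o ho a ha, ← mul_assoc, hb', mul_assoc]
  -- orders
  have hA' : Nat.card ↥(A.subgroupOf N) = 16 := by
    rw [Nat.card_congr (subgroupOfEquivOfLe le_normalizer).toEquiv, hA16]
  have hdis : A.subgroupOf N ⊓ O = ⊥ := eq_bot_iff.2 fun x hx =>
    mem_bot.2 (eq_one_of_two_odd hOodd hx.2 (hA2.comap_subtype (K := N)) hx.1)
  have hcardK : Nat.card ↥ψ.ker = 16 * Nat.card ↥O := by
    have h := Cores.card_sup_mul_card_inf (A.subgroupOf N) O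
    rw [hdis, Subgroup.card_bot, mul_one, hA'] at h
    rw [hψk, h]
  have h60 : Nat.card ↥(alternatingGroup (Fin 5)) = 60 := by
    rw [Nat.card_eq_fintype_card]; decide +kernel
  have hcardN : Nat.card ↥N = 16 * Nat.card ↥O * 60 := by
    rw [← hcardK, ← ψ.ker.card_mul_index, index_ker, MonoidHom.range_eq_top.2 hψs,
      Subgroup.card_top, h60]
  -- a Sylow 2-subgroup
  obtain ⟨T₀, hT₀⟩ := (hA2.comap_subtype (K := N)).exists_le_sylow
  have hT₀card : Nat.card ↥(T₀ : Subgroup ↥N) = 64 := by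
    rw [T₀.card_eq_multiplicity, hcardN, show 16 * Nat.card ↥O * 60 = 2 ^ 6 * (15 * Nat.card ↥O) by ring,
      Nat.factorization_mul (by norm_num) (by have := hOodd.pos; omega), Finsupp.add_apply,
      Nat.prime_two.factorization_pow, Finsupp.single_eq_same,
      Nat.factorization_eq_zero_of_not_dvd (fun h => by
        have h1 : Odd (15 * Nat.card ↥O) := Odd.mul (by decide) hOodd
        exact Nat.not_even_iff_odd.2 h1 (even_iff_two_dvd.2 h))]
    norm_num
  have hScard : Nat.card ↥(S : Subgroup G) = 64 := by rw [Nat.card_congr eS.toEquiv, hQ]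
  obtain ⟨T, hT⟩ := (T₀.2.map N.subtype).exists_le_sylow
  have hTeq : (T : Subgroup G) = (T₀ : Subgroup ↥N).map N.subtype := by
    refine (Subgroup.eq_of_le_of_card_ge hT ?_).symm
    rw [Subgroup.card_map_of_injective N.subtype_injective, hT₀card, T.card_eq_multiplicity,
      ← S.card_eq_multiplicity, hScard]
  have hTN : (T : Subgroup G) ≤ N := hTeq ▸ map_subtype_le _
  have hAT : A ≤ (T : Subgroup G) := fun a ha => hTeq ▸ ⟨⟨a, le_normalizer ha⟩, hT₀ ha, rfl⟩
  -- the centraliser in `N` is the kernel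
  have hcentK : ∀ n : ↥N, (∀ a ∈ A, (n : G) * a = a * n) → ψ n = 1 := by
    let C : Subgroup ↥N := (centralizer (A : Set G)).subgroupOf N
    haveI hCn : C.Normal := ⟨fun c hc n => mem_centralizer_iff.2 fun a ha => by
      have h1 : (n : G)⁻¹ * a * (n : G) ∈ A := (mem_normalizer_iff''.1 n.2 a).1 ha
      have h2 := mem_centralizer_iff.1 hc _ h1
      simp only [Subgroup.coe_subtype, Subgroup.coe_mul, InvMemClass.coe_inv] at h2 ⊢
      calc a * ((n : G) * c * (n : G)⁻¹) = n * (((n : G)⁻¹ * a * n) * c) * (n : G)⁻¹ := by group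
        _ = n * (c * ((n : G)⁻¹ * a * n)) * (n : G)⁻¹ := by rw [h2]
        _ = _ := by group⟩
    intro n hc
    haveI : IsSimpleGroup ↥(alternatingGroup (Fin 5)) := alternatingGroup.isSimpleGroup (α := Fin 5) (by simp)
    have hn' : n ∈ C := mem_centralizer_iff.2 fun a ha => (hc a ha).symm
    rcases Subgroup.Normal.eq_bot_or_eq_top (Subgroup.Normal.map hCn ψ hψs) with h | h
    · have h1 : ψ n ∈ C.map ψ := ⟨n, hn', rfl⟩
      rwa [h, mem_bot] at h1
    · exfalso
      -- then `A` is central in `T`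
      have hcen : ∀ t ∈ (T : Subgroup G), ∀ a ∈ A, t * a = a * t := by
        intro t ht a ha
        obtain ⟨c, hc', hct⟩ : ψ ⟨t, hTN ht⟩ ∈ C.map ψ := h ▸ mem_top _
        have h1 := hkercent (c⁻¹ * ⟨t, hTN ht⟩) (by rw [map_mul, map_inv, hct, inv_mul_cancel]) a ha
        have h2 : (c : G) * a = a * c := (mem_centralizer_iff.1 hc' a ha).symm
        simp only [Subgroup.coe_mul, InvMemClass.coe_inv] at h1
        calc t * a = (c : G) * (((c : G)⁻¹ * t) * a) := by group
          _ = (c : G) * (a * ((c : G)⁻¹ * t)) := by rw [h1]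
          _ = a * ((c : G) * ((c : G)⁻¹ * t)) := by rw [← mul_assoc, h2, mul_assoc]
          _ = a * t := by group
      obtain ⟨g, hg⟩ := MulAction.exists_smul_eq G T S
      have eTQ : ↥(T : Subgroup G) ≃* ↥(Q : Subgroup ↥(alternatingGroup (Fin 8))) :=
        ((T.equivSMul g).trans (MulEquiv.subgroupCongr (congrArg Sylow.toSubgroup hg))).trans eS
      have hle : Nat.card ↥(center ↥(T : Subgroup G)) ≤ 8 := by
        refine le_trans (le_of_eq ?_) hQZ
        exact Nat.card_congr (Subgroup.centerCongr eTQ).toEquiv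
      have hge : 16 ≤ Nat.card ↥(center ↥(T : Subgroup G)) := by
        rw [← hA16]
        exact Nat.card_le_card_of_injective
          (fun a : ↥A => (⟨⟨a, hAT a.2⟩, mem_center_iff.2 fun t => Subtype.ext (hcen t t.2 a a.2)⟩ :
            ↥(center ↥(T : Subgroup G))))
          fun a b h' => Subtype.ext (congrArg (fun z : ↥(center ↥(T : Subgroup G)) =>
            ((z : ↥(T : Subgroup G)) : G)) h')
      omega
  have hTK : ∀ t, ∀ ht : t ∈ (T : Subgroup G), ψ ⟨t, hTN ht⟩ = 1 → t ∈ A := by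
    intro t ht h1
    have h2 : (⟨t, hTN ht⟩ : ↥N) ∈ A.subgroupOf N ⊔ O := hψk ▸ h1
    rw [← SetLike.mem_coe, Subgroup.normal_mul] at h2
    obtain ⟨b, hb, o, ho, he⟩ := h2
    have ho1 : o = 1 := eq_one_of_two_odd hOodd ho (T.2.comap_subtype (K := N)) (by
      show (o : G) ∈ (T : Subgroup G)
      have : (o : G) = (b : G)⁻¹ * t := by
        have h3 := congrArg Subtype.val he
        simp only [Subgroup.coe_mul] at h3
        rw [← h3]; group
      rw [this]
      exact mul_mem (inv_mem (hAT hb)) ht)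
    rw [ho1] at he
    have h3 := congrArg Subtype.val he
    simp only [mul_one] at h3
    exact h3 ▸ hb
  let P : Frame A T :=
    { comm := hcomm, sq := hsq, card := hA16, le := hAT, le_norm := hTN
      cent := fun t ht hc => hTK t ht (hcentK ⟨t, hTN ht⟩ hc)
      ψ := ψ, surj := hψs, ker_iff := fun n => ⟨hkercent n, hcentK n⟩ }
  refine ⟨T, P, ?_⟩
  -- classes
  have hKO : ∀ k, P.ψ k = 1 → ∃ a ∈ A, ∃ o ∈ O.map N.subtype, (k : G) = a * o := by
    intro k hk
    have h2 : k ∈ A.subgroupOf N ⊔ O := hψk ▸ hk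
    rw [← SetLike.mem_coe, Subgroup.normal_mul] at h2
    obtain ⟨b, hb, o, ho, rfl⟩ := h2
    exact ⟨_, hb, _, ⟨o, ho, rfl⟩, rfl⟩
  obtain ⟨r, s, hr, hs, hrs⟩ := two_orbits P.rho P.rho_injective P.card
    (fun x y => Subtype.ext (P.comm x x.2 y y.2)) (fun x => Subtype.ext (P.sq x x.2))
  have horb : ∀ a ∈ A, a ≠ 1 → IsConj a (r : G) ∨ IsConj a (s : G) := by
    intro a ha ha1
    obtain ⟨g, hg⟩ := hrs ⟨a, ha⟩ (fun h => ha1 (congrArg Subtype.val h))
    obtain ⟨n, rfl⟩ := P.surj g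
    exact hg.imp (fun h => isConj_iff.2 ⟨(n : G), by rw [← P.rho_apply n ⟨a, ha⟩, h]⟩)
      (fun h => isConj_iff.2 ⟨(n : G), by rw [← P.rho_apply n ⟨a, ha⟩, h]⟩)
  -- every involution is conjugate to one of `T`
  have hinT : ∀ x : G, orderOf x = 2 → ∃ t ∈ (T : Subgroup G), IsConj x t ∧ t * t = 1 ∧ t ≠ 1 := by
    intro x hx
    obtain ⟨R, hR⟩ := (IsPGroup.of_card (p := 2) (n := 1)
      (by rw [Nat.card_zpowers, hx, pow_one]) : IsPGroup 2 ↥(zpowers x)).exists_le_sylow
    obtain ⟨g, hg⟩ := MulAction.exists_smul_eq G R T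
    refine ⟨g * x * g⁻¹, hg ▸ ⟨x, hR (mem_zpowers x), rfl⟩, isConj_iff.2 ⟨g, rfl⟩, ?_⟩
    exact H26.orderOf_two_iff.1 (by rw [H26.orderOf_conj_eq, hx])
  let I := {c : ConjClasses G // ∃ x ∈ c.carrier, orderOf x = 2}
  have hmk : ∀ x : G, orderOf x = 2 → ∃ x' ∈ (ConjClasses.mk x).carrier, orderOf x' = 2 := fun x hx =>
    ⟨x, ConjClasses.mem_carrier_mk, hx⟩
  cases nonempty_fintype I
  -- no two elements cover all classes
  have hcover : ∀ p q : G, ¬ ∀ x : G, orderOf x = 2 → IsConj x p ∨ IsConj x q := by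
    intro p q hall
    have hsub : Finset.univ.image (Subtype.val : I → ConjClasses G) ⊆
        {ConjClasses.mk p, ConjClasses.mk q} := by
      intro c hc
      obtain ⟨⟨c, x, hxc, hx⟩, -, rfl⟩ := Finset.mem_image.1 hc
      have hcx : c = ConjClasses.mk x := (ConjClasses.mem_carrier_iff_mk_eq.1 hxc).symm
      rw [Finset.mem_insert, Finset.mem_singleton]
      show c = _ ∨ c = _
      rw [hcx]
      exact (hall x hx).imp ConjClasses.mk_eq_mk_iff_isConj.2 ConjClasses.mk_eq_mk_iff_isConj.2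
    have h1 := Finset.card_le_card hsub
    rw [Finset.card_image_of_injective _ Subtype.val_injective, Finset.card_univ,
      ← Nat.card_eq_fintype_card, h3] at h1
    have := h1.trans Finset.card_le_two
    omega
  -- an involution of `T` outside `A`
  obtain ⟨y₀, hy₀, hy₀2, hy₀A⟩ : ∃ y ∈ (T : Subgroup G), y * y = 1 ∧ y ∉ A := by
    by_contra hc
    push Not at hc
    refine hcover r s fun x hx => ?_
    obtain ⟨t, ht, hxt, ht2, ht1⟩ := hinT x hx
    exact (horb t (hc t ht ht2) ht1).imp hxt.trans hxt.trans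
  have hout : ∀ y ∈ (T : Subgroup G), y * y = 1 → y ∉ A → IsConj y₀ y := fun y hy hy2 hyA =>
    P.isConj_outside (x := ⟨y₀, hTN hy₀⟩) (y := ⟨y, hTN hy⟩) hy₀2 hy2
      (fun h => hy₀A (hTK y₀ hy₀ h)) (fun h => hyA (hTK y hy h)) hKO
  have hclass : ∀ x : G, orderOf x = 2 → IsConj x (r : G) ∨ IsConj x (s : G) ∨ IsConj x y₀ := by
    intro x hx
    obtain ⟨t, ht, hxt, ht2, ht1⟩ := hinT x hx
    by_cases htA : t ∈ A
    · rcases horb t htA ht1 with h | h
      · exact Or.inl (hxt.trans h)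
      · exact Or.inr (Or.inl (hxt.trans h))
    · exact Or.inr (Or.inr (hxt.trans (hout t ht ht2 htA).symm))
  have hrs' : ¬ IsConj (r : G) (s : G) := fun h => hcover r y₀ fun x hx =>
    (hclass x hx).imp id (fun h1 => h1) |>.elim Or.inl fun h1 =>
      h1.elim (fun h2 => Or.inl (h2.trans h.symm)) Or.inr
  have hry : ¬ IsConj (r : G) y₀ := fun h => hcover s y₀ fun x hx =>
    (hclass x hx).elim (fun h2 => Or.inr (h2.trans h)) (fun h1 => h1)
  have hsy : ¬ IsConj (s : G) y₀ := fun h => hcover r y₀ fun x hx =>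
    (hclass x hx).elim Or.inl fun h1 => h1.elim (fun h2 => Or.inr (h2.trans h)) Or.inr
  refine ⟨⟨hAT, fun a ha g hg => ?_⟩, _, r.2, _, s.2, fun h => hr (Subtype.ext h),
    fun h => hs (Subtype.ext h), hrs'⟩
  by_cases ha1 : a = 1
  · simp [ha1]
  by_contra hnot
  have h2 : g * a * g⁻¹ * (g * a * g⁻¹) = 1 := by
    rw [show g * a * g⁻¹ * (g * a * g⁻¹) = g * (a * a) * g⁻¹ by group, hsq a ha]; group
  have hc : IsConj a y₀ := (isConj_iff.2 ⟨g, rfl⟩).trans (hout _ hg h2 hnot).symm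
  rcases horb a ha ha1 with h | h
  · exact hry (h.symm.trans hc)
  · exact hsy (h.symm.trans hc)

/-- S3197 from Goldschmidt's theorem. -/
theorem sup_normal_of_threeClasses (hGold : GoldschmidtHyp.{u})
    (S : Sylow 2 G) (Q : Sylow 2 ↥(alternatingGroup (Fin 8)))
    (hS : Nonempty (↥(S : Subgroup G) ≃* ↥(Q : Subgroup ↥(alternatingGroup (Fin 8)))))
    (h3 : Nat.card {c : ConjClasses G // ∃ x ∈ c.carrier, orderOf x = 2} = 3)
    (A : Subgroup G) (hA : Cfsg.IsElementaryAbelian 2 A) (hA16 : Nat.card ↥A = 16)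
    (N : Subgroup G) (hN : N = normalizer (A : Set G))
    (hNA : ∃ (_ : (A.subgroupOf N ⊔ Cfsg.oddCore ↥N).Normal),
      Nonempty (↥N ⧸ (A.subgroupOf N ⊔ Cfsg.oddCore ↥N) ≃* ↥(alternatingGroup (Fin 5)))) :
    (A ⊔ Cfsg.oddCore G).Normal := by
  subst hN
  obtain ⟨hn, ⟨e⟩⟩ := hNA
  obtain ⟨T, P, hsc, hnc⟩ := frame_of_threeClasses S Q hS h3 A hA hA16 hn e
  exact P.sup_oddCore_normal hGold hsc hnc

end Cfsg.Agent.H22.JanType
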