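import Cfsg.Agent.H22.JanType.SylModel
import Cfsg.Agent.H48.GTwoFusion.Transfer

/-!
# Transfer: without a subgroup of index two the centre of `R` is moved inside `C(z)`
-/

set_option autoImplicit false
set_option linter.style.haveILetI false

namespace Cfsg.Agent.H22.JanType

open Subgroup Syl

universe u

variable {G : Type u} [Group G] [Finite G]

/-- the unique central involution of any Sylow subgroup -/
theorem SModel.sylow_central {S : Sylow 2 G} (M : SModel (S : Subgroup G)) (T : Sylow 2 G) :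
    ∃ h : G, (∀ x : G, x ∈ (T : Subgroup G) ↔ h⁻¹ * x * h ∈ (S : Subgroup G)) ∧
      ∀ x ∈ (T : Subgroup G), x ≠ 1 → (∀ t ∈ (T : Subgroup G), t * x = x * t) → x = h * M.z * h⁻¹ := by
  haveI : Fact (Nat.Prime 2) := ⟨Nat.prime_two⟩
  obtain ⟨h, rfl⟩ := MulAction.exists_smul_eq G S T
  have hiff : ∀ x : G, x ∈ ((h • S : Sylow 2 G) : Subgroup G) ↔ h⁻¹ * x * h ∈ (S : Subgroup G) := by
    intro x
    rw [Sylow.coe_subgroup_smul, mem_pointwise_smul_iff_inv_smul_mem, MulAut.smul_def, ← map_inv,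
      MulAut.conj_apply, inv_inv]
  refine ⟨h, hiff, fun x hx hx1 hc => ?_⟩
  have e := M.eq_z_of_central ((hiff x).1 hx) (fun s hs => ?_) (fun e => hx1 ?_)
  · rw [← e]; group
  · have := hc (h * s * h⁻¹) ((hiff _).2 (by simpa [mul_assoc] using hs))
    calc s * (h⁻¹ * x * h) = h⁻¹ * (h * s * h⁻¹ * x) * h := by group
      _ = h⁻¹ * (x * (h * s * h⁻¹)) * h := by rw [this]
      _ = _ := by group
  · calc x = h * (h⁻¹ * x * h) * h⁻¹ := by group
      _ = 1 := by rw [e]; group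

/-- `φ 8` is fused to the centre of `R` inside the centraliser of `z`. -/
theorem SModel.exists_fusion (hno : ∀ N : Subgroup G, N.Normal → N.index ≠ 2) {S : Sylow 2 G}
    (M : SModel (S : Subgroup G)) :
    ∃ e : G, e * M.z = M.z * e ∧ (e * M.φ 8 * e⁻¹ = M.φ 15 ∨ e * M.φ 8 * e⁻¹ = M.φ 31) := by
  classical
  haveI : Fact (Nat.Prime 2) := ⟨Nat.prime_two⟩
  have h8 := SModel.mem8
  set u := M.φ 8 with hu
  have huu : u * u = 1 := (M.sq_eq_one_iff h8).2 k_s.2.2.1
  have hu1 : u ≠ 1 := fun h => absurd ((M.eq_one_iff h8).1 h) (by decide)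
  have huz : u ≠ M.z := fun h => absurd (M.inj h8 SModel.mem16 h) (by decide)
  let K : Subgroup G := (S : Subgroup G) ⊓ centralizer ({u} : Set G)
  obtain ⟨g, hgR, hgK⟩ := H48.GTwoFusion.transfer_extremal hno S M.R M.R_le M.relIndex_R u
    (orderOf_eq_prime (by rw [pow_two, huu]) hu1) K (S.isPGroup'.to_le inf_le_left)
    (fun r hr => mem_centralizer_singleton_iff.1 hr.2)
  -- two elements of the centraliser
  obtain ⟨a, ha, hwit⟩ := List.any_eq_true.1 k_s.2.2.2.2.2
  simp only [Bool.and_eq_true, List.any_eq_true, Bool.not_eq_true'] at hwit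
  obtain ⟨haa, b, hb, hab⟩ := hwit
  obtain ⟨haS, ha8⟩ := List.mem_filter.1 ha
  obtain ⟨hbS, hb8⟩ := List.mem_filter.1 hb
  have haK : M.φ a ∈ K := ⟨M.mem haS,
    mem_centralizer_singleton_iff.2 ((M.comm_iff h8 haS).2 ha8).symm⟩
  have hbK : M.φ b ∈ K := ⟨M.mem hbS,
    mem_centralizer_singleton_iff.2 ((M.comm_iff h8 hbS).2 hb8).symm⟩
  set A := g * M.φ a * g⁻¹ with hA
  set B := g * M.φ b * g⁻¹ with hB
  set w := g * u * g⁻¹ with hw
  set z' := g * M.z * g⁻¹ with hz'
  have hAS : A ∈ (S : Subgroup G) := hgK _ haK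
  have hBS : B ∈ (S : Subgroup G) := hgK _ hbK
  have hconj : ∀ x y : G, g * x * g⁻¹ * (g * y * g⁻¹) = g * (x * y) * g⁻¹ := fun x y => by group
  have hinj : ∀ x y : G, g * x * g⁻¹ = g * y * g⁻¹ → x = y := fun x y e =>
    mul_left_cancel (mul_right_cancel e)
  have hABne : A * B ≠ B * A := fun e => by
    rw [hA, hB, hconj, hconj] at e
    rw [(M.comm_iff haS hbS).1 (hinj _ _ e)] at hab
    cases hab
  have hwc : ∀ x ∈ K, g * x * g⁻¹ * w = w * (g * x * g⁻¹) := fun x hx => by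
    rw [hw, hconj, hconj, mem_centralizer_singleton_iff.1 hx.2]
  have hAA : A * A = z' := by
    rw [hA, hconj, ← M.mul haS haS, Nat.eq_of_beq_eq_true haa]; rfl
  have hw2 : w * w = 1 := by rw [hw, hconj, huu]; group
  have hw1 : w ≠ 1 := fun e => hu1 (hinj u 1 (by rw [← hw, e]; group))
  have hwZ := M.zR_of_noncomm hgR hw2 hAS hBS (hwc _ haK) (hwc _ hbK) hABne
  have hz'1 : z' ≠ 1 := fun e => M.z_ne_one (hinj M.z 1 (by rw [← hz', e]; group))
  have hz'Z : z' = M.z ∨ z' = M.φ 15 ∨ z' = M.φ 31 := by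
    have := M.sq_zR hAS (by rw [hAA, hz', hconj, M.z_mul_z]; group)
    rw [hAA] at this
    exact this.resolve_left hz'1
  have hwz' : w ≠ z' := fun e => huz (hinj _ _ e)
  rcases hz'Z with hz | hz
  · -- `g` centralises `z`
    refine ⟨g, mul_inv_eq_iff_eq_mul.1 hz, ?_⟩
    exact (hwZ.resolve_left hw1).resolve_left (hz ▸ hwz')
  -- move `z'` back to `z` inside the normaliser of `R`
  have hz'R : ∀ r ∈ M.R, r * z' = z' * r := (M.central_R (M.zR_mem (Or.inr (Or.inr hz)))).2 (Or.inr (Or.inr hz))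
  set C' := centralizer ({z'} : Set G)
  have hRC : M.R ≤ C' := fun r hr => mem_centralizer_singleton_iff.2 (hz'R r hr)
  have hR2 : IsPGroup 2 (M.R.subgroupOf C') := (S.isPGroup'.to_le M.R_le).comap_subtype
  obtain ⟨T₀, hT₀⟩ := hR2.exists_le_sylow
  obtain ⟨T, hT⟩ := ((T₀.isPGroup').map C'.subtype).exists_le_sylow
  have hSC : (S : Subgroup G).map (MulAut.conj g).toMonoidHom ≤ C' := by
    rintro _ ⟨s, hs, rfl⟩
    refine mem_centralizer_singleton_iff.2 ?_
    simp only [MulEquiv.coe_toMonoidHom, MulAut.conj_apply, hz', hconj]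
    rw [M.z_comm hs]
  have h128 : 128 ≤ Nat.card ↥(T₀ : Subgroup C') := by
    obtain ⟨T₁, hT₁⟩ := ((S.isPGroup'.map (MulAut.conj g).toMonoidHom).comap_subtype
      (K := C')).exists_le_sylow
    have h : Nat.card ↥(((S : Subgroup G).map (MulAut.conj g).toMonoidHom).subgroupOf C') ≤ _ :=
      Subgroup.card_le_of_le hT₁
    rw [Nat.card_congr (subgroupOfEquivOfLe hSC).toEquiv,
      ← Nat.card_congr ((S : Subgroup G).equivMapOfInjective _ (MulAut.conj g).injective).toEquiv,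
      M.card] at h
    rw [Sylow.card_eq_multiplicity] at h ⊢
    exact h
  have hTeq : (T₀ : Subgroup C').map C'.subtype = (T : Subgroup G) := by
    refine eq_of_le_of_card_ge hT ?_
    rw [← Nat.card_congr ((T₀ : Subgroup C').equivMapOfInjective _ C'.subtype_injective).toEquiv,
      T.card_eq_multiplicity, ← S.card_eq_multiplicity, M.card]
    exact h128
  have hTC : (T : Subgroup G) ≤ C' := hTeq ▸ map_subtype_le _
  have hRT : M.R ≤ (T : Subgroup G) := fun r hr => hTeq ▸ ⟨⟨r, hRC hr⟩, hT₀ hr, rfl⟩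
  obtain ⟨h, hTh, huniq⟩ := M.sylow_central T
  have hidx : (M.R.subgroupOf (T : Subgroup G)).index = 2 := by
    have := (M.R.subgroupOf (T : Subgroup G)).card_mul_index
    rw [Nat.card_congr (subgroupOfEquivOfLe hRT).toEquiv, M.card_R, T.card_eq_multiplicity,
      ← S.card_eq_multiplicity, M.card] at this
    omega
  have hnorm : ∀ t ∈ (T : Subgroup G), ∀ r ∈ M.R, t * r * t⁻¹ ∈ M.R := fun t ht r hr =>
    (normal_of_index_eq_two hidx).conj_mem (⟨r, hRT hr⟩ : ↥(T : Subgroup G)) hr ⟨t, ht⟩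
  obtain ⟨t, ht, htR⟩ : ∃ t ∈ (T : Subgroup G), t ∉ M.R := by
    by_contra hno'
    push Not at hno'
    rw [subgroupOf_eq_top.2 hno', index_top] at hidx
    omega
  have htz' : t * z' = z' * t := mem_centralizer_singleton_iff.1 (hTC ht)
  have hzR : M.z ∈ M.R := M.zR_mem (Or.inr (Or.inl rfl))
  have htzR : t * M.z * t⁻¹ = 1 ∨ t * M.z * t⁻¹ = M.z ∨ t * M.z * t⁻¹ = M.φ 15 ∨
      t * M.z * t⁻¹ = M.φ 31 := by
    refine (M.central_R (hnorm t ht _ hzR)).1 fun r hr => ?_
    have := (M.central_R hzR).2 (Or.inr (Or.inl rfl)) (t⁻¹ * r * t) (by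
      simpa using hnorm t⁻¹ (inv_mem ht) r hr)
    calc r * (t * M.z * t⁻¹) = t * (t⁻¹ * r * t * M.z) * t⁻¹ := by group
      _ = t * (M.z * (t⁻¹ * r * t)) * t⁻¹ := by rw [this]
      _ = _ := by group
  have hne1 : t * M.z * t⁻¹ ≠ 1 := fun e => M.z_ne_one (conj_eq_one_iff.1 e)
  have hnez : t * M.z * t⁻¹ ≠ M.z := by
    intro e
    refine absurd (huniq M.z (hRT hzR) M.z_ne_one fun x hx => ?_) fun e' => ?_
    · by_cases hxR : x ∈ M.R
      · exact M.z_comm (M.R_le hxR)
      · have hxt : x * t⁻¹ ∈ M.R := by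
          have h3 : ((⟨x, hx⟩ : ↥(T : Subgroup G)) * ⟨t, ht⟩⁻¹) ∈ M.R.subgroupOf (T : Subgroup G) := by
            rw [Subgroup.mul_mem_iff_of_index_two hidx, inv_mem_iff]
            exact iff_of_false hxR htR
          exact h3
        have e2 : t * M.z = M.z * t := mul_inv_eq_iff_eq_mul.1 e
        calc x * M.z = x * t⁻¹ * (t * M.z) := by group
          _ = x * t⁻¹ * M.z * t := by rw [e2]; group
          _ = M.z * (x * t⁻¹) * t := by rw [M.z_comm (M.R_le hxt)]
          _ = _ := by group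
    · have e'' := huniq z' (hRT (M.zR_mem (Or.inr (Or.inr hz)))) hz'1 fun x hx =>
        mem_centralizer_singleton_iff.1 (hTC hx)
      have : M.z = z' := e'.trans e''.symm
      rcases hz with h | h
      · exact M.z_ne15.1 (this.trans h)
      · exact M.z_ne15.2.1 (this.trans h)
  have hnez' : t * M.z * t⁻¹ ≠ z' := fun e => by
    have : M.z = z' := by
      calc M.z = t⁻¹ * (t * M.z * t⁻¹) * t := by group
        _ = t⁻¹ * (z' * t) := by rw [e]; group
        _ = t⁻¹ * (t * z') := by rw [htz']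
        _ = z' := by group
    rcases hz with h | h
    · exact M.z_ne15.1 (this.trans h)
    · exact M.z_ne15.2.1 (this.trans h)
  set k := (u * t)⁻¹ with hk
  have hkz : (u * t) * M.z * (u * t)⁻¹ = z' := by
    have h' := (htzR.resolve_left hne1).resolve_left hnez
    rw [show u * t * M.z * (u * t)⁻¹ = u * (t * M.z * t⁻¹) * u⁻¹ by group]
    rcases h' with h' | h' <;> rcases hz with h | h <;> rw [h'] <;>
      first | exact absurd (h'.trans h.symm) hnez' | (rw [h]; first | exact M.s0_swap.1 | exact M.s0_swap.2)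
  refine ⟨k * g, ?_, ?_⟩
  · rw [← mul_inv_eq_iff_eq_mul, show k * g * M.z * (k * g)⁻¹ = k * z' * k⁻¹ by rw [hz']; group,
      ← hkz, hk]
    group
  · have hkR : ∀ r ∈ M.R, k * r * k⁻¹ ∈ M.R := fun r hr => by
      have h1 := M.conj_mem_R (inv_mem (M.mem h8)) hr
      have h2 := hnorm t⁻¹ (inv_mem ht) _ h1
      simpa [hk, mul_assoc, hu] using h2
    have hkR' : ∀ r ∈ M.R, k⁻¹ * r * k ∈ M.R := fun r hr => by
      have h2 := M.conj_mem_R (M.mem h8) (hnorm t ht r hr)
      simpa [hk, mul_assoc, hu] using h2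
    have hwR : w ∈ M.R := hgR
    rw [show k * g * u * (k * g)⁻¹ = k * w * k⁻¹ by rw [hw]; group]
    have h4 : k * w * k⁻¹ = 1 ∨ k * w * k⁻¹ = M.z ∨ k * w * k⁻¹ = M.φ 15 ∨ k * w * k⁻¹ = M.φ 31 := by
      refine (M.central_R (hkR w hwR)).1 fun r hr => ?_
      have := (M.central_R hwR).2 hwZ _ (hkR' r hr)
      calc r * (k * w * k⁻¹) = k * (k⁻¹ * r * k * w) * k⁻¹ := by group
        _ = k * (w * (k⁻¹ * r * k)) * k⁻¹ := by rw [this]
        _ = _ := by group
    refine (h4.resolve_left fun e => hw1 (conj_eq_one_iff.1 e)).resolve_left fun e => hwz' ?_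
    calc w = k⁻¹ * (k * w * k⁻¹) * k := by group
      _ = k⁻¹ * M.z * k := by rw [e]
      _ = z' := by rw [← hkz, hk]; group

end Cfsg.Agent.H22.JanType
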